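import Cfsg.Agent.SigTab.RestList_m3
import Cfsg.Agent.OddRank.SzTits
import Cfsg.Agent.Prune
set_option linter.all false
prune_inst 0x7f00000000000000000000000000000000000000000000000000000000000000000000000000000000000000000000000000000000000000000000000000000000000000000000000000000000000000003fffffffffffffffffffffffffffbeffbdffffffff
open scoped Cfsg.Agent.FastGrp

/-!
# Rows `Sig0` for the Suzuki groups and the Tits group (helper93)
-/

set_option autoImplicit false

namespace Cfsg.Agent.SigTab.SzTits

open Subgroup Cfsg Cfsg.Agent.OddRank.SzTits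

universe u

/-- `p`-rank at most three for all odd `p`: no prime in `σ(G)` -/
theorem sigma_empty {G : Type*} [Group G] [Finite G] (h : ∀ p, p.Prime → p ≠ 2 → PRankLE p 3 G) :
    sigmaSet G = ∅ := by
  rw [Set.eq_empty_iff_forall_notMem]
  rintro p ⟨hp, hp2, S, M, -, A, hA, hq, hcard⟩
  have h1 := pRankLE_subgroup (h p hp hp2) M A hA hq
  have h2 : p ^ 3 < p ^ 4 := Nat.pow_lt_pow_right hp.one_lt (by norm_num)
  omega

/-- **row `sz`** -/
theorem sz : Sig0.{u} (fun X _ => Lie.IsoSuzuki X) := by
  intro G _ _ hG
  exact sigma_empty fun p hp hp2 => suzuki_three hG hp hp2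

/-- **row `tits`** -/
theorem tits : Sig0.{u} (fun X _ => Lie.IsoTits X) := by
  intro G _ _ hG
  exact sigma_empty fun p hp hp2 => OddRank.SzTits.tits hG hp hp2

end Cfsg.Agent.SigTab.SzTits
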