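import Cfsg.Agent.SigTab.RestList_m3
import Mathlib
import Cfsg.Agent.GpLn.Quot
import Cfsg.Agent.S0243
import Cfsg.Agent.H283.SporLie_m3
import Cfsg.Agent.LThreeO10.Main
import Cfsg.Agent.S0293
import Cfsg.Agent.S0294
import Cfsg.Agent.S0302
import Cfsg.Agent.S0303
import Cfsg.Agent.GpUn.Row
import Cfsg.Agent.GpSp.Row
import Cfsg.Agent.SigZero.Base
import Cfsg.Agent.LieClassical.SUBasic
import Cfsg.Agent.LieClassical.OrthCenter
import Cfsg.Agent.LieClassical.OrthForms
import Cfsg.Agent.SigZeroU5.Rows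
import Cfsg.Agent.H296.FFourPar
import Cfsg.Agent.SigTab.SzTits
import Cfsg.Agent.BiChar.SmallTools_m3
import Cfsg.Agent.BiChar.TwDFour
import Cfsg.Agent.BiChar.TwFFour
import Cfsg.Agent.BiChar.SmallSig
import Cfsg.Agent.H245.SuzInv
import Cfsg.Agent.BpSpor.CoThreeCent
import Cfsg.Agent.SigZeroCo2.Final
import Cfsg.Agent.SigZeroHN.Main
import Cfsg.Agent.Sigma.ThRow
import Cfsg.Agent.S1066
import Cfsg.Agent.CharThree.Rows
import Cfsg.Agent.LThreeU7.U7
import Cfsg.Agent.LThreeFi22.Rows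
import Cfsg.Agent.LThreeFi23.Sig_mg
import Cfsg.Agent.OrdCrit.Main
import Cfsg.Agent.S1062
import Cfsg.Agent.S1063
import Cfsg.Agent.S1064
import Cfsg.Agent.S1065
import Cfsg.Agent.GpExc.Tab
import Cfsg.Agent.PRankPar.Inst
import Cfsg.Agent.GpExc.TwNode
import Cfsg.Agent.ETable.ExcTwE6
import Cfsg.Agent.ChevalleyStructure.FixedCard
import Cfsg.Agent.ChevalleyStructure.TwE6Card
import Cfsg.Agent.Nodes.CardSup_m3
import Cfsg.Agent.ChevalleyStructure.TwE6Basic
import Cfsg.Agent.LThreeM.SigRow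
import Cfsg.Agent.OrdCrit.Spor
import Cfsg.Agent.OddTab.GenRowsDone
import Cfsg.Agent.OddTab.BRowsDone
import Cfsg.Agent.NotResT.All
import Cfsg.Agent.GTwoRows.Rows
import Cfsg.Agent.GTwoRows.ONFin
import Cfsg.Agent.Lib.Refl
import Cfsg.Agent.ChevFast.E6
import Cfsg.Agent.FastGrp
import Cfsg.Agent.Prune
set_option linter.all false
prune_inst 0x7f00000000000000000000000000000000000000000000000000000000000000000000000000000000000000000000000000000000000000000000000000000000000000000000000000000000000000003fffffffffffffffffffffffffffbeffbdffffffff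
open scoped Cfsg.Agent.FastGrp

-- merged: Cfsg.Agent.SigTab.Tri
section

/-!
# S1805, S1806, S1807: the trichotomy (helper7)

`Tri G` : `σ(G) = ∅`, or `G` is in `K⁽⁵⁾` with `σ(G) ⊆ {3}`, or for every `p ∈ σ(G)` some element of `L_p°(G)` is
neither in `C_p` nor in `T_p`.

`TriC G` is the same with, in the second case, every element of `L_3°(G)` in `C_3`.
-/

set_option autoImplicit false

namespace Cfsg.Agent.SigTab

open Cfsg Cfsg.Agent.SevenCases

universe u

/-- the trichotomy, with an extra property `E` in the second case -/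
def TriW (G : Type u) [Group G] (E : Prop) : Prop :=
  sigmaSet G = ∅ ∨ (InTargetFive G ∧ (∀ p ∈ sigmaSet G, p = 3) ∧ E) ∨ (∀ p ∈ sigmaSet G, ¬ LpoAll p G (InCT p))

/-- the trichotomy -/
def Tri (G : Type u) [Group G] : Prop := TriW G True

/-- the trichotomy with `L_3°(G) ⊆ C_3` in the second case -/
def TriC (G : Type u) [Group G] : Prop := TriW G (LpoAll 3 G (InC 3))

theorem even_card_of_charP (F : Type) [Field F] [Fintype F] [CharP F 2] : Even (Fintype.card F) := by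
  have h : ringChar F = 2 := (ringChar.eq_iff (R := F)).2 inferInstance
  have h1 := (FiniteField.even_card_iff_char_two (F := F)).1 h
  exact Nat.even_iff.2 h1

theorem even_of_pow {q k : ℕ} (h : Even (q ^ k)) : Even q := by
  by_contra hq
  rw [Nat.not_even_iff_odd] at hq
  exact (Nat.not_even_iff_odd.2 (hq.pow)) h

theorem two_le_card (F : Type) [Field F] [Fintype F] : 2 ≤ Fintype.card F := Fintype.one_lt_card

/-- an extra property valid for all twelve groups of `K⁽⁵⁾` -/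
structure FiveE (E : ∀ (X : Type u) [Group X], Prop) : Prop where
  o73 : ∀ (G : Type u) [Group G] [Finite G], OmegaOdd (fun m q => m = 3 ∧ q = 3) G → E G
  o8p3 : ∀ (G : Type u) [Group G] [Finite G], OmegaPlusOdd (fun m q => m = 4 ∧ q = 3) G → E G
  o8m3 : ∀ (G : Type u) [Group G] [Finite G], OmegaMinusOdd (fun m q => m = 4 ∧ q = 3) G → E G
  o10m2 : ∀ (G : Type u) [Group G] [Finite G], OmegaMinusEven (fun m q => m = 5 ∧ q = 2) G → E G
  u72 : ∀ (G : Type u) [Group G] [Finite G], PsuEven (fun n q => n = 7 ∧ q = 2) G → E G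
  twE62 : ∀ (G : Type u) [Group G] [Finite G], TwESixEven (fun q => q = 2) G → E G
  fi22 : ∀ (G : Type u) [Group G] [Finite G], Spor.IsoFi22 G → E G
  fi23 : ∀ (G : Type u) [Group G] [Finite G], Spor.IsoFi23 G → E G
  fi24 : ∀ (G : Type u) [Group G] [Finite G], Spor.IsoFi24' G → E G
  co1 : ∀ (G : Type u) [Group G] [Finite G], Spor.IsoCo1 G → E G
  b : ∀ (G : Type u) [Group G] [Finite G], Spor.IsoB G → E G
  m : ∀ (G : Type u) [Group G] [Finite G], Spor.IsoM G → E G

theorem FiveE.true : FiveE.{u} (fun _ _ => True) where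
  o73 := fun _ _ _ _ => trivial
  o8p3 := fun _ _ _ _ => trivial
  o8m3 := fun _ _ _ _ => trivial
  o10m2 := fun _ _ _ _ => trivial
  u72 := fun _ _ _ _ => trivial
  twE62 := fun _ _ _ _ => trivial
  fi22 := fun _ _ _ _ => trivial
  fi23 := fun _ _ _ _ => trivial
  fi24 := fun _ _ _ _ => trivial
  co1 := fun _ _ _ _ => trivial
  b := fun _ _ _ _ => trivial
  m := fun _ _ _ _ => trivial

theorem FiveE.ofFiveC (h : FiveC.{u}) : FiveE.{u} (fun X _ => LpoAll 3 X (InC 3)) where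
  o73 := h.o73
  o8p3 := h.o8p3
  o8m3 := h.o8m3
  o10m2 := h.o10m2
  u72 := h.u72
  twE62 := h.twE62
  fi22 := h.fi22
  fi23 := h.fi23
  fi24 := h.fi24
  co1 := h.co1
  b := h.b
  m := h.m

section

variable {E : ∀ (X : Type u) [Group X], Prop} (hS : Sig0Lie.{u}) (hF : FiveSig.{u}) (hE : FiveE.{u} E)
  (hN : NotCTRows.{u})

include hS hF hE hN

/-- **The trichotomy in characteristic two.** -/
theorem triW_lie_two {G : Type u} [Group G] [Finite G] (h : IsLieTypeChar 2 G) : TriW G (E G) := by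
  rcases h with h | h | h | h | h | h | h | h | h | h | h
  · -- linear
    obtain ⟨F, iF, iFt, iC, n, hn, hq, ⟨e⟩⟩ := h
    have hev := even_card_of_charP F
    have h2 := two_le_card F
    by_cases hc : n ≤ 4 ∨ (n ≤ 7 ∧ Fintype.card F = 2)
    · exact Or.inl (hS.psl G ⟨F, iF, iFt, n, hev, ⟨hn, hc⟩, ⟨e⟩⟩)
    · push Not at hc
      exact Or.inr (Or.inr (hN.psl G ⟨F, iF, iFt, n, hev, ⟨by omega, fun h2 => by
        by_contra hcon; exact hc.2 (by omega) h2⟩, ⟨e⟩⟩))
  · -- symplectic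
    obtain ⟨F, iF, iFt, iC, m, hm, hq, ⟨e⟩⟩ := h
    have hev := even_card_of_charP F
    have h2 := two_le_card F
    by_cases hc : m ≤ 3 ∨ (m = 4 ∧ Fintype.card F = 2)
    · exact Or.inl (hS.psp G ⟨F, iF, iFt, m, hev, ⟨hm, hc⟩, ⟨e⟩⟩)
    · push Not at hc
      exact Or.inr (Or.inr (hN.psp G ⟨F, iF, iFt, m, hev, ⟨by omega, fun h2 => by
        by_contra hcon; exact hc.2 (by omega) h2⟩, ⟨e⟩⟩))
  · -- unitary
    obtain ⟨F, iF, iFt, iC, n, q, hFq, hn, hq, ⟨e⟩⟩ := h
    have hev : Even q := even_of_pow (k := 2) (hFq ▸ even_card_of_charP F)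
    have h2 := two_le_card F
    by_cases hc : n ≤ 5 ∨ (n = 6 ∧ q = 2)
    · exact Or.inl (hS.psu G ⟨F, iF, iFt, n, q, hev, hFq, ⟨hn, hc⟩, ⟨e⟩⟩)
    · push Not at hc
      by_cases hc7 : n = 7 ∧ q = 2
      · have hP : PsuEven (fun n q => n = 7 ∧ q = 2) G := ⟨F, iF, iFt, n, q, hev, hFq, hc7, ⟨e⟩⟩
        refine Or.inr (Or.inl ⟨?_, hF.u72 G hP, hE.u72 G hP⟩)
        obtain ⟨rfl, rfl⟩ := hc7
        exact Or.inr (Or.inr (Or.inl ⟨F, iF, iFt, by rw [hFq]; norm_num, Or.inl ⟨e⟩⟩))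
      · exact Or.inr (Or.inr (hN.psu G ⟨F, iF, iFt, n, q, hev, hFq, ⟨by omega, fun h2 => by
          by_contra hcon
          have h6 : n = 6 ∨ n = 7 := by omega
          rcases h6 with h6 | h6
          · exact hc.2 h6 h2
          · exact hc7 ⟨h6, h2⟩⟩, ⟨e⟩⟩))
  · -- odd-dimensional orthogonal
    obtain ⟨F, iF, iFt, iC, m, hm, hq, ⟨e⟩⟩ := h
    exact absurd (even_card_of_charP F) (Nat.not_even_iff_odd.2 hq)
  · -- orthogonal of plus type
    obtain ⟨F, iF, iFt, iC, m, hm, ⟨e⟩⟩ := h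
    have hev := even_card_of_charP F
    by_cases hc : m = 4 ∧ Fintype.card F = 2
    · exact Or.inl (hS.omegaPlus G ⟨F, iF, iFt, m, hev, hc, ⟨e⟩⟩)
    · push Not at hc
      exact Or.inr (Or.inr (hN.omegaPlus G ⟨F, iF, iFt, m, hev, ⟨hm, fun h2 => by
        by_contra hcon; exact hc (by omega) h2⟩, ⟨e⟩⟩))
  · -- orthogonal of minus type
    obtain ⟨F, iF, iFt, iC, m, a, b, hm, hab, ⟨e⟩⟩ := h
    have hev := even_card_of_charP F
    by_cases hc4 : m = 4
    · exact Or.inl (hS.omegaMinus G ⟨F, iF, iFt, m, a, b, hev, hc4, hab, ⟨e⟩⟩)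
    · by_cases hc : m = 5 ∧ Fintype.card F = 2
      · have hP : OmegaMinusEven (fun m q => m = 5 ∧ q = 2) G := ⟨F, iF, iFt, m, a, b, hev, hc, hab, ⟨e⟩⟩
        refine Or.inr (Or.inl ⟨?_, hF.o10m2 G hP, hE.o10m2 G hP⟩)
        obtain ⟨rfl, h2⟩ := hc
        exact Or.inr (Or.inl ⟨F, iF, iFt, h2, a, b, hab, ⟨e⟩⟩)
      · push Not at hc
        exact Or.inr (Or.inr (hN.omegaMinus G ⟨F, iF, iFt, m, a, b, hev, ⟨by omega, fun h2 => by
          by_contra hcon; exact hc (by omega) h2⟩, hab, ⟨e⟩⟩))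
  · -- exceptional
    obtain ⟨F, iF, iFt, iC, h⟩ := h
    have hev := even_card_of_charP F
    have h2 := two_le_card F
    rcases h with ⟨_, ⟨e⟩⟩ | ⟨⟨e⟩⟩ | ⟨⟨e⟩⟩ | ⟨⟨e⟩⟩ | ⟨⟨e⟩⟩
    · exact Or.inl (hS.g2 G ⟨F, iF, iFt, hev, trivial, ⟨e⟩⟩)
    · by_cases hc : Fintype.card F = 2
      · exact Or.inl (hS.f4 G ⟨F, iF, iFt, hev, hc, ⟨e⟩⟩)
      · exact Or.inr (Or.inr (hN.f4 G ⟨F, iF, iFt, hev, by omega, ⟨e⟩⟩))
    · exact Or.inr (Or.inr (hN.e6 G ⟨F, iF, iFt, hev, ⟨e⟩⟩))
    · exact Or.inr (Or.inr (hN.e7 G ⟨F, iF, iFt, hev, ⟨e⟩⟩))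
    · exact Or.inr (Or.inr (hN.e8 G ⟨F, iF, iFt, hev, ⟨e⟩⟩))
  · -- twisted
    obtain ⟨K, iK, iKt, iC, q, hq, h⟩ := h
    have hev := even_card_of_charP K
    have hq2 : 2 ≤ q := hq.two_le
    rcases h with ⟨hKq, ⟨e⟩⟩ | ⟨hKq, ⟨e⟩⟩
    · have hevq : Even q := even_of_pow (k := 2) (hKq ▸ hev)
      by_cases hc : q = 2
      · have hP : TwESixEven (fun q => q = 2) G := ⟨K, iK, iKt, q, hevq, hKq, hc, ⟨e⟩⟩
        refine Or.inr (Or.inl ⟨?_, hF.twE62 G hP, hE.twE62 G hP⟩)
        subst hc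
        exact Or.inr (Or.inr (Or.inl ⟨K, iK, iKt, by rw [hKq]; norm_num, Or.inr ⟨e⟩⟩))
      · exact Or.inr (Or.inr (hN.twE6 G ⟨K, iK, iKt, q, hevq, hKq, by omega, ⟨e⟩⟩))
    · have hevq : Even q := even_of_pow (k := 3) (hKq ▸ hev)
      exact Or.inl (hS.d4 G ⟨K, iK, iKt, q, hevq, hKq, ⟨e⟩⟩)
  · exact Or.inl (hS.sz G h.2)
  · exact Or.inl (hS.ree G h.2)
  · exact absurd h.1 (by norm_num)

/-- the trichotomy for the simple groups in `Chev(2)`; `U₃(3)` is excluded since it is not of restricted even type -/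
theorem triW_chev_two {G : Type u} [Group G] [Finite G] (h : IsChevSimple 2 G)
    (hu : ¬ PsuOdd (fun n _ => n = 3) G) : TriW G (E G) := by
  rcases h with h | ⟨_, h⟩ | ⟨h, _⟩
  · exact triW_lie_two hS hF hE hN h
  · rcases h with ⟨⟨e⟩⟩ | ⟨F, iF, iFt, hc, ⟨e⟩⟩ | h
    · exact Or.inl (hS.alt G ⟨6, by norm_num, ⟨e⟩⟩)
    · exact absurd ⟨F, iF, iFt, 3, 3, by decide, hc, rfl, ⟨e⟩⟩ hu
    · exact Or.inl (hS.tits G h)
  · exact absurd h (by norm_num)

/-- **The trichotomy on `RestList`.** -/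
theorem triW_restList (hP : Sig0Spor.{u}) {G : Type u} [Group G] [Finite G] (h : RestList G)
    (hu : ¬ PsuOdd (fun n _ => n = 3) G) : TriW G (E G) := by
  rcases h with h | h | h | h | h | h | h | h | h | h
  · exact triW_chev_two hS hF hE hN h hu
  · obtain ⟨n, hn, e⟩ := h
    exact Or.inl (hS.alt G ⟨n, by subst hn; norm_num, e⟩)
  · obtain ⟨n, hn, e⟩ := h
    exact Or.inl (hS.alt G ⟨n, by subst hn; norm_num, e⟩)
  · exact Or.inl (hS.l43 G h)
  · exact Or.inl (hS.u43 G h)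
  · exact Or.inl (hS.g23 G h)
  · refine Or.inr (Or.inl ⟨?_, hF.o73 G h, hE.o73 G h⟩)
    obtain ⟨F, iF, iFt, m, ho, ⟨rfl, hc⟩, e⟩ := h
    exact Or.inl ⟨F, iF, iFt, hc, Or.inl e⟩
  · refine Or.inr (Or.inl ⟨?_, hF.o8p3 G h, hE.o8p3 G h⟩)
    obtain ⟨F, iF, iFt, m, ho, ⟨rfl, hc⟩, e⟩ := h
    exact Or.inl ⟨F, iF, iFt, hc, Or.inr (Or.inl e)⟩
  · refine Or.inr (Or.inl ⟨?_, hF.o8m3 G h, hE.o8m3 G h⟩)
    obtain ⟨F, iF, iFt, m, a, b, ho, ⟨rfl, hc⟩, hab, e⟩ := h
    exact Or.inl ⟨F, iF, iFt, hc, Or.inr (Or.inr ⟨a, b, hab, e⟩)⟩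
  · rcases h with h | h | h | h | h | h | h | h | h | h | h | h | h | h | h | h | h | h | h | h
    · exact Or.inl (hP.m22 G h)
    · exact Or.inl (hP.m23 G h)
    · exact Or.inl (hP.m24 G h)
    · exact Or.inl (hP.j2 G h)
    · exact Or.inl (hP.j3 G h)
    · exact Or.inl (hP.j4 G h)
    · exact Or.inl (hP.hs G h)
    · exact Or.inl (hP.he G h)
    · exact Or.inl (hP.ru G h)
    · exact Or.inl (hP.suz G h)
    · refine Or.inr (Or.inl ⟨?_, hF.co1 G h, hE.co1 G h⟩)
      unfold InTargetFive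
      simp only [h, true_or, or_true]
    · exact Or.inl (hP.co2 G h)
    · exact Or.inl (hP.co3 G h)
    · refine Or.inr (Or.inl ⟨?_, hF.fi22 G h, hE.fi22 G h⟩)
      unfold InTargetFive
      simp only [h, true_or, or_true]
    · refine Or.inr (Or.inl ⟨?_, hF.fi23 G h, hE.fi23 G h⟩)
      unfold InTargetFive
      simp only [h, true_or, or_true]
    · refine Or.inr (Or.inl ⟨?_, hF.fi24 G h, hE.fi24 G h⟩)
      unfold InTargetFive
      simp only [h, true_or, or_true]
    · exact Or.inl (hP.hn G h)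
    · exact Or.inl (hP.th G h)
    · refine Or.inr (Or.inl ⟨?_, hF.b G h, hE.b G h⟩)
      unfold InTargetFive
      simp only [h, true_or, or_true]
    · refine Or.inr (Or.inl ⟨?_, hF.m G h, hE.m G h⟩)
      unfold InTargetFive
      simp only [h, true_or, or_true]

/-- **The trichotomy for a known simple group of restricted even type.** -/
theorem triW (hP : Sig0Spor.{u}) (hG : GenRows.{u}) (hB : BRows.{u}) (hBC : BNotC.{u}) (hR : NotResMore.{u})
    {G : Type u} [Group G] [Finite G] (hk : IsKnownSimple' G) (hna : ¬ IsMulCommutative G)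
    (hr : IsOfRestrictedEvenType G) : TriW G (E G) :=
  triW_restList hS hF hE hN hP (restList hG hB hBC hR hk hna hr) fun h => hR.psu3 G h hr

end

/-! ### The consequences -/

/-- S1805 from the trichotomy. -/
theorem lcp {G : Type u} [Group G] {p : ℕ} (h : Tri G) (hp : p ∈ sigmaSet G) (hL : IsLCpType p G) :
    p = 3 ∧ InTargetFive G := by
  rcases h with h | ⟨h5, h3, -⟩ | h
  · rw [h] at hp
    exact absurd hp (Set.notMem_empty p)
  · exact ⟨h3 p hp, h5⟩
  · exact absurd (fun x hx hr K hK => Or.inl (hL.2 x hx hr K hK)) (h p hp)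

/-- S1806 from the trichotomy. -/
theorem not_ltp {G : Type u} [Group G] {p : ℕ} (h : TriC G) (hp : p ∈ sigmaSet G) : ¬ IsLTpType p G := by
  rintro ⟨-, h1, h2⟩
  rcases h with h | ⟨-, h3, hC⟩ | h
  · rw [h] at hp
    exact absurd hp (Set.notMem_empty p)
  · obtain rfl := h3 p hp
    exact h2 hC
  · exact h p hp h1

end Cfsg.Agent.SigTab

end

-- merged: Cfsg.Agent.SigTab.Final
section

/-!
# S1805, S1806 from the table (helper7)
-/

set_option autoImplicit false

namespace Cfsg.Agent.SigTab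

open Cfsg Cfsg.Agent.SevenCases

universe u

/-- The whole table, except the rows `FiveC`. -/
structure SigTable : Prop where
  sig0Lie : Sig0Lie.{u}
  sig0Spor : Sig0Spor.{u}
  fiveSig : FiveSig.{u}
  notCT : NotCTRows.{u}
  gen : GenRows.{u}
  b : BRows.{u}
  bNotC : BNotC.{u}
  notRes : NotResMore.{u}

theorem SigTable.tri (T : SigTable.{u}) {G : Type u} [Group G] [Finite G] (hk : IsKnownSimple' G)
    (hna : ¬ IsMulCommutative G) (hR : IsOfRestrictedEvenType G) : Tri G :=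
  triW T.sig0Lie T.fiveSig FiveE.true T.notCT T.sig0Spor T.gen T.b T.bNotC T.notRes hk hna hR

theorem SigTable.triC (T : SigTable.{u}) (hC : FiveC.{u}) {G : Type u} [Group G] [Finite G] (hk : IsKnownSimple' G)
    (hna : ¬ IsMulCommutative G) (hR : IsOfRestrictedEvenType G) : TriC G :=
  triW T.sig0Lie T.fiveSig (FiveE.ofFiveC hC) T.notCT T.sig0Spor T.gen T.b T.bNotC T.notRes hk hna hR

/-- **S1805 from the table.** -/
theorem s1805 (T : SigTable.{u}) {G : Type u} [Group G] [Finite G] (hk : IsKnownSimple' G)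
    (hna : ¬ IsMulCommutative G) (hR : IsOfRestrictedEvenType G) (p : ℕ) (hp : p ∈ sigmaZeroSet G)
    (hL : IsLCpType p G) : p = 3 ∧ InTargetFive G :=
  lcp (T.tri hk hna hR) hp.1 hL

/-- **S1806 from the table.** -/
theorem s1806 (T : SigTable.{u}) (hC : FiveC.{u}) {G : Type u} [Group G] [Finite G] (hk : IsKnownSimple' G)
    (hna : ¬ IsMulCommutative G) (hR : IsOfRestrictedEvenType G) :
    ∀ p ∈ sigmaZeroSet G, ¬ IsLTpType p G :=
  fun _ hp => not_ltp (T.triC hC hk hna hR) hp.1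

end Cfsg.Agent.SigTab

end

-- merged: Cfsg.Agent.GpLn.Big
section

/-!
# `PSL_n(q)`, `p ∤ q - 1`: a `p`-element with centralizer `GL_d × GL_{n-d}` (helper70)
-/

set_option autoImplicit false
set_option linter.style.haveILetI false

namespace Cfsg.Agent.GpLn.Big

open Subgroup Cfsg Matrix Cfsg.Agent.GpLn.Block Cfsg.Agent.GpLn.Rank Cfsg.Agent.GpLn.Elem Cfsg.Agent.GpLn.Quot

universe u v w

/-- the non-isomorphism input: quasisimple groups `K` with `K / Z(K) ≅ PSL_m(F)` of `p`-rank at least `2` are not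
in `C_p ∪ T_p` -/
def NoCT (F : Type v) [Field F] [Fintype F] (p : ℕ) : Prop :=
  ∀ m : ℕ, 4 ≤ m → (Fintype.card F = 2 → 6 ≤ m) →
    ∀ (K : Type u) [Group K] [Finite K], IsQuasisimple K →
      Nonempty (K ⧸ center K ≃* ProjectiveSpecialLinearGroup (Fin m) F) → PRankAtLeast p 2 K → ¬ InCT p K

/-- central quotients of isomorphic groups -/
theorem quotCenterCongr {X Y : Type*} [Group X] [Group Y] (e : X ≃* Y) :
    Nonempty (X ⧸ center X ≃* Y ⧸ center Y) := by
  refine ⟨QuotientGroup.congr (center X) (center Y) e ?_⟩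
  ext y
  constructor
  · rintro ⟨x, hx, rfl⟩
    rw [SetLike.mem_coe, mem_center_iff] at hx
    rw [mem_center_iff]
    intro z
    obtain ⟨z, rfl⟩ := e.surjective z
    have := congrArg e (hx z)
    rw [map_mul, map_mul] at this
    exact this
  · intro hy
    obtain ⟨x, rfl⟩ := e.surjective y
    refine ⟨x, ?_, rfl⟩
    rw [mem_center_iff] at hy
    rw [SetLike.mem_coe, mem_center_iff]
    intro z
    apply e.injective
    rw [map_mul, map_mul]
    exact hy (e z)

theorem NoCT.of_fintype {F : Type v} [Field F] [Fintype F] {p : ℕ} (h : NoCT.{u} F p) {κ : Type w} [Fintype κ]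
    [DecidableEq κ] (h4 : 4 ≤ Fintype.card κ) (h2 : Fintype.card F = 2 → 6 ≤ Fintype.card κ) (K : Type u) [Group K] [Finite K] (hK : IsQuasisimple K)
    (e : Nonempty (K ⧸ center K ≃* ProjectiveSpecialLinearGroup κ F)) (hr : PRankAtLeast p 2 K) : ¬ InCT p K := by
  obtain ⟨e⟩ := e
  obtain ⟨e'⟩ := quotCenterCongr (slReindex (F := F) (Fintype.equivFin κ))
  exact h (Fintype.card κ) h4 h2 K hK ⟨e.trans e'⟩ hr

/-- homomorphisms and the `p`-rank -/
theorem rank_of_ker {X : Type*} {B : Type*} [Group X] [Group B] [Finite B] (hB : ∀ a b : B, a * b = b * a) {p k : ℕ}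
    (Φ : B →* X) (hexp : ∀ b : B, Φ b ^ p = 1) (hcard : p ^ k * Nat.card Φ.ker ≤ Nat.card B) :
    PRankAtLeast p k X := by
  refine ⟨Φ.range, ⟨⟨?_⟩⟩, ?_, ?_⟩
  · rintro ⟨_, b, rfl⟩ ⟨_, c, rfl⟩
    refine Subtype.ext ?_
    show Φ b * Φ c = Φ c * Φ b
    rw [← map_mul, ← map_mul, hB]
  · rintro _ ⟨b, rfl⟩
    exact hexp b
  · have h1 : Nat.card Φ.ker * Nat.card Φ.range = Nat.card B := by
      rw [← Subgroup.index_ker, Subgroup.card_mul_index]
    rw [← h1, mul_comm] at hcard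
    exact Nat.le_of_mul_le_mul_left hcard Nat.card_pos

/-- homomorphisms and the `p`-rank of a centralizer -/
theorem rank_cent {X : Type*} {G : Type*} {B : Type*} [Group X] [Group G] [Group B] [Finite B]
    (hB : ∀ a b : B, a * b = b * a) {π : X →* G} {x : X} {p k : ℕ} (Φ : B →* X)
    (hexp : ∀ b : B, π (Φ b) ^ p = 1) (hcard : p ^ k * Nat.card (π.comp Φ).ker ≤ Nat.card B)
    (hcomm : ∀ b, Φ b * x = x * Φ b) :
    PRankAtLeast p k ↥(centralizer ({π x} : Set G)) := by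
  let Ψ : B →* ↥(centralizer ({π x} : Set G)) :=
    (π.comp Φ).codRestrict _ (fun b => by
      rw [mem_centralizer_singleton_iff]
      show π (Φ b) * π x = π x * π (Φ b)
      rw [← map_mul, ← map_mul, hcomm])
  refine rank_of_ker hB Ψ (fun b => Subtype.ext (hexp b)) ?_
  have h1 : Ψ.ker = (π.comp Φ).ker := by
    ext b
    rw [MonoidHom.mem_ker, MonoidHom.mem_ker]
    constructor
    · intro h
      exact congrArg Subtype.val h
    · intro h
      exact Subtype.ext h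
  rw [h1]
  exact hcard

section

variable {F : Type*} [Field F]

/-- block diagonal matrices with three `d × d` blocks and `r` ones -/
def psi (d r : ℕ) : (Fin 3 → _root_.Matrix.SpecialLinearGroup (Fin d) F) →* _root_.Matrix.SpecialLinearGroup ((Fin d × Fin 3) ⊕ Fin r) F where
  toFun b := ⟨fromBlocks (blockDiagonal fun j => (b j : Matrix (Fin d) (Fin d) F)) 0 0 1, by
    rw [det_fromBlocks_zero₁₂, det_blockDiagonal, det_one, mul_one]
    exact Finset.prod_eq_one fun j _ => (b j).2⟩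
  map_one' := by
    refine ext' ?_
    show fromBlocks (blockDiagonal fun j : Fin 3 => (1 : Matrix (Fin d) (Fin d) F)) 0 0 1 = 1
    have h : (blockDiagonal fun j : Fin 3 => (1 : Matrix (Fin d) (Fin d) F)) = 1 := blockDiagonal_one
    rw [h, fromBlocks_one]
  map_mul' a b := by
    refine ext' ?_
    show fromBlocks (blockDiagonal fun j : Fin 3 => ((a j * b j : _root_.Matrix.SpecialLinearGroup (Fin d) F) : Matrix (Fin d) (Fin d) F)) 0 0 1 =
      fromBlocks (blockDiagonal fun j => (a j : Matrix (Fin d) (Fin d) F)) 0 0 1 *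
        fromBlocks (blockDiagonal fun j => (b j : Matrix (Fin d) (Fin d) F)) 0 0 1
    rw [fromBlocks_multiply]
    simp only [Matrix.SpecialLinearGroup.coe_mul, Matrix.mul_zero, Matrix.zero_mul, add_zero, zero_add,
      Matrix.mul_one, blockDiagonal_mul]

/-- pairs of blocks -/
def pair (ι κ : Type*) [Fintype ι] [DecidableEq ι] [Fintype κ] [DecidableEq κ] :
    _root_.Matrix.SpecialLinearGroup ι F × _root_.Matrix.SpecialLinearGroup κ F →* _root_.Matrix.SpecialLinearGroup (ι ⊕ κ) F where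
  toFun x := ⟨fromBlocks (x.1 : Matrix ι ι F) 0 0 (x.2 : Matrix κ κ F), by
    rw [det_fromBlocks_zero₁₂, x.1.2, x.2.2, one_mul]⟩
  map_one' := by
    refine ext' ?_
    show fromBlocks (1 : Matrix ι ι F) 0 0 (1 : Matrix κ κ F) = 1
    rw [fromBlocks_one]
  map_mul' a b := by
    refine ext' ?_
    show fromBlocks ((a.1 * b.1 : _root_.Matrix.SpecialLinearGroup ι F) : Matrix ι ι F) 0 0
      ((a.2 * b.2 : _root_.Matrix.SpecialLinearGroup κ F) : Matrix κ κ F) = fromBlocks (a.1 : Matrix ι ι F) 0 0 (a.2 : Matrix κ κ F) *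
        fromBlocks (b.1 : Matrix ι ι F) 0 0 (b.2 : Matrix κ κ F)
    rw [fromBlocks_multiply]
    simp only [Matrix.SpecialLinearGroup.coe_mul, Matrix.mul_zero, Matrix.zero_mul, add_zero, zero_add]

end

/-- the order of `q` modulo `p` -/
theorem ord_facts {q p : ℕ} (hp : p.Prime) (hq : ¬ p ∣ q) (hq0 : 1 < q) (hp1 : ¬ p ∣ q - 1) :
    2 ≤ orderOf ((q : ℕ) : ZMod p) ∧ p ∣ q ^ orderOf ((q : ℕ) : ZMod p) - 1 := by
  haveI : Fact p.Prime := ⟨hp⟩
  have h0 : ((q : ℕ) : ZMod p) ≠ 0 := by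
    rw [Ne, ZMod.natCast_eq_zero_iff]
    exact hq
  have hd0 : 0 < orderOf ((q : ℕ) : ZMod p) := by
    rw [orderOf_pos_iff, isOfFinOrder_iff_pow_eq_one]
    exact ⟨p - 1, by have := hp.two_le; omega, ZMod.pow_card_sub_one_eq_one h0⟩
  have hd1 : orderOf ((q : ℕ) : ZMod p) ≠ 1 := by
    intro h
    rw [orderOf_eq_one_iff] at h
    apply hp1
    rw [← ZMod.natCast_eq_zero_iff, Nat.cast_sub hq0.le, h, Nat.cast_one, sub_self]
  refine ⟨by omega, ?_⟩
  rw [← ZMod.natCast_eq_zero_iff, Nat.cast_sub (Nat.one_le_pow _ _ (by omega)), Nat.cast_pow, pow_orderOf_eq_one,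
    Nat.cast_one, sub_self]

/-- **The case `p ∤ q - 1`.** -/
theorem big {G : Type u} [Group G] [Finite G] {F : Type v} [Field F] [Fintype F] {n p : ℕ}
    (e : G ≃* ProjectiveSpecialLinearGroup (Fin n) F) (hp : p.Prime) (hp2 : p ≠ 2) (hpF : (p : F) ≠ 0)
    (hp1 : ¬ p ∣ Fintype.card F - 1) (h4 : PRankAtLeast p 4 G) (hno : NoCT.{u} F p) :
    ¬ LpoAll p G (InCT p) := by
  classical
  haveI : Fact p.Prime := ⟨hp⟩
  have hpq : ¬ p ∣ Fintype.card F := by
    rintro h
    apply hpF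
    obtain ⟨m, hm⟩ := h
    have h1 : ((Fintype.card F : ℕ) : F) = 0 := FiniteField.cast_card_eq_zero F
    obtain ⟨c, hc⟩ := CharP.exists F
    haveI := hc
    obtain ⟨k, hc1, hk⟩ := FiniteField.card F c
    rw [CharP.cast_eq_zero_iff F c]
    have h2 : p ∣ c := by
      apply hp.dvd_of_dvd_pow
      rw [← hk]
      exact ⟨m, hm⟩
    rw [(Nat.prime_dvd_prime_iff_eq hp hc1).1 h2]
  have hq1 : 1 < Fintype.card F := Fintype.one_lt_card
  obtain ⟨hd1, hpd⟩ := ord_facts hp hpq hq1 hp1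
  rw [← Nat.card_eq_fintype_card] at hd1
  have hn : 4 * orderOf ((Nat.card F : ℕ) : ZMod p) ≤ n := by
    refine mul_ord_le_psl (F := F) hp hpF hp1 (rank_quot e.toMonoidHom ?_ h4)
    have h1 : e.toMonoidHom.ker = ⊥ := (MonoidHom.ker_eq_bot_iff _).2 e.injective
    rw [h1, Subgroup.card_bot]
    exact Nat.coprime_one_left p
  rw [← Nat.card_eq_fintype_card (α := F), Nat.card_eq_fintype_card (α := F)] at hpd
  generalize hd : orderOf ((Nat.card F : ℕ) : ZMod p) = d at hd1 hn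
  have hpd : p ∣ Fintype.card F ^ d - 1 := by
    rw [← hd, Nat.card_eq_fintype_card]
    exact hpd
  obtain ⟨r, hr⟩ := Nat.exists_eq_add_of_le hn
  obtain ⟨A, hA⟩ := exists_order (F := F) hp (by omega) hpd hp1
  have hA1 := det_sub_one_ne_zero hp hpF hd A hA
  have hcard : Fintype.card (Fin d ⊕ ((Fin d × Fin 3) ⊕ Fin r)) = n := by
    simp only [Fintype.card_sum, Fintype.card_prod, Fintype.card_fin]
    omega
  haveI : Nonempty (Fin d) := ⟨⟨0, by omega⟩⟩
  obtain ⟨π, hπ, hker⟩ := exists_proj e hcard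
  have hAp : A ^ p = 1 := by rw [← hA]; exact pow_orderOf_eq_one A
  have hBp : ∀ b : Subgroup.zpowers A, b ^ p = 1 := by
    rintro ⟨b, hb⟩
    obtain ⟨k, rfl⟩ := Subgroup.mem_zpowers_iff.1 hb
    refine Subtype.ext ?_
    show (A ^ k) ^ p = 1
    rw [← _root_.zpow_natCast, ← _root_.zpow_mul, mul_comm, _root_.zpow_mul, _root_.zpow_natCast, hAp,
      _root_.one_zpow]
  have hBcard : Nat.card (Subgroup.zpowers A) = p := by rw [Nat.card_zpowers, hA]
  let Ψ : (Fin 3 → Subgroup.zpowers A) →* _root_.Matrix.SpecialLinearGroup ((Fin d × Fin 3) ⊕ Fin r) F :=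
    (psi (F := F) d r).comp (MonoidHom.compLeft (Subgroup.zpowers A).subtype (Fin 3))
  let Φ : Subgroup.zpowers A × (Fin 3 → Subgroup.zpowers A) →*
      _root_.Matrix.SpecialLinearGroup (Fin d ⊕ ((Fin d × Fin 3) ⊕ Fin r)) F :=
    (pair (F := F) (Fin d) ((Fin d × Fin 3) ⊕ Fin r)).comp (MonoidHom.prodMap (Subgroup.zpowers A).subtype Ψ)
  have hΨ : ∀ b : Fin 3 → Subgroup.zpowers A, ((Ψ b : _root_.Matrix.SpecialLinearGroup ((Fin d × Fin 3) ⊕ Fin r) F) :
      Matrix ((Fin d × Fin 3) ⊕ Fin r) ((Fin d × Fin 3) ⊕ Fin r) F) =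
        fromBlocks (blockDiagonal fun j => ((b j : _root_.Matrix.SpecialLinearGroup (Fin d) F) : Matrix (Fin d) (Fin d) F)) 0 0 1 :=
    fun b => rfl
  have hΦ : ∀ b : Subgroup.zpowers A × (Fin 3 → Subgroup.zpowers A),
      ((Φ b : _root_.Matrix.SpecialLinearGroup (Fin d ⊕ ((Fin d × Fin 3) ⊕ Fin r)) F) :
      Matrix (Fin d ⊕ ((Fin d × Fin 3) ⊕ Fin r)) (Fin d ⊕ ((Fin d × Fin 3) ⊕ Fin r)) F) =
        fromBlocks ((b.1 : _root_.Matrix.SpecialLinearGroup (Fin d) F) : Matrix (Fin d) (Fin d) F) 0 0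
          ((Ψ b.2 : _root_.Matrix.SpecialLinearGroup ((Fin d × Fin 3) ⊕ Fin r) F) :
            Matrix ((Fin d × Fin 3) ⊕ Fin r) ((Fin d × Fin 3) ⊕ Fin r) F) :=
    fun b => rfl
  -- the blocks of a central element are trivial
  have hscal : ∀ (c : F) (b : Subgroup.zpowers A),
      ((b : _root_.Matrix.SpecialLinearGroup (Fin d) F) : Matrix (Fin d) (Fin d) F) = c • (1 : Matrix (Fin d) (Fin d) F) →
        b = 1 ∧ c = 1 := by
    intro c b h
    have h1 : c ^ p = 1 := by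
      have h2 : (((b : _root_.Matrix.SpecialLinearGroup (Fin d) F) ^ p : _root_.Matrix.SpecialLinearGroup (Fin d) F) : Matrix (Fin d) (Fin d) F) = 1 := by
        have h3 : ((b : _root_.Matrix.SpecialLinearGroup (Fin d) F)) ^ p = 1 := congrArg Subtype.val (hBp b)
        rw [h3, Matrix.SpecialLinearGroup.coe_one]
      rw [Matrix.SpecialLinearGroup.coe_pow, h, smul_pow, one_pow] at h2
      have h3 := congrFun (congrFun h2 ⟨0, by omega⟩) ⟨0, by omega⟩
      simpa only [_root_.Matrix.smul_apply, _root_.Matrix.one_apply_eq, _root_.smul_eq_mul, _root_.mul_one] using h3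
    have hc0 : c ≠ 0 := by
      rintro rfl
      rw [zero_pow hp.ne_zero] at h1
      exact zero_ne_one h1
    have h2 : c ^ (Fintype.card F - 1) = 1 := FiniteField.pow_card_sub_one_eq_one c hc0
    have h3 : orderOf c ∣ 1 := by
      have h4 : Nat.gcd p (Fintype.card F - 1) = 1 := (Nat.Prime.coprime_iff_not_dvd hp).2 hp1
      rw [← h4]
      exact Nat.dvd_gcd (orderOf_dvd_of_pow_eq_one h1) (orderOf_dvd_of_pow_eq_one h2)
    have h4 : c = 1 := orderOf_eq_one_iff.1 (Nat.dvd_one.1 h3)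
    refine ⟨?_, h4⟩
    rw [h4, one_smul] at h
    refine Subtype.ext (ext' ?_)
    rw [h]
    rfl
  have hΨ1 : ∀ (c : F) (b : Fin 3 → Subgroup.zpowers A), ((Ψ b : _root_.Matrix.SpecialLinearGroup ((Fin d × Fin 3) ⊕ Fin r) F) :
      Matrix ((Fin d × Fin 3) ⊕ Fin r) ((Fin d × Fin 3) ⊕ Fin r) F) = c • 1 → b = 1 := by
    intro c b h
    rw [hΨ] at h
    funext j
    refine (hscal c (b j) ?_).1
    ext i i'
    have h1 := congrFun (congrFun h (Sum.inl (i, j))) (Sum.inl (i', j))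
    rw [fromBlocks_apply₁₁, blockDiagonal_apply_eq] at h1
    rw [h1, Matrix.smul_apply, Matrix.smul_apply, Matrix.one_apply, Matrix.one_apply]
    simp
  have hcardκ : Fintype.card ((Fin d × Fin 3) ⊕ Fin r) = d * 3 + r := by
    simp only [Fintype.card_sum, Fintype.card_prod, Fintype.card_fin]
  have hx : ((Φ (⟨A, Subgroup.mem_zpowers A⟩, 1) : _root_.Matrix.SpecialLinearGroup (Fin d ⊕ ((Fin d × Fin 3) ⊕ Fin r)) F) :
      Matrix (Fin d ⊕ ((Fin d × Fin 3) ⊕ Fin r)) (Fin d ⊕ ((Fin d × Fin 3) ⊕ Fin r)) F) =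
      fromBlocks (A : Matrix (Fin d) (Fin d) F) 0 0
        ((1 : F) • (1 : Matrix ((Fin d × Fin 3) ⊕ Fin r) ((Fin d × Fin 3) ⊕ Fin r) F)) := by
    rw [hΦ, map_one, one_smul]
    rfl
  have hΦp : ∀ b, Φ b ^ p = 1 := by
    intro b
    rw [← map_pow]
    have : b ^ p = 1 := by
      refine Prod.ext (hBp b.1) ?_
      funext j
      exact hBp (b.2 j)
    rw [this, map_one]
  have hzc : ∀ a b : Subgroup.zpowers A, a * b = b * a := by
    rintro ⟨a, ha⟩ ⟨b, hb⟩
    obtain ⟨k, rfl⟩ := Subgroup.mem_zpowers_iff.1 ha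
    obtain ⟨l, rfl⟩ := Subgroup.mem_zpowers_iff.1 hb
    refine Subtype.ext ?_
    show A ^ k * A ^ l = A ^ l * A ^ k
    rw [← _root_.zpow_add, ← _root_.zpow_add, add_comm]
  have hcommB : ∀ a b : Subgroup.zpowers A × (Fin 3 → Subgroup.zpowers A), a * b = b * a := by
    intro a b
    refine Prod.ext (hzc a.1 b.1) ?_
    funext j
    exact hzc (a.2 j) (b.2 j)
  have hkerΦ : ∀ b, π (Φ b) = 1 → b = 1 := by
    intro b hb
    have h1 : Φ b ∈ center (_root_.Matrix.SpecialLinearGroup (Fin d ⊕ ((Fin d × Fin 3) ⊕ Fin r)) F) := by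
      rw [← hker]
      exact hb
    obtain ⟨c, -, hc⟩ := Matrix.SpecialLinearGroup.mem_center_iff.1 h1
    rw [hΦ] at hc
    have h2 : ((b.1 : _root_.Matrix.SpecialLinearGroup (Fin d) F) : Matrix (Fin d) (Fin d) F) = c • 1 := by
      ext i i'
      have h1 := congrFun (congrFun hc (Sum.inl i)) (Sum.inl i')
      rw [fromBlocks_apply₁₁, scalar_apply, Matrix.diagonal_apply] at h1
      rw [← h1, Matrix.smul_apply, Matrix.one_apply]
      simp
    have h3 : ((Ψ b.2 : _root_.Matrix.SpecialLinearGroup ((Fin d × Fin 3) ⊕ Fin r) F) :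
        Matrix ((Fin d × Fin 3) ⊕ Fin r) ((Fin d × Fin 3) ⊕ Fin r) F) = c • 1 := by
      ext i i'
      have h1 := congrFun (congrFun hc (Sum.inr i)) (Sum.inr i')
      rw [fromBlocks_apply₂₂, scalar_apply, Matrix.diagonal_apply] at h1
      rw [← h1, Matrix.smul_apply, Matrix.one_apply]
      simp
    exact Prod.ext (hscal c b.1 h2).1 (hΨ1 c b.2 h3)
  refine main (F := F) (ι := Fin d) (κ := (Fin d × Fin 3) ⊕ Fin r) hπ hker hp hp2 (c := 1) hA1 hx ?_ ?_ ?_ ?_ ?_
  · rw [← map_pow, hΦp, map_one]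
  · refine rank_cent hcommB Φ ?_ ?_ ?_
    · intro b
      rw [← map_pow, hΦp, map_one]
    · have hk : (π.comp Φ).ker = ⊥ := by
        rw [eq_bot_iff]
        intro b hb
        exact Subgroup.mem_bot.2 (hkerΦ b hb)
      rw [hk, Subgroup.card_bot, Nat.card_prod, Nat.card_fun, hBcard, Nat.card_fin]
      exact le_of_eq (by ring)
    · intro b
      rw [← map_mul, ← map_mul, hcommB]
  · omega
  · refine rank_of_ker (fun a b => ?_) Ψ ?_ ?_
    · funext j
      exact hzc (a j) (b j)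
    · intro b
      rw [← map_pow]
      have : b ^ p = 1 := by
        funext j
        exact hBp (b j)
      rw [this, map_one]
    · have hk : Ψ.ker = ⊥ := by
        rw [eq_bot_iff]
        intro b hb
        refine Subgroup.mem_bot.2 (hΨ1 1 b ?_)
        rw [MonoidHom.mem_ker] at hb
        rw [hb, one_smul]
        rfl
      rw [hk, Subgroup.card_bot, Nat.card_fun, hBcard, Nat.card_fin, mul_one]
      exact Nat.pow_le_pow_right hp.pos (by norm_num)
  · intro K _ _ hK e' hr'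
    exact hno.of_fintype (by omega) (fun _ => by omega) K hK e' hr'

end Cfsg.Agent.GpLn.Big

end

-- merged: Cfsg.Agent.GpLn.Torus
section

/-!
# `PSL_n(q)`, `p ∣ q - 1`: diagonal `p`-elements (helper70)
-/

set_option autoImplicit false
set_option linter.style.haveILetI false

namespace Cfsg.Agent.GpLn.Torus

open Subgroup Cfsg Matrix Cfsg.Agent.GpLn.Block Cfsg.Agent.GpLn.Rank Cfsg.Agent.GpLn.Elem Cfsg.Agent.GpLn.Quot
open Cfsg.Agent.GpLn.Big

universe u v w

section dg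

variable {F : Type*} [Field F] {α : Type*} [Fintype α] [DecidableEq α]

/-- the product of the entries -/
def prodHom (M : Type*) [CommMonoid M] (α : Type*) [Fintype α] : (α → M) →* M where
  toFun f := ∏ i, f i
  map_one' := by simp
  map_mul' f g := Finset.prod_mul_distrib

/-- a homomorphism to diagonal matrices of determinant one -/
def dgOf {B : Type*} [Group B] (φ : B →* (α → Fˣ)) (h : ∀ b, ∏ i, φ b i = 1) : B →* _root_.Matrix.SpecialLinearGroup α F where
  toFun b := ⟨diagonal fun i => (φ b i : F), by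
    rw [det_diagonal]
    have h1 := congrArg (fun z : Fˣ => (z : F)) (h b)
    simpa only [Units.coe_prod, _root_.Units.val_one] using h1⟩
  map_one' := by
    refine ext' ?_
    show (diagonal fun i => ((φ 1 i : Fˣ) : F)) = 1
    rw [map_one]
    exact diagonal_one
  map_mul' a b := by
    refine ext' ?_
    show (diagonal fun i => ((φ (a * b) i : Fˣ) : F)) =
      (diagonal fun i => ((φ a i : Fˣ) : F)) * (diagonal fun i => ((φ b i : Fˣ) : F))
    rw [diagonal_mul_diagonal, map_mul]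
    rfl

theorem coe_dgOf {B : Type*} [Group B] (φ : B →* (α → Fˣ)) (h : ∀ b, ∏ i, φ b i = 1) (b : B) :
    ((dgOf φ h b : _root_.Matrix.SpecialLinearGroup α F) : Matrix α α F) = diagonal fun i => (φ b i : F) := rfl

theorem dgOf_center {B : Type*} [Group B] {φ : B →* (α → Fˣ)} {h : ∀ b, ∏ i, φ b i = 1} {b : B}
    (hb : dgOf φ h b ∈ center (_root_.Matrix.SpecialLinearGroup α F)) (i j : α) : φ b i = φ b j := by
  obtain ⟨r, -, hr⟩ := Matrix.SpecialLinearGroup.mem_center_iff.1 hb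
  rw [coe_dgOf] at hr
  have h1 : ∀ k : α, r = (φ b k : F) := by
    intro k
    have := congrFun (congrFun hr k) k
    rw [scalar_apply, diagonal_apply_eq, diagonal_apply_eq] at this
    exact this
  exact Units.ext ((h1 i).symm.trans (h1 j))

theorem dgOf_mem_center [Nonempty α] {B : Type*} [Group B] {φ : B →* (α → Fˣ)} {h : ∀ b, ∏ i, φ b i = 1} {b : B}
    (hb : ∀ i j : α, φ b i = φ b j) : dgOf φ h b ∈ center (_root_.Matrix.SpecialLinearGroup α F) := by
  obtain ⟨k⟩ := ‹Nonempty α›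
  rw [Matrix.SpecialLinearGroup.mem_center_iff]
  refine ⟨(φ b k : F), ?_, ?_⟩
  · have h1 := h b
    rw [Finset.prod_congr rfl (fun i _ => hb i k), Finset.prod_const, Finset.card_univ] at h1
    have h2 := congrArg (fun z : Fˣ => (z : F)) h1
    simpa only [_root_.Units.val_pow_eq_pow_val, _root_.Units.val_one] using h2
  · rw [coe_dgOf, scalar_apply]
    congr 1
    funext i
    rw [hb i k]

theorem dgOf_comm {B : Type*} [Group B] {φ : B →* (α → Fˣ)} {h : ∀ b, ∏ i, φ b i = 1} (b : B)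
    {x : _root_.Matrix.SpecialLinearGroup α F} {y : α → F} (hx : (x : Matrix α α F) = diagonal y) :
    dgOf φ h b * x = x * dgOf φ h b := by
  refine ext' ?_
  rw [Matrix.SpecialLinearGroup.coe_mul, Matrix.SpecialLinearGroup.coe_mul, coe_dgOf, hx, diagonal_mul_diagonal,
    diagonal_mul_diagonal]
  congr 1
  funext i
  exact mul_comm _ _

/-- the torus of exponent `p` -/
def tor (ζ : Fˣ) (α : Type*) [Fintype α] : Subgroup (α → Subgroup.zpowers ζ) :=
  (prodHom (Subgroup.zpowers ζ) α).ker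

/-- its embedding -/
def torHom (ζ : Fˣ) (α : Type*) [Fintype α] : tor ζ α →* (α → Fˣ) :=
  (MonoidHom.compLeft (Subgroup.zpowers ζ).subtype α).comp (tor ζ α).subtype

omit [DecidableEq α] in
theorem torHom_prod (ζ : Fˣ) (b : tor ζ α) : ∏ i, torHom ζ α b i = 1 := by
  have h1 : prodHom (Subgroup.zpowers ζ) α b = 1 := b.2
  have h2 := congrArg (fun z : Subgroup.zpowers ζ => (z : Fˣ)) h1
  have h3 : ((∏ i, (b : α → Subgroup.zpowers ζ) i : Subgroup.zpowers ζ) : Fˣ) = 1 := h2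
  rw [Subgroup.val_finsetProd] at h3
  exact h3

theorem zp_pow {ζ : Fˣ} {p : ℕ} (hζ : orderOf ζ = p) (b : Subgroup.zpowers ζ) : b ^ p = 1 := by
  obtain ⟨b, hb⟩ := b
  obtain ⟨k, rfl⟩ := Subgroup.mem_zpowers_iff.1 hb
  refine Subtype.ext ?_
  show (ζ ^ k) ^ p = 1
  rw [← _root_.zpow_natCast, ← _root_.zpow_mul, mul_comm, _root_.zpow_mul, _root_.zpow_natCast, ← hζ,
    pow_orderOf_eq_one, _root_.one_zpow]

omit [DecidableEq α] in
theorem card_tor {ζ : Fˣ} {p : ℕ} (hp : 0 < p) (hζ : orderOf ζ = p) {n : ℕ} (hn : Fintype.card α = n + 1) :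
    Finite (α → Subgroup.zpowers ζ) ∧ p ^ n ≤ Nat.card (tor ζ α) := by
  have hc : Nat.card (Subgroup.zpowers ζ) = p := by rw [Nat.card_zpowers, hζ]
  haveI : Finite (Subgroup.zpowers ζ) := Nat.finite_of_card_ne_zero (by omega)
  refine ⟨inferInstance, ?_⟩
  have h1 : Nat.card (tor ζ α) * Nat.card (prodHom (Subgroup.zpowers ζ) α).range = p ^ (n + 1) := by
    rw [tor, ← Subgroup.index_ker, Subgroup.card_mul_index, Nat.card_fun, hc, Nat.card_eq_fintype_card, hn]
  have h2 : Nat.card (prodHom (Subgroup.zpowers ζ) α).range ≤ p := by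
    rw [← hc]
    exact Subgroup.card_le_card_group _
  have h3 : p ^ n * p ≤ Nat.card (tor ζ α) * p := by
    rw [← pow_succ, ← h1]
    exact Nat.mul_le_mul_left _ h2
  exact Nat.le_of_mul_le_mul_right h3 hp

/-- `m_p(SL_m(q)) ≥ 2`, `m ≥ 3`, `p ∣ q - 1` -/
theorem sl_rank {ζ : Fˣ} {p : ℕ} (hp : p.Prime) (hζ : orderOf ζ = p) (hα : 3 ≤ Fintype.card α) :
    PRankAtLeast p 2 (_root_.Matrix.SpecialLinearGroup α F) := by
  obtain ⟨n, hn⟩ := Nat.exists_eq_add_of_le' (show 1 ≤ Fintype.card α by omega)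
  obtain ⟨hf, hc⟩ := card_tor (α := α) hp.pos hζ hn
  refine rank_of_ker (fun a b => mul_comm a b) (dgOf (torHom ζ α) (torHom_prod ζ)) ?_ ?_
  · intro b
    rw [← map_pow]
    have : b ^ p = 1 := by
      refine Subtype.ext ?_
      funext j
      exact zp_pow hζ _
    rw [this, map_one]
  · have hk : (dgOf (torHom ζ α) (torHom_prod ζ)).ker = ⊥ := by
      rw [eq_bot_iff]
      intro b hb
      rw [Subgroup.mem_bot]
      refine Subtype.ext ?_
      funext j
      refine Subtype.ext (Units.ext ?_)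
      have h1 : (dgOf (torHom ζ α) (torHom_prod ζ) b : Matrix α α F) = 1 := by
        rw [MonoidHom.mem_ker] at hb
        rw [hb]; rfl
      rw [coe_dgOf] at h1
      have h2 := congrFun (congrFun h1 j) j
      rw [diagonal_apply_eq, one_apply_eq] at h2
      exact h2
    rw [hk, Subgroup.card_bot, mul_one]
    exact (Nat.pow_le_pow_right hp.pos (by omega)).trans hc

/-- the torus in the centralizer of a diagonal element -/
theorem torus_rank {G : Type*} [Group G] {ζ : Fˣ} {p : ℕ} (hp : p.Prime) (hζ : orderOf ζ = p)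
    {π : _root_.Matrix.SpecialLinearGroup α F →* G} (hker : π.ker = center (_root_.Matrix.SpecialLinearGroup α F)) {x : _root_.Matrix.SpecialLinearGroup α F}
    {y : α → F} (hx : (x : Matrix α α F) = diagonal y)
    (h : 6 ≤ Fintype.card α ∨ (5 ≤ Fintype.card α ∧ ¬ p ∣ Fintype.card α)) :
    PRankAtLeast p 4 ↥(centralizer ({π x} : Set G)) := by
  obtain ⟨n, hn⟩ := Nat.exists_eq_add_of_le' (show 1 ≤ Fintype.card α by omega)
  obtain ⟨hf, hc⟩ := card_tor (α := α) hp.pos hζ hn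
  haveI : Nonempty α := Fintype.card_pos_iff.1 (by omega)
  have hcz : Nat.card (Subgroup.zpowers ζ) = p := by rw [Nat.card_zpowers, hζ]
  haveI : Finite (Subgroup.zpowers ζ) := Nat.finite_of_card_ne_zero (by have := hp.pos; omega)
  refine rank_cent (fun a b => mul_comm a b) (dgOf (torHom ζ α) (torHom_prod ζ)) ?_ ?_ (fun b => dgOf_comm b hx)
  · intro b
    rw [← map_pow, ← map_pow]
    have : b ^ p = 1 := by
      refine Subtype.ext ?_
      funext j
      exact zp_pow hζ _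
    rw [this, map_one, map_one]
  · have hk : ∀ b ∈ (π.comp (dgOf (torHom ζ α) (torHom_prod ζ))).ker, ∀ i j : α,
        (b : α → Subgroup.zpowers ζ) i = (b : α → Subgroup.zpowers ζ) j := by
      intro b hb i j
      have h1 : dgOf (torHom ζ α) (torHom_prod ζ) b ∈ center (_root_.Matrix.SpecialLinearGroup α F) := by
        rw [← hker]
        exact hb
      exact Subtype.ext (dgOf_center h1 i j)
    rcases h with h | ⟨h5, h⟩
    · -- `n ≥ 6`
      let i₀ : α := Classical.arbitrary α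
      have h2 : Nat.card (π.comp (dgOf (torHom ζ α) (torHom_prod ζ))).ker ≤ p := by
        rw [← hcz]
        refine Nat.card_le_card_of_injective
          (fun b => ((b : tor ζ α) : α → Subgroup.zpowers ζ) i₀) ?_
        rintro ⟨b, hb⟩ ⟨c, hc⟩ hbc
        refine Subtype.ext (Subtype.ext ?_)
        funext j
        show (b : α → Subgroup.zpowers ζ) j = (c : α → Subgroup.zpowers ζ) j
        rw [hk b hb j i₀, hk c hc j i₀]
        exact hbc
      calc p ^ 4 * Nat.card (π.comp (dgOf (torHom ζ α) (torHom_prod ζ))).ker ≤ p ^ 4 * p := Nat.mul_le_mul_left _ h2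
        _ = p ^ 5 := by ring
        _ ≤ p ^ n := Nat.pow_le_pow_right hp.pos (by omega)
        _ ≤ _ := hc
    · have h2 : (π.comp (dgOf (torHom ζ α) (torHom_prod ζ))).ker = ⊥ := by
        rw [eq_bot_iff]
        intro b hb
        rw [Subgroup.mem_bot]
        refine Subtype.ext ?_
        funext j
        show (b : α → Subgroup.zpowers ζ) j = 1
        have h3 : (b : α → Subgroup.zpowers ζ) j ^ Fintype.card α = 1 := by
          have h4 : prodHom (Subgroup.zpowers ζ) α b = 1 := b.2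
          have h5 : ∏ i, (b : α → Subgroup.zpowers ζ) i = 1 := h4
          rw [Finset.prod_congr rfl (fun i _ => hk b hb i j), Finset.prod_const, Finset.card_univ] at h5
          exact h5
        have h4 : (b : α → Subgroup.zpowers ζ) j ^ p = 1 := zp_pow hζ _
        have h5 : orderOf ((b : α → Subgroup.zpowers ζ) j) ∣ 1 := by
          have h6 : Nat.gcd p (Fintype.card α) = 1 := (Nat.Prime.coprime_iff_not_dvd hp).2 h
          rw [← h6]
          exact Nat.dvd_gcd (orderOf_dvd_of_pow_eq_one h4) (orderOf_dvd_of_pow_eq_one h3)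
        exact orderOf_eq_one_iff.1 (Nat.dvd_one.1 h5)
      rw [h2, Subgroup.card_bot, mul_one]
      exact (Nat.pow_le_pow_right hp.pos (by omega)).trans hc

/-- the determinant of `s • f`, `s` of order dividing `p²`, `f` with entries of order dividing `p` -/
def theta (β : Fˣ) (p : ℕ) (α : Type*) [Fintype α] :
    Subgroup.zpowers β × (α → Subgroup.zpowers (β ^ p)) →* Fˣ where
  toFun x := (x.1 : Fˣ) ^ Fintype.card α * ∏ i, ((x.2 i : Subgroup.zpowers (β ^ p)) : Fˣ)
  map_one' := by simp only [_root_.Prod.fst_one, _root_.OneMemClass.coe_one, _root_.one_pow, _root_.Prod.snd_one, _root_.Pi.one_apply, _root_.Finset.prod_const_one, _root_.mul_one]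
  map_mul' x y := by
    show ((x.1 * y.1 : Subgroup.zpowers β) : Fˣ) ^ Fintype.card α *
        ∏ i, ((x.2 i * y.2 i : Subgroup.zpowers (β ^ p)) : Fˣ) = _
    simp only [Subgroup.coe_mul, mul_pow, Finset.prod_mul_distrib]
    exact mul_mul_mul_comm _ _ _ _

/-- the entries `s • f` -/
def thetaHom (β : Fˣ) (p : ℕ) (α : Type*) [Fintype α] : (theta β p α).ker →* (α → Fˣ) where
  toFun x := fun i => (x.1.1 : Fˣ) * ((x.1.2 i : Subgroup.zpowers (β ^ p)) : Fˣ)
  map_one' := by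
    funext i
    show ((1 : Subgroup.zpowers β) : Fˣ) * ((1 : Subgroup.zpowers (β ^ p)) : Fˣ) = 1
    simp only [_root_.OneMemClass.coe_one, _root_.mul_one]
  map_mul' x y := by
    funext i
    show ((x.1.1 * y.1.1 : Subgroup.zpowers β) : Fˣ) * ((x.1.2 i * y.1.2 i : Subgroup.zpowers (β ^ p)) : Fˣ) = _
    simp only [Subgroup.coe_mul]
    exact mul_mul_mul_comm _ _ _ _

omit [DecidableEq α] in
theorem thetaHom_prod (β : Fˣ) (p : ℕ) (b : (theta β p α).ker) : ∏ i, thetaHom β p α b i = 1 := by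
  have h1 : theta β p α b.1 = 1 := b.2
  have h2 : (b.1.1 : Fˣ) ^ Fintype.card α * ∏ i, ((b.1.2 i : Subgroup.zpowers (β ^ p)) : Fˣ) = 1 := h1
  show ∏ i, ((b.1.1 : Fˣ) * ((b.1.2 i : Subgroup.zpowers (β ^ p)) : Fˣ)) = 1
  rw [Finset.prod_mul_distrib, Finset.prod_const, Finset.card_univ]
  exact h2

/-- the torus in the centralizer of a diagonal element, `n = p = 5`, `25 ∣ q - 1` -/
theorem torus_rank_five {G : Type*} [Group G] {β : Fˣ} (hβ : orderOf β = 25)
    {π : _root_.Matrix.SpecialLinearGroup α F →* G} (hker : π.ker = center (_root_.Matrix.SpecialLinearGroup α F)) {x : _root_.Matrix.SpecialLinearGroup α F}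
    {y : α → F} (hx : (x : Matrix α α F) = diagonal y) (hα : Fintype.card α = 5) :
    PRankAtLeast 5 4 ↥(centralizer ({π x} : Set G)) := by
  haveI : Nonempty α := Fintype.card_pos_iff.1 (by omega)
  have hζ : orderOf (β ^ 5) = 5 := by
    rw [orderOf_pow' β (by norm_num : (5 : ℕ) ≠ 0), hβ]
    norm_num
  have hcz : Nat.card (Subgroup.zpowers (β ^ 5)) = 5 := by rw [Nat.card_zpowers, hζ]
  have hcb : Nat.card (Subgroup.zpowers β) = 25 := by rw [Nat.card_zpowers, hβ]
  haveI : Finite (Subgroup.zpowers (β ^ 5)) := Nat.finite_of_card_ne_zero (by omega)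
  haveI : Finite (Subgroup.zpowers β) := Nat.finite_of_card_ne_zero (by omega)
  have hrange : (theta β 5 α).range ≤ Subgroup.zpowers (β ^ 5) := by
    rintro _ ⟨b, rfl⟩
    show (b.1 : Fˣ) ^ Fintype.card α * ∏ i, ((b.2 i : Subgroup.zpowers (β ^ 5)) : Fˣ) ∈ _
    refine mul_mem ?_ (Subgroup.prod_mem _ fun i _ => (b.2 i).2)
    obtain ⟨k, hk⟩ := Subgroup.mem_zpowers_iff.1 b.1.2
    have h5 : (β ^ k) ^ (5 : ℕ) = (β ^ (5 : ℕ)) ^ k := by
      rw [← _root_.zpow_natCast, ← _root_.zpow_natCast, ← _root_.zpow_mul, ← _root_.zpow_mul, mul_comm]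
    rw [hα, ← hk, h5]
    exact Subgroup.zpow_mem_zpowers _ _
  have hBcard : 5 ^ 6 ≤ Nat.card (theta β 5 α).ker := by
    have h1 : Nat.card (theta β 5 α).ker * Nat.card (theta β 5 α).range = 5 ^ 7 := by
      rw [← Subgroup.index_ker, Subgroup.card_mul_index, Nat.card_prod, Nat.card_fun, hcz, hcb,
        Nat.card_eq_fintype_card, hα]
      norm_num
    have h2 : Nat.card (theta β 5 α).range ≤ 5 := (Subgroup.card_le_of_le hrange).trans hcz.le
    have h3 := Nat.mul_le_mul_left (Nat.card (theta β 5 α).ker) h2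
    rw [h1] at h3
    omega
  refine rank_cent (fun a b => mul_comm a b) (dgOf (thetaHom β 5 α) (thetaHom_prod β 5)) ?_ ?_
    (fun b => dgOf_comm b hx)
  · intro b
    rw [← map_pow, ← map_pow]
    have h1 : dgOf (thetaHom β 5 α) (thetaHom_prod β 5) (b ^ 5) ∈ center (_root_.Matrix.SpecialLinearGroup α F) := by
      refine dgOf_mem_center fun i j => ?_
      show ((b.1.1 ^ 5 : Subgroup.zpowers β) : Fˣ) * ((b.1.2 i ^ 5 : Subgroup.zpowers (β ^ 5)) : Fˣ) =
        ((b.1.1 ^ 5 : Subgroup.zpowers β) : Fˣ) * ((b.1.2 j ^ 5 : Subgroup.zpowers (β ^ 5)) : Fˣ)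
      rw [zp_pow hζ (b.1.2 i), zp_pow hζ (b.1.2 j)]
    rw [← hker] at h1
    exact h1
  · let i₀ : α := Classical.arbitrary α
    have hk : ∀ b ∈ (π.comp (dgOf (thetaHom β 5 α) (thetaHom_prod β 5))).ker,
        (∀ i j : α, b.1.2 i = b.1.2 j) ∧ ((b.1.1 : Subgroup.zpowers β) : Fˣ) ^ 5 = 1 := by
      intro b hb
      have h1 : dgOf (thetaHom β 5 α) (thetaHom_prod β 5) b ∈ center (_root_.Matrix.SpecialLinearGroup α F) := by
        rw [← hker]
        exact hb
      have h2 : ∀ i j : α, b.1.2 i = b.1.2 j := by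
        intro i j
        have h3 : ((b.1.1 : Subgroup.zpowers β) : Fˣ) * ((b.1.2 i : Subgroup.zpowers (β ^ 5)) : Fˣ) =
          ((b.1.1 : Subgroup.zpowers β) : Fˣ) * ((b.1.2 j : Subgroup.zpowers (β ^ 5)) : Fˣ) := dgOf_center h1 i j
        exact Subtype.ext (mul_left_cancel h3)
      refine ⟨h2, ?_⟩
      have h3 : (b.1.1 : Fˣ) ^ Fintype.card α * ∏ i, ((b.1.2 i : Subgroup.zpowers (β ^ 5)) : Fˣ) = 1 := b.2
      rw [Finset.prod_congr rfl (fun i _ => congrArg Subtype.val (h2 i i₀)), Finset.prod_const, Finset.card_univ, hα]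
        at h3
      have h4 : ((b.1.2 i₀ : Subgroup.zpowers (β ^ 5)) : Fˣ) ^ 5 = 1 := congrArg Subtype.val (zp_pow hζ (b.1.2 i₀))
      rw [h4, mul_one] at h3
      exact h3
    have h2 : Nat.card (π.comp (dgOf (thetaHom β 5 α) (thetaHom_prod β 5))).ker ≤ 25 := by
      have h3 : Nat.card (rootsOfUnity 5 F) ≤ 5 := card_rootsOfUnity F 5
      haveI : Finite (rootsOfUnity 5 F) := inferInstance
      calc Nat.card (π.comp (dgOf (thetaHom β 5 α) (thetaHom_prod β 5))).ker
          ≤ Nat.card (rootsOfUnity 5 F × Subgroup.zpowers (β ^ 5)) := by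
            refine Nat.card_le_card_of_injective
              (fun b => (⟨((b.1.1.1 : Subgroup.zpowers β) : Fˣ), (mem_rootsOfUnity 5 _).2 (hk b.1 b.2).2⟩,
                b.1.1.2 i₀)) ?_
            rintro ⟨b, hb⟩ ⟨c, hc⟩ hbc
            have h4 := congrArg (fun z => ((z.1 : rootsOfUnity 5 F) : Fˣ)) hbc
            have h5 := congrArg (fun z => z.2) hbc
            refine Subtype.ext (Subtype.ext (Prod.ext (Subtype.ext h4) ?_))
            funext j
            show b.1.2 j = c.1.2 j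
            rw [(hk b hb).1 j i₀, (hk c hc).1 j i₀]
            exact h5
        _ ≤ 5 * 5 := by
            rw [Nat.card_prod, hcz]
            exact Nat.mul_le_mul_right _ h3
        _ = 25 := by norm_num
    calc 5 ^ 4 * Nat.card (π.comp (dgOf (thetaHom β 5 α) (thetaHom_prod β 5))).ker ≤ 5 ^ 4 * 25 :=
          Nat.mul_le_mul_left _ h2
      _ = 5 ^ 6 := by norm_num
      _ ≤ _ := hBcard

end dg

end Cfsg.Agent.GpLn.Torus

end

-- merged: Cfsg.Agent.GpLn.Five
section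

/-!
# `PSL_5(q)`, `5 ∣ q - 1`: if the `5`-rank is at least `4` then `25 ∣ q - 1` (helper70)
-/

set_option autoImplicit false
set_option linter.style.haveILetI false

namespace Cfsg.Agent.GpLn.Five

open Subgroup Cfsg Matrix Cfsg.Agent.GpLn.Block Cfsg.Agent.GpLn.Rank Cfsg.Agent.GpLn.Elem Cfsg.Agent.GpLn.Quot
open Cfsg.Agent.GpLn.Big Cfsg.Agent.GpLn.Torus

universe u v w

/-- the `5`-part of the order -/
theorem order_five {q g : ℕ} (h1 : 5 ∣ q - 1) (h25 : ¬ 25 ∣ q - 1) (hq : 1 < q)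
    (h : 5 * ((q - 1) * g) = ∏ i : Fin 5, (q ^ 5 - q ^ (i : ℕ))) : ¬ 5 ^ 5 ∣ g := by
  obtain ⟨m, hm⟩ := h1
  have hq' : q = 5 * m + 1 := by omega
  have hm5 : ¬ 5 ∣ m := by
    rintro ⟨k, rfl⟩
    exact h25 ⟨k, by omega⟩
  have hm0 : 0 < m := by omega
  rintro ⟨k, rfl⟩
  rw [hm, hq'] at h
  have e0 : (5 * m + 1) ^ 5 - (5 * m + 1) ^ 0 =
      (5 * m) * (5 * (5 * (2 * m + 10 * m ^ 2 + 25 * m ^ 3 + 25 * m ^ 4) + 1)) :=
    Nat.sub_eq_of_eq_add (by ring)
  have e1 : (5 * m + 1) ^ 5 - (5 * m + 1) ^ 1 =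
      (5 * m) * ((5 * m + 1) * (5 * (6 * m + 20 * m ^ 2 + 25 * m ^ 3) + 4)) :=
    Nat.sub_eq_of_eq_add (by ring)
  have e2 : (5 * m + 1) ^ 5 - (5 * m + 1) ^ 2 =
      (5 * m) * ((5 * m + 1) ^ 2 * (5 * (3 * m + 5 * m ^ 2) + 3)) :=
    Nat.sub_eq_of_eq_add (by ring)
  have e3 : (5 * m + 1) ^ 5 - (5 * m + 1) ^ 3 =
      (5 * m) * ((5 * m + 1) ^ 3 * (5 * m + 2)) :=
    Nat.sub_eq_of_eq_add (by ring)
  have e4 : (5 * m + 1) ^ 5 - (5 * m + 1) ^ 4 =
      (5 * m) * (5 * m + 1) ^ 4 :=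
    Nat.sub_eq_of_eq_add (by ring)
  rw [Fin.prod_univ_five] at h
  simp only [Fin.val_zero, Fin.val_one, Fin.val_two, show ((3 : Fin 5) : ℕ) = 3 from rfl,
    show ((4 : Fin 5) : ℕ) = 4 from rfl] at h
  rw [e0, e1, e2, e3, e4] at h
  set a := 2 * m + 10 * m ^ 2 + 25 * m ^ 3 + 25 * m ^ 4 with ha
  set b := 6 * m + 20 * m ^ 2 + 25 * m ^ 3 with hb
  set c := 3 * m + 5 * m ^ 2 with hc
  have h2 : 5 ^ 6 * m * (5 * k) = 5 ^ 6 * m * (m ^ 4 * ((5 * a + 1) * ((5 * b + 4) * ((5 * c + 3) * ((5 * m + 2) *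
      (5 * m + 1) ^ 10))))) := by
    have h3 : 5 * (5 * m * (5 ^ 5 * k)) = 5 ^ 6 * m * (5 * k) := by ring
    rw [← h3, h]
    ring
  have h3 := Nat.eq_of_mul_eq_mul_left (by positivity) h2
  have h4 : 5 ∣ m ^ 4 * ((5 * a + 1) * ((5 * b + 4) * ((5 * c + 3) * ((5 * m + 2) * (5 * m + 1) ^ 10)))) :=
    ⟨k, h3.symm⟩
  have h5 : Nat.Prime 5 := by norm_num
  rcases (Nat.Prime.dvd_mul h5).1 h4 with h | h
  · exact hm5 (h5.dvd_of_dvd_pow h)
  rcases (Nat.Prime.dvd_mul h5).1 h with h | h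
  · omega
  rcases (Nat.Prime.dvd_mul h5).1 h with h | h
  · omega
  rcases (Nat.Prime.dvd_mul h5).1 h with h | h
  · omega
  rcases (Nat.Prime.dvd_mul h5).1 h with h | h
  · omega
  · have := h5.dvd_of_dvd_pow h
    omega

section

variable {F : Type*} [Field F]

/-- the rotation matrix -/
def rotM : _root_.Matrix.SpecialLinearGroup (Fin 5) F :=
  ⟨Equiv.Perm.permMatrix F (finRotate 5), by
    rw [Matrix.det_permutation, sign_finRotate]
    norm_num⟩

theorem rotM_mul (M : Matrix (Fin 5) (Fin 5) F) :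
    ((rotM : _root_.Matrix.SpecialLinearGroup (Fin 5) F) : Matrix (Fin 5) (Fin 5) F) * M = M.submatrix (fun i => i + 1) id := by
  ext i j
  show ∑ k, (Equiv.Perm.permMatrix F (finRotate 5)) i k * M k j = M (i + 1) j
  rw [Finset.sum_eq_single (i + 1)]
  · rw [Equiv.Perm.permMatrix, PEquiv.toMatrix_apply]
    simp
  · intro k _ hk
    rw [Equiv.Perm.permMatrix, PEquiv.toMatrix_apply]
    rw [if_neg, zero_mul]
    intro h
    apply hk
    simp only [Equiv.toPEquiv_apply, Option.mem_def, Option.some.injEq] at h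
    rw [← h]
    simp
  · intro h
    exact absurd (Finset.mem_univ _) h

theorem rotM_pow : (rotM : _root_.Matrix.SpecialLinearGroup (Fin 5) F) ^ 5 = 1 := by
  refine ext' ?_
  have h : ((rotM : _root_.Matrix.SpecialLinearGroup (Fin 5) F) ^ 5) =
      rotM * (rotM * (rotM * (rotM * (rotM * 1)))) := by
    simp only [pow_succ, pow_zero, one_mul, mul_one, mul_assoc]
  rw [h]
  simp only [Matrix.SpecialLinearGroup.coe_mul, rotM_mul, Matrix.submatrix_submatrix, Matrix.SpecialLinearGroup.coe_one]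
  have h2 : ((((fun i : Fin 5 => i + 1) ∘ fun i : Fin 5 => i + 1) ∘ fun i : Fin 5 => i + 1) ∘ fun i : Fin 5 => i + 1) ∘
      (fun i : Fin 5 => i + 1) = id := by
    funext i
    revert i
    decide
  rw [h2]
  simp

/-- the rotated torus element -/
def rotT {ζ : Fˣ} (b : tor ζ (Fin 5)) : tor ζ (Fin 5) :=
  ⟨fun i => (b : Fin 5 → Subgroup.zpowers ζ) (i + 1), by
    have h1 : ∏ i, (b : Fin 5 → Subgroup.zpowers ζ) i = 1 := b.2
    show ∏ i, (b : Fin 5 → Subgroup.zpowers ζ) (i + 1) = 1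
    rw [← h1]
    exact Equiv.prod_comp (Equiv.addRight (1 : Fin 5)) (b : Fin 5 → Subgroup.zpowers ζ)⟩

theorem rot_dg {ζ : Fˣ} (b : tor ζ (Fin 5)) :
    rotM * dgOf (torHom ζ (Fin 5)) (torHom_prod ζ) b = dgOf (torHom ζ (Fin 5)) (torHom_prod ζ) (rotT b) * rotM := by
  refine ext' ?_
  rw [Matrix.SpecialLinearGroup.coe_mul, Matrix.SpecialLinearGroup.coe_mul, rotM_mul, coe_dgOf, coe_dgOf]
  ext i j
  rw [Matrix.submatrix_apply, Matrix.diagonal_mul]
  have h2 : ((rotM : _root_.Matrix.SpecialLinearGroup (Fin 5) F) : Matrix (Fin 5) (Fin 5) F) i j = if i + 1 = j then 1 else 0 := by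
    have h3 := congrFun (congrFun (rotM_mul (F := F) 1) i) j
    rw [Matrix.mul_one, Matrix.submatrix_apply, Matrix.one_apply] at h3
    exact h3
  rw [h2, Matrix.diagonal_apply]
  show (if i + 1 = id j then _ else _) = _
  simp only [id]
  split_ifs with h
  · rw [mul_one]
    rfl
  · rw [mul_zero]

end

/-- `5`-rank at least `4` forces `25 ∣ q - 1` -/
theorem five {G : Type*} [Group G] [Finite G] {F : Type*} [Field F] [Fintype F]
    (e : G ≃* ProjectiveSpecialLinearGroup (Fin 5) F) (h5 : 5 ∣ Fintype.card F - 1) (h4 : PRankAtLeast 5 4 G) :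
    25 ∣ Fintype.card F - 1 := by
  classical
  by_contra h25
  haveI : Fact (Nat.Prime 5) := ⟨by norm_num⟩
  have hq1 : 1 < Fintype.card F := Fintype.one_lt_card
  -- the order of `G`
  have hG : ¬ 5 ^ 5 ∣ Nat.card G := by
    have h1 := Cfsg.Agent.S0243.result (F := F) rfl 5 (by norm_num)
    rw [Nat.gcd_eq_left h5, ← Nat.card_congr e.toEquiv] at h1
    exact order_five h5 h25 hq1 h1
  -- Sylow 5-subgroups are commutative
  obtain ⟨A, hA, hAp, hAc⟩ := h4
  have hA5 : IsPGroup 5 A := by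
    rintro ⟨a, ha⟩
    exact ⟨1, Subtype.ext (by simpa only [_root_.pow_one, _root_.SubmonoidClass.mk_pow, _root_.OneMemClass.coe_one] using hAp a ha)⟩
  obtain ⟨P, hP⟩ := hA5.exists_le_sylow
  have hPA : A = P := by
    refine Subgroup.eq_of_le_of_card_ge hP (le_trans ?_ hAc)
    obtain ⟨k, hk⟩ := IsPGroup.iff_card.1 P.isPGroup'
    rw [hk]
    refine Nat.pow_le_pow_right (by norm_num) ?_
    by_contra hlt
    apply hG
    refine dvd_trans ?_ (Subgroup.card_subgroup_dvd_card (P : Subgroup G))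
    rw [hk]
    exact pow_dvd_pow 5 (by omega)
  have hcommP : ∀ a ∈ (P : Subgroup G), ∀ b ∈ (P : Subgroup G), a * b = b * a := by
    intro a ha b hb
    rw [← hPA] at ha hb
    exact congrArg Subtype.val (hA.is_comm.comm ⟨a, ha⟩ ⟨b, hb⟩)
  have hcomm : ∀ N : Subgroup G, IsPGroup 5 N → ∀ a ∈ N, ∀ b ∈ N, a * b = b * a := by
    intro N hN a ha b hb
    obtain ⟨Q, hQ⟩ := hN.exists_le_sylow
    obtain ⟨g, hg⟩ := MulAction.exists_smul_eq G Q P
    have h1 : ∀ y ∈ (Q : Subgroup G), g * y * g⁻¹ ∈ (P : Subgroup G) := by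
      intro y hy
      rw [← hg, Sylow.coe_subgroup_smul, Subgroup.mem_pointwise_smul_iff_inv_smul_mem]
      simpa only [MulAut.smul_def, mul_assoc, _root_.smul_mul', _root_.MulAut.inv_apply, _root_.MulAut.conj_symm_apply, _root_.inv_mul_cancel, _root_.one_mul, _root_.smul_inv', _root_.mul_inv_cancel, _root_.mul_one, _root_.mul_inv_cancel_left] using hy
    have h2 := hcommP _ (h1 a (hQ ha)) _ (h1 b (hQ hb))
    have h3 : g * (a * b) * g⁻¹ = g * (b * a) * g⁻¹ := by
      calc g * (a * b) * g⁻¹ = (g * a * g⁻¹) * (g * b * g⁻¹) := by group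
        _ = (g * b * g⁻¹) * (g * a * g⁻¹) := h2
        _ = g * (b * a) * g⁻¹ := by group
    exact mul_left_cancel (mul_right_cancel h3)
  -- the element of order 5 and the subgroup
  obtain ⟨ζ, hζ⟩ := exists_prime_orderOf_dvd_card' (G := Fˣ) 5 (by
    rw [Nat.card_units, Nat.card_eq_fintype_card]; exact h5)
  obtain ⟨π, hπ, hker⟩ := exists_proj e (Fintype.card_fin 5)
  set Φ := dgOf (torHom ζ (Fin 5)) (torHom_prod ζ) with hΦ
  set T := (π.comp Φ).range with hT
  have hT5 : IsPGroup 5 T := by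
    rintro ⟨_, b, rfl⟩
    refine ⟨1, Subtype.ext ?_⟩
    show (π (Φ b)) ^ (5 ^ 1) = 1
    rw [pow_one, ← map_pow, ← map_pow]
    have : b ^ 5 = 1 := by
      refine Subtype.ext ?_
      funext j
      exact zp_pow hζ _
    rw [this, map_one, map_one]
  have hR5 : IsPGroup 5 (Subgroup.zpowers (π rotM)) := by
    rintro ⟨y, hy⟩
    refine ⟨1, Subtype.ext ?_⟩
    obtain ⟨k, rfl⟩ := Subgroup.mem_zpowers_iff.1 hy
    show ((π rotM) ^ k) ^ (5 ^ 1) = 1
    rw [pow_one, ← _root_.zpow_natCast, ← _root_.zpow_mul, mul_comm, _root_.zpow_mul, _root_.zpow_natCast, ← map_pow,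
      rotM_pow, map_one, _root_.one_zpow]
  have hnorm : Subgroup.zpowers (π rotM) ≤ Subgroup.normalizer (T : Set G) := by
    rw [Subgroup.zpowers_le]
    refine Subgroup.mem_normalizer_fintype ?_
    rintro _ ⟨b, rfl⟩
    refine ⟨rotT b, ?_⟩
    show π (Φ (rotT b)) = π rotM * π (Φ b) * (π rotM)⁻¹
    rw [eq_mul_inv_iff_mul_eq, ← map_mul, ← map_mul]
    exact congrArg π (rot_dg b).symm
  have hN := IsPGroup.to_sup_of_normal_right' hR5 hT5 hnorm
  -- a noncommuting pair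
  let z : Subgroup.zpowers ζ := ⟨ζ, Subgroup.mem_zpowers ζ⟩
  let b : tor ζ (Fin 5) := ⟨![z, z⁻¹, 1, 1, 1], by
    show ∏ i, (![z, z⁻¹, 1, 1, 1] : Fin 5 → Subgroup.zpowers ζ) i = 1
    rw [Fin.prod_univ_five]
    show z * z⁻¹ * 1 * 1 * 1 = 1
    simp⟩
  have h1 := hcomm _ hN (π rotM) (Subgroup.mem_sup_left (Subgroup.mem_zpowers _)) (π (Φ b))
    (Subgroup.mem_sup_right ⟨b, rfl⟩)
  have h2 : Φ (rotT b * b⁻¹) ∈ center (_root_.Matrix.SpecialLinearGroup (Fin 5) F) := by
    rw [← hker, MonoidHom.mem_ker, map_mul, map_mul, map_inv, map_inv, mul_inv_eq_one]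
    have h3 := congrArg π (rot_dg b)
    rw [map_mul, h1, map_mul] at h3
    exact (mul_right_cancel h3).symm
  have h3 : (((1 : Subgroup.zpowers ζ) * (z⁻¹)⁻¹ : Subgroup.zpowers ζ) : Fˣ) =
    (((1 : Subgroup.zpowers ζ) * 1⁻¹ : Subgroup.zpowers ζ) : Fˣ) := dgOf_center h2 1 2
  rw [inv_inv, inv_one, one_mul, one_mul] at h3
  have h4 : ζ = 1 := h3
  rw [h4, orderOf_one] at hζ
  norm_num at hζ

end Cfsg.Agent.GpLn.Five

end

-- merged: Cfsg.Agent.GpLn.Row
section

/-!
# The row `PSL_n(2^k)`, `n ≥ 5`, of S1805, S1806, S1807 (helper70)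
-/

set_option autoImplicit false
set_option linter.style.haveILetI false

namespace Cfsg.Agent.GpLn.Row

open Subgroup Cfsg Matrix Cfsg.Agent.GpLn.Block Cfsg.Agent.GpLn.Rank Cfsg.Agent.GpLn.Elem Cfsg.Agent.GpLn.Quot
open Cfsg.Agent.GpLn.Big Cfsg.Agent.GpLn.Torus Cfsg.Agent.GpLn.Five Cfsg.Agent.SigTab

universe u v w

section

variable {F : Type v} [Field F] [Fintype F]

/-- **The case `p ∣ q - 1`, `n ≥ 6`**: `x = diag(ζ, ζ⁻¹, 1, …, 1)` -/
theorem torus_six {G : Type u} [Group G] [Finite G] {n p : ℕ}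
    (e : G ≃* ProjectiveSpecialLinearGroup (Fin n) F) (hp : p.Prime) (hp2 : p ≠ 2)
    (hp1 : p ∣ Fintype.card F - 1) (hno : NoCT.{u} F p) (hn : 6 ≤ n) : ¬ LpoAll p G (InCT p) := by
  classical
  haveI : Fact p.Prime := ⟨hp⟩
  have hq1 : 1 < Fintype.card F := Fintype.one_lt_card
  obtain ⟨ζ, hζ⟩ := exists_prime_orderOf_dvd_card' (G := Fˣ) p (by
    rw [Nat.card_units, Nat.card_eq_fintype_card]; exact hp1)
  have hcard : Fintype.card (Fin 2 ⊕ Fin (n - 2)) = n := by
    simp only [Fintype.card_sum, Fintype.card_fin]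
    omega
  obtain ⟨π, hπ, hker⟩ := exists_proj e hcard
  have hζp : ζ ^ p = 1 := by rw [← hζ]; exact pow_orderOf_eq_one ζ
  have hζ1 : ζ ≠ 1 := by
    rintro rfl
    rw [orderOf_one] at hζ
    exact hp.one_lt.ne hζ
  have hdet : (diagonal ![(ζ : F), ((ζ⁻¹ : Fˣ) : F)]).det * (1 : Matrix (Fin (n - 2)) (Fin (n - 2)) F).det = 1 := by
    rw [det_diagonal, det_one, mul_one, Fin.prod_univ_two]
    show (ζ : F) * ((ζ⁻¹ : Fˣ) : F) = 1
    exact ζ.mul_inv
  set x := blk (diagonal ![(ζ : F), ((ζ⁻¹ : Fˣ) : F)]) (1 : Matrix (Fin (n - 2)) (Fin (n - 2)) F) hdet with hxdef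
  have hx : (x : Matrix (Fin 2 ⊕ Fin (n - 2)) (Fin 2 ⊕ Fin (n - 2)) F) =
      fromBlocks (diagonal ![(ζ : F), ((ζ⁻¹ : Fˣ) : F)]) 0 0 ((1 : F) • (1 : Matrix (Fin (n - 2)) (Fin (n - 2)) F)) := by
    rw [hxdef, coe_blk, one_smul]
  have hxd : (x : Matrix (Fin 2 ⊕ Fin (n - 2)) (Fin 2 ⊕ Fin (n - 2)) F) =
      diagonal (Sum.elim ![(ζ : F), ((ζ⁻¹ : Fˣ) : F)] (fun _ => 1)) := by
    rw [hxdef, coe_blk, ← diagonal_one, fromBlocks_diagonal]
  refine main (F := F) (ι := Fin 2) (κ := Fin (n - 2)) hπ hker hp hp2 (c := 1)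
    (A := diagonal ![(ζ : F), ((ζ⁻¹ : Fˣ) : F)]) ?_ hx ?_
    (torus_rank hp hζ hker hxd (Or.inl (by rw [hcard]; exact hn))) ?_ ?_ ?_
  · rw [one_smul, ← diagonal_one, diagonal_sub, det_diagonal, Fin.prod_univ_two]
    show ((ζ : F) - 1) * (((ζ⁻¹ : Fˣ) : F) - 1) ≠ 0
    refine mul_ne_zero ?_ ?_
    · rw [sub_ne_zero]
      intro h
      exact hζ1 (Units.ext h)
    · rw [sub_ne_zero]
      intro h
      exact hζ1 (inv_eq_one.1 (Units.ext h))
  · rw [← map_pow]
    have h1 : x ^ p = 1 := by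
      refine ext' ?_
      rw [Matrix.SpecialLinearGroup.coe_pow, hxd, diagonal_pow, Matrix.SpecialLinearGroup.coe_one, ← diagonal_one]
      congr 1
      funext i
      rcases i with i | i
      · have h2 : (ζ : F) ^ p = 1 := by rw [← Units.val_pow_eq_pow_val, hζp, Units.val_one]
        have h3 : ((ζ⁻¹ : Fˣ) : F) ^ p = 1 := by
          rw [← Units.val_pow_eq_pow_val, inv_pow, hζp, inv_one, Units.val_one]
        fin_cases i
        · exact h2
        · exact h3
      · exact one_pow p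
    rw [h1, map_one]
  · rw [Fintype.card_fin]; omega
  · exact sl_rank hp hζ (by rw [Fintype.card_fin]; omega)
  · intro K _ _ hK e' hr'
    refine hno.of_fintype (by rw [Fintype.card_fin]; omega) ?_ K hK e' hr'
    intro h
    rw [h] at hp1
    exact absurd (Nat.dvd_one.1 hp1) hp.one_lt.ne'

/-- **The case `n = 5`, `p ∣ q - 1`**: `x = diag(β⁻⁴, β, β, β, β)`, `β ^ 5` of order `p` -/
theorem torus_five {G : Type u} [Group G] [Finite G] {p : ℕ}
    (e : G ≃* ProjectiveSpecialLinearGroup (Fin 5) F) (hp : p.Prime) (hp2 : p ≠ 2)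
    (hp1 : p ∣ Fintype.card F - 1) (hno : NoCT.{u} F p) {β : Fˣ} (hβ1 : β ^ 5 ≠ 1) (hβ : (β ^ 5) ^ p = 1)
    (hrank : ∀ {π : _root_.Matrix.SpecialLinearGroup (Fin 1 ⊕ Fin 4) F →* G},
      π.ker = center (_root_.Matrix.SpecialLinearGroup (Fin 1 ⊕ Fin 4) F) →
      ∀ {x : _root_.Matrix.SpecialLinearGroup (Fin 1 ⊕ Fin 4) F} {y : Fin 1 ⊕ Fin 4 → F},
        (x : Matrix (Fin 1 ⊕ Fin 4) (Fin 1 ⊕ Fin 4) F) = diagonal y →
        PRankAtLeast p 4 ↥(centralizer ({π x} : Set G))) : ¬ LpoAll p G (InCT p) := by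
  classical
  haveI : Fact p.Prime := ⟨hp⟩
  obtain ⟨ζ, hζ⟩ := exists_prime_orderOf_dvd_card' (G := Fˣ) p (by
    rw [Nat.card_units, Nat.card_eq_fintype_card]; exact hp1)
  have hcard : Fintype.card (Fin 1 ⊕ Fin 4) = 5 := by
    simp only [Fintype.card_sum, Fintype.card_fin]
  obtain ⟨π, hπ, hker⟩ := exists_proj e hcard
  have hγ : (β ^ 4)⁻¹ * β ^ 4 = 1 := inv_mul_cancel _
  have hdet : (diagonal (fun _ : Fin 1 => (((β ^ 4)⁻¹ : Fˣ) : F))).det *
      ((β : F) • (1 : Matrix (Fin 4) (Fin 4) F)).det = 1 := by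
    rw [det_diagonal, det_smul, det_one, mul_one, Fintype.card_fin]
    simp only [Finset.univ_unique, Fin.default_eq_zero, Finset.prod_const, Finset.card_singleton, pow_one]
    rw [← Units.val_pow_eq_pow_val, ← Units.val_mul, hγ, Units.val_one]
  set x := blk (diagonal (fun _ : Fin 1 => (((β ^ 4)⁻¹ : Fˣ) : F))) ((β : F) • (1 : Matrix (Fin 4) (Fin 4) F)) hdet
    with hxdef
  have hx : (x : Matrix (Fin 1 ⊕ Fin 4) (Fin 1 ⊕ Fin 4) F) =
      fromBlocks (diagonal (fun _ : Fin 1 => (((β ^ 4)⁻¹ : Fˣ) : F))) 0 0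
        ((β : F) • (1 : Matrix (Fin 4) (Fin 4) F)) := by
    rw [hxdef, coe_blk]
  have hxd : (x : Matrix (Fin 1 ⊕ Fin 4) (Fin 1 ⊕ Fin 4) F) =
      diagonal (Sum.elim (fun _ => (((β ^ 4)⁻¹ : Fˣ) : F)) (fun _ => (β : F))) := by
    rw [hx, ← diagonal_one, ← diagonal_smul, fromBlocks_diagonal]
    congr 1
    funext i
    rcases i with i | i <;> simp
  refine main (F := F) (ι := Fin 1) (κ := Fin 4) hπ hker hp hp2 (c := (β : F))
    (A := diagonal (fun _ : Fin 1 => (((β ^ 4)⁻¹ : Fˣ) : F))) ?_ hx ?_ (hrank hker hxd) ?_ ?_ ?_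
  · rw [← diagonal_one, ← diagonal_smul, diagonal_sub, det_diagonal]
    simp only [Finset.univ_unique, Fin.default_eq_zero, Finset.prod_const, Finset.card_singleton, pow_one,
      Pi.smul_apply, smul_eq_mul, mul_one]
    rw [sub_ne_zero]
    intro h
    have h1 : (β ^ 4)⁻¹ = β := Units.ext h
    apply hβ1
    rw [pow_succ β 4]
    nth_rewrite 2 [← h1]
    exact mul_inv_cancel _
  · rw [← map_pow]
    have h1 : x ^ p ∈ center (_root_.Matrix.SpecialLinearGroup (Fin 1 ⊕ Fin 4) F) := by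
      rw [Matrix.SpecialLinearGroup.mem_center_iff]
      have hb : ((β ^ 4)⁻¹) ^ p = β ^ p := by
        rw [inv_pow, inv_eq_iff_mul_eq_one, ← mul_pow, ← pow_succ]
        exact hβ
      refine ⟨((β ^ p : Fˣ) : F), ?_, ?_⟩
      · rw [hcard, ← Units.val_pow_eq_pow_val, ← pow_mul, mul_comm p 5, pow_mul, hβ, Units.val_one]
      · rw [Matrix.SpecialLinearGroup.coe_pow, hxd, diagonal_pow, scalar_apply]
        congr 1
        funext i
        rcases i with i | i
        · show ((β ^ p : Fˣ) : F) = (((β ^ 4)⁻¹ : Fˣ) : F) ^ p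
          rw [← Units.val_pow_eq_pow_val, hb]
        · show ((β ^ p : Fˣ) : F) = (β : F) ^ p
          rw [← Units.val_pow_eq_pow_val]
    rw [← hker] at h1
    exact h1
  · rw [Fintype.card_fin]; norm_num
  · exact sl_rank hp hζ (by rw [Fintype.card_fin]; norm_num)
  · intro K _ _ hK e' hr'
    refine hno.of_fintype (by rw [Fintype.card_fin]) ?_ K hK e' hr'
    intro h
    rw [h] at hp1
    exact absurd (Nat.dvd_one.1 hp1) hp.one_lt.ne'

/-- `PSL_n(q)`, `n ≥ 5`, `p ∣ q - 1` -/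
theorem torus {G : Type u} [Group G] [Finite G] {n p : ℕ}
    (e : G ≃* ProjectiveSpecialLinearGroup (Fin n) F) (hp : p.Prime) (hp2 : p ≠ 2)
    (hp1 : p ∣ Fintype.card F - 1) (h4 : PRankAtLeast p 4 G) (hno : NoCT.{u} F p) (hn : 5 ≤ n) :
    ¬ LpoAll p G (InCT p) := by
  haveI : Fact p.Prime := ⟨hp⟩
  rcases Nat.lt_or_ge 5 n with h | h
  · exact torus_six e hp hp2 hp1 hno h
  obtain rfl : n = 5 := by omega
  have hcard : Fintype.card (Fin 1 ⊕ Fin 4) = 5 := by
    simp only [Fintype.card_sum, Fintype.card_fin]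
  by_cases hp5 : p = 5
  · subst hp5
    have h25 := five e hp1 h4
    obtain ⟨g, hg⟩ := IsCyclic.exists_ofOrder_eq_natCard (α := Fˣ)
    rw [Nat.card_units, Nat.card_eq_fintype_card] at hg
    obtain ⟨k, hk⟩ := h25
    have hk0 : k ≠ 0 := by
      rintro rfl
      have : 1 < Fintype.card F := Fintype.one_lt_card
      omega
    have hβ : orderOf (g ^ k) = 25 := by
      rw [orderOf_pow' g hk0, hg, hk, Nat.gcd_eq_right (Dvd.intro_left 25 rfl),
        Nat.mul_div_cancel _ (Nat.pos_of_ne_zero hk0)]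
    refine torus_five e hp hp2 hp1 hno (β := g ^ k) ?_ ?_
      (fun {π} hker {x y} hx => torus_rank_five hβ hker hx hcard)
    · intro h
      have h1 := orderOf_dvd_of_pow_eq_one h
      rw [hβ] at h1
      norm_num at h1
    · rw [← pow_mul, show 5 * 5 = orderOf (g ^ k) by rw [hβ]]
      exact pow_orderOf_eq_one _
  · have h5 : ¬ p ∣ 5 := by
      intro h
      exact hp5 ((Nat.prime_dvd_prime_iff_eq hp (by norm_num)).1 h)
    obtain ⟨ζ, hζ⟩ := exists_prime_orderOf_dvd_card' (G := Fˣ) p (by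
      rw [Nat.card_units, Nat.card_eq_fintype_card]; exact hp1)
    refine torus_five e hp hp2 hp1 hno (β := ζ) ?_ ?_
      (fun {π} hker {x y} hx => torus_rank hp hζ hker hx (Or.inr ⟨by rw [hcard], by rw [hcard]; exact h5⟩))
    · intro h
      have h1 := orderOf_dvd_of_pow_eq_one h
      rw [hζ] at h1
      exact h5 h1
    · rw [← pow_mul, mul_comm, pow_mul, ← hζ, pow_orderOf_eq_one, one_pow]

end

/-- **`PSL_n(q)`, `n ≥ 5`, `p ≠ char`, `p` odd, `m_p(G) ≥ 4`** -/
theorem psl {G : Type u} [Group G] [Finite G] {F : Type v} [Field F] [Fintype F] {n p : ℕ}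
    (e : G ≃* ProjectiveSpecialLinearGroup (Fin n) F) (hn : 5 ≤ n) (hp : p.Prime) (hp2 : p ≠ 2) (hpF : (p : F) ≠ 0)
    (h4 : PRankAtLeast p 4 G) (hno : NoCT.{u} F p) : ¬ LpoAll p G (InCT p) := by
  by_cases hp1 : p ∣ Fintype.card F - 1
  · exact torus e hp hp2 hp1 h4 hno hn
  · exact big e hp hp2 hpF hp1 h4 hno

/-- an odd prime is not zero in a field of even order -/
theorem cast_ne_zero_of_even {F : Type*} [Field F] [Fintype F] (hF : Even (Fintype.card F)) {p : ℕ} (hp : p.Prime)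
    (hp2 : p ≠ 2) : (p : F) ≠ 0 := by
  obtain ⟨c, hc⟩ := CharP.exists F
  haveI := hc
  obtain ⟨k, hc1, hk⟩ := FiniteField.card F c
  have h2 : c = 2 := by
    have h3 : 2 ∣ c := by
      apply Nat.prime_two.dvd_of_dvd_pow
      rw [← hk]
      exact hF.two_dvd
    exact ((Nat.prime_dvd_prime_iff_eq Nat.prime_two hc1).1 h3).symm
  intro h
  rw [CharP.cast_eq_zero_iff F c, h2] at h
  exact hp2 ((Nat.prime_dvd_prime_iff_eq Nat.prime_two hp).1 h).symm

/-- `p ∈ σ(G)` implies `m_p(G) ≥ 4` -/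
theorem rank_of_sigma {G : Type*} [Group G] [Finite G] {p : ℕ} (h : p ∈ sigmaSet G) : PRankAtLeast p 4 G := by
  obtain ⟨-, -, S, M, -, hr⟩ := h
  refine rank_quot M.subtype ?_ hr
  rw [Subgroup.ker_subtype, Subgroup.card_bot]
  exact Nat.coprime_one_left p

/-- **The row**, modulo the non-isomorphism input. -/
theorem psl_of (hno : ∀ (F : Type) [Field F] [Fintype F], Even (Fintype.card F) →
      ∀ p : ℕ, p.Prime → p ≠ 2 → NoCT.{u} F p) :
    NotCT.{u} (fun X _ => PslEven (fun n q => 5 ≤ n ∧ (q = 2 → 8 ≤ n)) X) := by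
  rintro G _ _ ⟨F, _, _, n, hev, ⟨hn, -⟩, ⟨e⟩⟩ p hp
  exact psl e hn hp.1 hp.2.1 (cast_ne_zero_of_even hev hp.1 hp.2.1) (rank_of_sigma hp) (hno F hev p hp.1 hp.2.1)

end Cfsg.Agent.GpLn.Row

end

-- merged: Cfsg.Agent.GpLn.Psl
section

/-!
# The row `psl` of `NotCTRows` (helper70)
-/

set_option autoImplicit false

namespace Cfsg.Agent.GpLn.Psl

open Subgroup Cfsg Cfsg.Agent.GpLn.Big Cfsg.Agent.SigTab

universe u

theorem noCT {F : Type} [Field F] [Fintype F] (hF : Even (Fintype.card F)) {p : ℕ} (hp : p.Prime) (hp2 : p ≠ 2) :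
    NoCT.{u} F p := by
  intro m hm hm2 K _ _ _ e hr
  obtain ⟨k, hk⟩ : ∃ k, Fintype.card F = 2 ^ k := by
    obtain ⟨q, _, n, hq, hn⟩ := FiniteField.card' F
    have h2 : 2 ∣ q := by
      have h3 := hF.two_dvd
      rw [hn] at h3
      exact Nat.prime_two.dvd_of_dvd_pow h3
    have h4 : 2 = q := (Nat.prime_dvd_prime_iff_eq Nat.prime_two hq).1 h2
    exact ⟨n, by rw [hn, h4]⟩
  have hkm : 2 ≤ k ∨ 6 ≤ m := by
    by_cases h : 2 ≤ k
    · exact Or.inl h
    · right
      apply hm2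
      have h1 : 1 < Fintype.card F := Fintype.one_lt_card
      rw [hk] at h1
      have h3 : k = 1 := by
        rcases Nat.lt_or_ge k 1 with h4 | h4
        · interval_cases k
          norm_num at h1
        · omega
      rw [hk, h3, pow_one]
  have hr' : ¬ PRankLE p 1 K := by
    intro h
    obtain ⟨E, hE, hEp, hc⟩ := hr
    have h1 := h E hE hEp
    have h3 : p ^ 1 < p ^ 2 := Nat.pow_lt_pow_right hp.one_lt (by norm_num)
    omega
  obtain ⟨h1, h2⟩ := NotCT.ln hk hp hp2 (by omega) hkm (fun _ => hm) hr' e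
  rintro (h | h)
  · exact h1 h
  · exact h2 h

/-- **`NotCTRows.psl`** -/
theorem psl : SigTab.NotCT.{u} (fun X _ => PslEven (fun n q => 5 ≤ n ∧ (q = 2 → 8 ≤ n)) X) :=
  Row.psl_of (fun _ _ _ hF _ hp hp2 => noCT hF hp hp2)

end Cfsg.Agent.GpLn.Psl

end

-- merged: Cfsg.Agent.GpOm.Two
section

/-!
# Elements of order three and elementary abelian 3-groups in orthogonal groups over the field of two elements
(helper74)

* `op_plane`: the plane spanned by `v, w` with `Q v = Q w = b(v,w) = 1`, and its rotation `rotV` of order three, with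
  fixed space the orthogonal complement of the plane;
* `exists_plane`: over the field of two elements every nondegenerate space of dimension at least 3 has such a plane;
* `exists_three`: in dimension at least `2 k + 1` the isometry group has an elementary abelian subgroup of order `3 ^ k`;
* `isMinus_of_fix`: if the fixed space of `rotV` is of plus type then the space is of minus type.
-/

set_option autoImplicit false
set_option linter.style.haveILetI false
set_option linter.unusedSectionVars false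

namespace Cfsg.Agent.GpOm.Two

open QuadraticMap hiding proj
open Cfsg.Agent.LieClassical.OrthCore Cfsg.Agent.LieClassical.OrthTrans Cfsg.Agent.GpOm.Ext
open Cfsg.Agent.GpOm.Classify Cfsg.Agent.GpOm.Sel
open Cfsg.Agent.LieClassical.QuadForms (binForm binForm_apply polar_binForm)

universe u v

section Plane

variable {F : Type*} [Field F] {V : Type*} [AddCommGroup V] [Module F V] {Q : QuadraticForm F V}

/-- the rotation `(z₀, z₁) ↦ (z₁, z₀ + z₁)` -/
def rot (F : Type*) [Field F] [CharP F 2] : (Fin 2 → F) ≃ₗ[F] (Fin 2 → F) where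
  toFun z := ![z 1, z 0 + z 1]
  invFun z := ![z 0 + z 1, z 0]
  map_add' z z' := by
    ext i
    fin_cases i
    · simp
    · simp only [_root_.Fin.isValue, _root_.Pi.add_apply, _root_.Nat.succ_eq_add_one, _root_.Nat.reduceAdd, _root_.Fin.mk_one, _root_.Matrix.cons_val_one, _root_.Matrix.cons_val_fin_one]; ring
  map_smul' c z := by
    ext i
    fin_cases i
    · simp
    · simp only [_root_.Fin.isValue, _root_.Pi.smul_apply, _root_.smul_eq_mul, _root_.Nat.succ_eq_add_one, _root_.Nat.reduceAdd, _root_.Fin.mk_one, _root_.Matrix.cons_val_one, _root_.Matrix.cons_val_fin_one, _root_.RingHom.id_apply]; ring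
  left_inv z := by
    have h2 : (2 : F) = 0 := CharTwo.two_eq_zero
    ext i
    fin_cases i
    · simp; linear_combination z 1 * h2
    · simp
  right_inv z := by
    have h2 : (2 : F) = 0 := CharTwo.two_eq_zero
    ext i
    fin_cases i
    · simp
    · simp; linear_combination z 0 * h2

variable [CharP F 2]

theorem rot_apply (z : Fin 2 → F) : rot F z = ![z 1, z 0 + z 1] := rfl

theorem rot_pow_three : rot F ^ 3 = 1 := by
  have h2 : (2 : F) = 0 := CharTwo.two_eq_zero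
  ext z i
  change rot F (rot F (rot F z)) i = z i
  fin_cases i
  · simp [rot_apply]; linear_combination z 1 * h2
  · simp [rot_apply]; linear_combination (z 1 + z 0) * h2

theorem rot_fix {z : Fin 2 → F} (h : rot F z = z) : z = 0 := by
  have h0 := congrFun h 0
  have h1 := congrFun h 1
  simp [rot_apply] at h0 h1
  ext i
  fin_cases i
  · exact h1
  · exact h0.trans h1

theorem rot_mem_O : rot F ∈ O (binForm F 1 1) := by
  have h2 : (2 : F) = 0 := CharTwo.two_eq_zero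
  intro z
  rw [binForm_apply, binForm_apply, rot_apply]
  simp only [_root_.Nat.succ_eq_add_one, _root_.Nat.reduceAdd, _root_.Fin.isValue, _root_.Matrix.cons_val_zero, _root_.one_mul, _root_.Matrix.cons_val_one, _root_.Matrix.cons_val_fin_one]
  linear_combination (z 1 ^ 2 + z 0 * z 1) * h2

/-- the embedding of the plane -/
def planeI (v w : V) : (Fin 2 → F) →ₗ[F] V :=
  (LinearMap.proj 0).smulRight v + (LinearMap.proj 1).smulRight w

theorem planeI_apply (v w : V) (z : Fin 2 → F) : planeI v w z = z 0 • v + z 1 • w := rfl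

/-- the projection to the plane -/
def planeP (Q : QuadraticForm F V) (v w : V) : V →ₗ[F] (Fin 2 → F) :=
  LinearMap.pi ![polarBilin Q w, polarBilin Q v]

theorem planeP_zero (v w x : V) : planeP Q v w x 0 = polar Q w x := rfl

theorem planeP_one (v w x : V) : planeP Q v w x 1 = polar Q v x := rfl

theorem op_plane {v w : V} (hv : Q v = 1) (hw : Q w = 1) (hvw : polar Q v w = 1) :
    OP (binForm F 1 1) Q (planeI v w) (planeP Q v w) := by
  have h2 : (2 : F) = 0 := CharTwo.two_eq_zero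
  have hvv : polar Q v v = 0 := by rw [polar_self', h2, zero_mul]
  have hww : polar Q w w = 0 := by rw [polar_self', h2, zero_mul]
  have hwv : polar Q w v = 1 := by rw [polar_comm]; exact hvw
  refine ⟨fun z => ?_, fun z => ?_, fun z x => ?_⟩
  · ext i
    fin_cases i
    · change planeP Q v w (planeI v w z) 0 = z 0
      rw [planeP_zero, planeI_apply, polar_add_right, polar_smul_right, polar_smul_right, hwv, hww]
      simp
    · change planeP Q v w (planeI v w z) 1 = z 1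
      rw [planeP_one, planeI_apply, polar_add_right, polar_smul_right, polar_smul_right, hvw, hvv]
      simp
  · rw [planeI_apply, Q_add, QuadraticMap.map_smul, QuadraticMap.map_smul, polar_smul_left, polar_smul_right, hv, hw,
      hvw, binForm_apply]
    simp only [smul_eq_mul]
    ring
  · rw [polar_binForm, planeP_zero, planeP_one, planeI_apply, polar_add_left, polar_smul_left, polar_smul_left, h2]
    simp only [smul_eq_mul]
    ring

/-- the rotation of the plane spanned by `v, w` -/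
def rotV {v w : V} (h : OP (binForm F 1 1) Q (planeI v w) (planeP Q v w)) : V ≃ₗ[F] V := h.ext (rot F)

theorem rotV_mem_O {v w : V} (h : OP (binForm F 1 1) Q (planeI v w) (planeP Q v w)) : rotV h ∈ O Q :=
  h.ext_mem_O rot_mem_O

theorem rotV_pow {v w : V} (h : OP (binForm F 1 1) Q (planeI v w) (planeP Q v w)) : rotV h ^ 3 = 1 := by
  rw [rotV, ← map_pow, rot_pow_three, map_one]

theorem mem_Fix_rotV {v w : V} (h : OP (binForm F 1 1) Q (planeI v w) (planeP Q v w)) {x : V} :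
    x ∈ _root_.Cfsg.Agent.GpOm.Ext.Fix (rotV h) ↔ planeP Q v w x = 0 := by
  rw [mem_Fix, rotV, h.ext_apply]
  constructor
  · intro h1
    apply rot_fix
    apply h.inj
    have h2 : planeI v w (rot F (planeP Q v w x)) - planeI v w (planeP Q v w x) = 0 := by
      have h3 := sub_eq_zero.2 h1
      rw [← h3]
      abel
    exact sub_eq_zero.1 h2
  · intro h1
    rw [h1]
    simp only [_root_.map_zero, _root_.add_zero, _root_.sub_zero]

theorem rotV_ne_one {v w : V} (h : OP (binForm F 1 1) Q (planeI v w) (planeP Q v w)) : rotV h ≠ 1 := by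
  intro h1
  have h2 : planeI v w (fun _ => (1 : F)) ∈ _root_.Cfsg.Agent.GpOm.Ext.Fix (rotV h) := by
    rw [mem_Fix, h1]
    rfl
  rw [mem_Fix_rotV, h.fix] at h2
  exact one_ne_zero (congrFun h2 0)

theorem finrank_Fix_rotV [Finite F] [FiniteDimensional F V] (hQ : Nondeg Q) {v w : V}
    (h : OP (binForm F 1 1) Q (planeI v w) (planeP Q v w)) :
    Module.finrank F ↥(_root_.Cfsg.Agent.GpOm.Ext.Fix (rotV h)) + 2 = Module.finrank F V := by
  apply le_antisymm
  · exact finrank_Fix_add_two_le hQ (rotV_mem_O h) (rotV_ne_one h) (n := 3) (by decide) (rotV_pow h)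
  · have h1 : _root_.Cfsg.Agent.GpOm.Ext.Fix (rotV h) = LinearMap.ker (planeP Q v w) := by
      ext x
      rw [mem_Fix_rotV, LinearMap.mem_ker]
    have h2 := LinearMap.finrank_range_add_finrank_ker (planeP Q v w)
    have h3 : Module.finrank F ↥(LinearMap.range (planeP Q v w)) ≤ 2 := by
      refine le_trans (Submodule.finrank_le _) ?_
      rw [Module.finrank_fin_fun]
    rw [h1]
    omega

/-- If the fixed space of the rotation is of plus type then the whole space is of minus type. -/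
theorem isMinus_of_fix [Finite F] [FiniteDimensional F V] (hQ : Nondeg Q) (h11 : Aniso (1 : F) 1) {v w : V}
    (h : OP (binForm F 1 1) Q (planeI v w) (planeP Q v w)) {m : ℕ}
    (hm : IsPlus (Q.comp (_root_.Cfsg.Agent.GpOm.Ext.Fix (rotV h)).subtype) m) : IsMinus Q m := by
  obtain ⟨e, he⟩ := hm
  refine ⟨1, 1, h11, ?_⟩
  let f : ((Fin m ⊕ Fin m) ⊕ Fin 2 → F) →ₗ[F] V :=
    ((_root_.Cfsg.Agent.GpOm.Ext.Fix (rotV h)).subtype ∘ₗ (e : (Fin m ⊕ Fin m → F) →ₗ[F] ↥(_root_.Cfsg.Agent.GpOm.Ext.Fix (rotV h)))) ∘ₗ LinearMap.funLeft F F Sum.inl +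
      planeI v w ∘ₗ LinearMap.funLeft F F Sum.inr
  have hf : ∀ u, f u = ((e fun i => u (.inl i) : ↥(_root_.Cfsg.Agent.GpOm.Ext.Fix (rotV h))) : V) + planeI v w (fun i => u (.inr i)) :=
    fun u => rfl
  have hQf : ∀ u, Q (f u) = Cfsg.Agent.LieClassical.OrthForms.minusForm m F 1 1 u := by
    intro u
    have h1 : polar Q ((e fun i => u (.inl i) : ↥(_root_.Cfsg.Agent.GpOm.Ext.Fix (rotV h))) : V) (planeI v w (fun i => u (.inr i))) = 0 := by
      rw [polar_comm, ← h.adj, (mem_Fix_rotV h).1 (e fun i => u (.inl i)).2, polar_zero_right]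
    have h2 := he (fun i => u (.inl i))
    change Q ((e fun i => u (.inl i) : ↥(_root_.Cfsg.Agent.GpOm.Ext.Fix (rotV h))) : V) = _ at h2
    rw [hf, Q_add, h1, h2, h.iso, add_zero, plusForm_eq, minusForm_eq,
      Cfsg.Agent.LieClassical.QuadForms.minusForm_apply]
  have hinj : Function.Injective f := by
    rw [← LinearMap.ker_eq_bot, LinearMap.ker_eq_bot']
    intro u hu
    apply Cfsg.Agent.LieClassical.OrthForms.nondeg_minusForm m F 1 1 h11
    intro u'
    have h3 : polar (Cfsg.Agent.LieClassical.OrthForms.minusForm m F 1 1) u u' = polar Q (f u) (f u') := by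
      simp only [polar, ← hQf, map_add]
    rw [h3, hu, polar_zero_left]
  have hdim : Module.finrank F ((Fin m ⊕ Fin m) ⊕ Fin 2 → F) = Module.finrank F V := by
    rw [← finrank_Fix_rotV hQ h, ← e.finrank_eq]
    simp only [Module.finrank_fintype_fun_eq_card, Fintype.card_sum, Fintype.card_fin]
  exact ⟨LinearEquiv.ofInjectiveOfFinrankEq f hinj hdim, fun u => hQf u⟩

end Plane

section Card

variable {F : Type u} [Field F] [Finite F]

theorem eq_one_of_card (hF : Nat.card F = 2) {a : F} (ha : a ≠ 0) : a = 1 := by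
  obtain ⟨x, y, hxy, hu⟩ := Nat.card_eq_two_iff.1 hF
  have h0 : (0 : F) = x ∨ (0 : F) = y := by
    have : (0 : F) ∈ ({x, y} : Set F) := by rw [hu]; trivial
    simpa using this
  have h1 : (1 : F) = x ∨ (1 : F) = y := by
    have : (1 : F) ∈ ({x, y} : Set F) := by rw [hu]; trivial
    simpa using this
  have h2 : a = x ∨ a = y := by
    have : a ∈ ({x, y} : Set F) := by rw [hu]; trivial
    simpa using this
  have h01 : (0 : F) ≠ 1 := zero_ne_one
  rcases h0 with h0 | h0 <;> rcases h1 with h1 | h1 <;> rcases h2 with h2 | h2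
  · exact absurd (h0.trans h1.symm) h01
  · exact absurd (h0.trans h1.symm) h01
  · exact absurd (h2.trans h0.symm) ha
  · exact h2.trans h1.symm
  · exact h2.trans h1.symm
  · exact absurd (h2.trans h0.symm) ha
  · exact absurd (h0.trans h1.symm) h01
  · exact absurd (h0.trans h1.symm) h01

theorem aniso_one_one (hF : Nat.card F = 2) : Aniso (1 : F) 1 := by
  intro z₁ z₂ h
  by_cases h1 : z₁ = 0
  · by_cases h2 : z₂ = 0
    · exact ⟨h1, h2⟩
    · rw [h1, eq_one_of_card hF h2] at h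
      simp at h
  · by_cases h2 : z₂ = 0
    · rw [h2, eq_one_of_card hF h1] at h
      simp at h
    · exfalso
      rw [eq_one_of_card hF h1, eq_one_of_card hF h2] at h
      have h3 : (1 : F) ^ 2 + 1 * 1 * 1 + 1 * 1 ^ 2 = 1 + (1 + 1) := by ring
      have h4 : (1 : F) + 1 = 0 := by
        by_contra h5
        have h6 := eq_one_of_card hF h5
        exact one_ne_zero (add_left_cancel (h6.trans (add_zero 1).symm))
      rw [h3, h4, add_zero] at h
      exact one_ne_zero h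

variable [CharP F 2] {V : Type v} [AddCommGroup V] [Module F V] [FiniteDimensional F V] {Q : QuadraticForm F V}

/-- Over the field of two elements a nondegenerate space of dimension at least three has an anisotropic plane. -/
theorem exists_plane (hF : Nat.card F = 2) (hQ : Nondeg Q) (hd : 3 ≤ Module.finrank F V) :
    ∃ v w : V, Q v = 1 ∧ Q w = 1 ∧ polar Q v w = 1 := by
  haveI : Nontrivial V := Module.nontrivial_of_finrank_pos (R := F) (by omega)
  obtain ⟨v, hv⟩ : ∃ v : V, Q v ≠ 0 := by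
    by_contra hcon
    push Not at hcon
    obtain ⟨y, hy⟩ := exists_ne (0 : V)
    apply hy
    apply hQ
    intro z
    rw [polar, hcon, hcon, hcon]
    simp
  have hv1 := eq_one_of_card hF hv
  have hv0 : v ≠ 0 := by
    rintro rfl
    exact hv (QuadraticMap.map_zero Q)
  obtain ⟨w₀, hw₀⟩ := hQ.exists_polar_eq hv0 1
  by_contra hcon
  have hall : ∀ w, polar Q v w = 1 → Q w = 0 := by
    intro w hw
    by_contra hne
    exact hcon ⟨v, w, hv1, eq_one_of_card hF hne, hw⟩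
  obtain ⟨z, hz0, hz⟩ := exists_perp_ne (Q := Q) ![v, w₀] (by omega)
  have hzv : polar Q v z = 0 := hz 0
  have hzw : polar Q w₀ z = 0 := hz 1
  have hsep : ∀ c : F, z ≠ c • v := by
    intro c hc
    rw [hc, polar_smul_right, polar_comm, hw₀, smul_eq_mul, mul_one] at hzw
    rw [hzw, zero_smul] at hc
    exact hz0 hc
  obtain ⟨y, hy1, hy2⟩ := exists_sep hQ hsep
  have e0 := hall w₀ hw₀
  have e1 := hall (w₀ + z) (by rw [polar_add_right, hw₀, hzv, add_zero])
  have e2 := hall (w₀ + y) (by rw [polar_add_right, hw₀, hy1, add_zero])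
  have e3 := hall (w₀ + (z + y)) (by rw [polar_add_right, polar_add_right, hw₀, hzv, hy1]; simp)
  rw [Q_add, e0] at e1 e2 e3
  rw [Q_add, polar_add_right, hy2] at e3
  exact one_ne_zero (by linear_combination e3 - e1 - e2 : (1 : F) = 0)

/-- An elementary abelian group of isometries of the fixed space of `x`, and `x`. -/
theorem prod_rep {F : Type u} [Field F] [CharP F 2] {V : Type v} [AddCommGroup V] [Module F V] {Q : QuadraticForm F V}
    (hQ : Nondeg Q) {p : ℕ} (hp : p.Prime) (hp2 : p ≠ 2) {x : V ≃ₗ[F] V} (hxO : x ∈ O Q) (hxp : x ^ p = 1) (hx1 : x ≠ 1)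
    {A : Type v} [CommGroup A] [Finite A] (ρ : A →* (↥(_root_.Cfsg.Agent.GpOm.Ext.Fix x) ≃ₗ[F] ↥(_root_.Cfsg.Agent.GpOm.Ext.Fix x))) (hρ : Function.Injective ρ)
    (hA : ∀ a : A, a ^ p = 1) (hO : ∀ a, ρ a ∈ O (Q.comp (_root_.Cfsg.Agent.GpOm.Ext.Fix x).subtype)) {k : ℕ} (hk : p ^ k ≤ Nat.card A) :
    ∃ (B : Type v) (_ : CommGroup B) (_ : Finite B) (σ : B →* (V ≃ₗ[F] V)), Function.Injective σ ∧
      (∀ b : B, b ^ p = 1) ∧ (∀ b, σ b ∈ O Q) ∧ (∀ b, σ b * x = x * σ b) ∧ p ^ (k + 1) ≤ Nat.card B := by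
  have hfix := fixOP hxO (hp.odd_of_ne_two hp2) hxp
  have hcx : ∀ a : A, hfix.ext (ρ a) * x = x * hfix.ext (ρ a) := fun a =>
    hfix.ext_comm (hfix.nondeg hQ) hxO (fun w => mem_Fix.1 w.2) (ρ a)
  have hcomm : ∀ (a : A) (c : ↥(Subgroup.zpowers x)),
      Commute ((hfix.ext.comp ρ) a) ((Subgroup.zpowers x).subtype c) := by
    intro a c
    obtain ⟨c, n, rfl⟩ := c
    apply Commute.zpow_right
    exact hcx a
  have hx : orderOf x = p := by
    haveI : Fact p.Prime := ⟨hp⟩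
    exact orderOf_eq_prime hxp hx1
  haveI : Finite ↥(Subgroup.zpowers x) :=
    (isOfFinOrder_iff_pow_eq_one.2 ⟨p, hp.pos, hxp⟩).finite_zpowers
  letI : CommGroup ↥(Subgroup.zpowers x) :=
    { (inferInstance : Group ↥(Subgroup.zpowers x)) with
      mul_comm := (inferInstance : IsMulCommutative ↥(Subgroup.zpowers x)).is_comm.comm }
  refine ⟨A × ↥(Subgroup.zpowers x), inferInstance, inferInstance,
    MonoidHom.noncommCoprod (hfix.ext.comp ρ) (Subgroup.zpowers x).subtype hcomm, ?_, ?_, ?_, ?_, ?_⟩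
  · rw [injective_iff_map_eq_one]
    rintro ⟨a, c, n, rfl⟩ hac
    rw [MonoidHom.noncommCoprod_apply] at hac
    change hfix.ext (ρ a) * x ^ n = 1 at hac
    have ha : a = 1 := by
      apply hρ
      rw [map_one]
      ext z
      have h1 : (x ^ n) (z : V) = z := by
        have h4 : ∃ m : ℕ, x ^ n = x ^ m := by
          refine ⟨(n % p).toNat, ?_⟩
          have h5 := zpow_mod_orderOf x n
          rw [hx] at h5
          rw [← h5, ← zpow_natCast]
          congr 1
          exact (Int.toNat_of_nonneg (Int.emod_nonneg _ (by exact_mod_cast hp.ne_zero))).symm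
        obtain ⟨m, hm⟩ := h4
        rw [hm]
        exact pow_fix (mem_Fix.1 z.2) m
      have h6 : (hfix.ext (ρ a) * x ^ n) (z : V) = z := by rw [hac]; rfl
      change hfix.ext (ρ a) ((x ^ n) (z : V)) = z at h6
      rw [h1] at h6
      have h7 := hfix.ext_i (ρ a) z
      change hfix.ext (ρ a) (z : V) = ((ρ a z : ↥(_root_.Cfsg.Agent.GpOm.Ext.Fix x)) : V) at h7
      rw [← h7, h6]
      rfl
    rw [ha, map_one, map_one, one_mul] at hac
    rw [ha]
    exact Prod.ext rfl (Subtype.ext hac)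
  · rintro ⟨a, c⟩
    refine Prod.ext (hA a) ?_
    have h8 : c ^ orderOf x = 1 := by
      rw [← Nat.card_zpowers]
      exact pow_card_eq_one'
    rw [hx] at h8
    exact h8
  · rintro ⟨a, c⟩
    rw [MonoidHom.noncommCoprod_apply]
    refine Subgroup.mul_mem _ (hfix.ext_mem_O (hO a)) ?_
    exact (Subgroup.zpowers_le.2 hxO) c.2
  · rintro ⟨a, c⟩
    rw [MonoidHom.noncommCoprod_apply]
    change hfix.ext (ρ a) * (c : V ≃ₗ[F] V) * x = x * (hfix.ext (ρ a) * (c : V ≃ₗ[F] V))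
    obtain ⟨c, n, rfl⟩ := c
    change hfix.ext (ρ a) * x ^ n * x = x * (hfix.ext (ρ a) * x ^ n)
    rw [mul_assoc, ← zpow_add_one, ← mul_assoc x, ← hcx, mul_assoc, ← zpow_one_add, add_comm]
  · rw [Nat.card_prod, Nat.card_zpowers, hx, pow_succ]
    exact Nat.mul_le_mul_right _ hk

/-- In dimension at least `2 k + 1` over the field of two elements there is an elementary abelian group of order `3 ^ k`
of isometries. -/
theorem exists_three (hF : Nat.card F = 2) : ∀ (k : ℕ) {V : Type v} [AddCommGroup V] [Module F V]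
    [FiniteDimensional F V] {Q : QuadraticForm F V} (_ : Nondeg Q) (_ : 2 * k + 1 ≤ Module.finrank F V),
    ∃ (A : Type v) (_ : CommGroup A) (_ : Finite A) (ρ : A →* (V ≃ₗ[F] V)), Function.Injective ρ ∧
      (∀ a : A, a ^ 3 = 1) ∧ (∀ a, ρ a ∈ O Q) ∧ 3 ^ k ≤ Nat.card A := by
  intro k
  induction k with
  | zero =>
    intro V _ _ _ Q hQ hd
    refine ⟨PUnit, inferInstance, inferInstance, 1, fun a b _ => rfl, fun a => rfl, fun a => Subgroup.one_mem _, ?_⟩
    simp
  | succ k ih =>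
    intro V _ _ _ Q hQ hd
    obtain ⟨v, w, hv, hw, hvw⟩ := exists_plane hF hQ (by omega)
    have h := op_plane hv hw hvw
    have hfix := fixOP (rotV_mem_O h) (n := 3) (by decide) (rotV_pow h)
    have hdim := finrank_Fix_rotV hQ h
    obtain ⟨A, _, _, ρ, hρ, hA, hO, hcard⟩ := ih (hfix.nondeg hQ) (by omega)
    obtain ⟨B, iB, fB, σ, h1, h2, h3, -, h5⟩ := prod_rep hQ Nat.prime_three (by norm_num) (rotV_mem_O h) (rotV_pow h)
      (rotV_ne_one h) ρ hρ hA hO hcard
    exact ⟨B, iB, fB, σ, h1, h2, h3, h5⟩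

end Card

end Cfsg.Agent.GpOm.Two

end

-- merged: Cfsg.Agent.GpOm.Row
section

/-!
# `PΩ^±_{2m}(q)`, `q` even, `m ≥ 4`, is of generic type at every odd prime of `p`-rank at least four (helper74)

`NonIso` : the facts about isomorphism types (proved in `NotCT`);
`exists_gp` : the element of `L_p°(G)`;
`rowPlus`, `rowMinus` : the rows `omegaPlus`, `omegaMinus` of `SigTab.NotCTRows`.
-/

set_option autoImplicit false
set_option linter.style.haveILetI false

namespace Cfsg.Agent.GpOm.Row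

open Cfsg
open QuadraticMap hiding proj
open Cfsg.Agent.LieClassical.OrthCore Cfsg.Agent.LieClassical.OrthTrans Cfsg.Agent.GpOm.Ext
open Cfsg.Agent.GpOm.Classify Cfsg.Agent.GpOm.Sel Cfsg.Agent.OddTab Cfsg.Agent.GpOm.Comp Cfsg.Agent.GpOm.Two
open Cfsg.Agent.LieClassical Cfsg.Agent.CpQuot

universe u v w

/-- **The facts about isomorphism types** -/
structure NonIso : Prop where
  psl : ∀ (F : Type) [Field F] [Fintype F] (p : ℕ), Even (Fintype.card F) → p.Prime → p ≠ 2 →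
    ∀ (K : Type) [Group K] [Finite K], Nonempty (K ≃* Matrix.ProjectiveSpecialLinearGroup (Fin 4) F) →
      ¬ PRankLE p 2 K → ¬ InC p K ∧ ¬ InT p K
  psu : ∀ (F : Type) [Field F] [Fintype F] (q p : ℕ), Even q → Fintype.card F = q ^ 2 → ¬ (q = 2 ∧ p = 3) →
    p.Prime → p ≠ 2 → ∀ (K : Type) [Group K] [Finite K], Nonempty (K ≃* PSU 4 F q) →
      ¬ PRankLE p 2 K → ¬ InC p K ∧ ¬ InT p K
  plus : ∀ (F : Type) [Field F] [Fintype F] (m p : ℕ), Even (Fintype.card F) → 4 ≤ m →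
    ¬ (m = 4 ∧ Fintype.card F = 2 ∧ p = 3) → p.Prime → p ≠ 2 → ∀ (K : Type) [Group K] [Finite K],
      Nonempty (K ≃* POmega F (quadFormPlus m F)) → ¬ PRankLE p 2 K → ¬ InC p K ∧ ¬ InT p K
  minus : ∀ (F : Type) [Field F] [Fintype F] (m : ℕ) (a b : F) (p : ℕ), Even (Fintype.card F) → 4 ≤ m → Aniso a b →
    p.Prime → p ≠ 2 → ∀ (K : Type) [Group K] [Finite K],
      Nonempty (K ≃* POmega F (quadFormMinus (m - 1) F a b)) → ¬ PRankLE p 2 K → ¬ InC p K ∧ ¬ InT p K

/-! ### `E Q` of isometric spaces -/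

section

variable {F : Type u} [Field F] {U : Type v} {V : Type w} [AddCommGroup U] [Module F U] [AddCommGroup V] [Module F V]
  {QU : QuadraticForm F U} {Q : QuadraticForm F V}

/-- isometric spaces have isomorphic groups `E` -/
noncomputable def eEquiv (e : U ≃ₗ[F] V) (he : ∀ u, Q (e u) = QU u) : ↥(E QU) ≃* ↥(E Q) :=
  MulEquiv.ofBijective (extE (op_of_equiv e he)) ⟨extE_injective _, by
    intro g
    have he' : ∀ v, QU (e.symm v) = Q v := fun v => by rw [← he, e.apply_symm_apply]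
    refine ⟨⟨(op_of_equiv e.symm he').ext (g : V ≃ₗ[F] V), (op_of_equiv e.symm he').ext_mem_E g.2⟩, ?_⟩
    apply Subtype.ext
    rw [coe_extE]
    ext v
    rw [OP.ext_apply, OP.ext_apply]
    simp⟩

end

section

variable {F : Type u} [Field F] [Finite F] [CharP F 2] {V : Type v} [AddCommGroup V] [Module F V]
  {Q : QuadraticForm F V}

theorem equiv_of_plus {m : ℕ} (hm : 3 ≤ m) (h : IsPlus Q m) : Nonempty (↥(E Q) ≃* POmega F (quadFormPlus m F)) := by
  obtain ⟨e, he⟩ := h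
  obtain ⟨f⟩ := nonempty_equiv_POmega (OrthForms.nondeg_plusForm m F) (by
    rw [Fintype.card_sum, Fintype.card_fin]; omega)
  rw [OrthForms.coe_plusForm] at f
  exact ⟨(eEquiv e he).symm.trans f⟩

theorem equiv_of_minus {m : ℕ} {a b : F} (hm : 2 ≤ m) (hab : Aniso a b)
    {e : ((Fin m ⊕ Fin m) ⊕ Fin 2 → F) ≃ₗ[F] V} (he : ∀ u, Q (e u) = OrthForms.minusForm m F a b u) :
    Nonempty (↥(E Q) ≃* POmega F (quadFormMinus m F a b)) := by
  obtain ⟨f⟩ := nonempty_equiv_POmega (OrthForms.nondeg_minusForm m F a b hab) (by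
    rw [Fintype.card_sum, Fintype.card_sum, Fintype.card_fin, Fintype.card_fin]; omega)
  rw [OrthForms.coe_minusForm] at f
  exact ⟨(eEquiv e he).symm.trans f⟩

/-- the centre of `E Q` is trivial -/
theorem center_E [FiniteDimensional F V] (hQ : Nondeg Q) (hd : 5 ≤ Module.finrank F V) :
    Subgroup.center ↥(E Q) = ⊥ := by
  have hs : IsSimpleGroup ↥(E Q) := by
    obtain ⟨m, h | h⟩ := classify Q hQ
    · have hm : 3 ≤ m := by have := h.finrank; omega
      obtain ⟨f⟩ := equiv_of_plus hm h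
      refine (Congr.isSimple_iff f).2 ?_
      rw [← OrthForms.coe_plusForm]
      exact OrthFinite.isSimpleGroup_POmega (OrthForms.nondeg_plusForm m F) (by
        rw [Fintype.card_sum, Fintype.card_fin]; omega)
    · have hm : 2 ≤ m := by have := h.finrank; omega
      obtain ⟨a, b, hab, e, he⟩ := h
      obtain ⟨f⟩ := equiv_of_minus hm hab he
      refine (Congr.isSimple_iff f).2 ?_
      rw [← OrthForms.coe_minusForm]
      exact OrthFinite.isSimpleGroup_POmega (OrthForms.nondeg_minusForm m F a b hab) (by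
        rw [Fintype.card_sum, Fintype.card_sum, Fintype.card_fin, Fintype.card_fin]; omega)
  rcases (inferInstance : (Subgroup.center ↥(E Q)).Normal).eq_bot_or_eq_top with h | h
  · exact h
  · exfalso
    haveI := (isQuasisimple_E (OrthFinite.good_of_finite hQ hd)).1
    apply Group.IsPerfect.not_isMulCommutative ↥(E Q)
    refine ⟨⟨fun a b => ?_⟩⟩
    have : a ∈ Subgroup.center ↥(E Q) := by rw [h]; exact Subgroup.mem_top a
    exact (Subgroup.mem_center_iff.mp this b).symm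

end

section

variable {F : Type} [Field F] [Fintype F] [CharP F 2] {V : Type} [AddCommGroup V] [Module F V]
  [FiniteDimensional F V] {Q : QuadraticForm F V}

theorem even_card (F : Type) [Field F] [Fintype F] [CharP F 2] : Even (Fintype.card F) :=
  Nat.even_iff.2 (FiniteField.even_card_iff_char_two.1 (ringChar.eq_iff.2 inferInstance))

theorem exists_quad (F : Type) [Field F] [Fintype F] [CharP F 2] :
    ∃ (K : Type) (_ : Field K) (_ : Fintype K), Fintype.card K = Fintype.card F ^ 2 := by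
  obtain ⟨n, hp, hn⟩ := FiniteField.card F 2
  haveI : Fact (Nat.Prime 2) := ⟨hp⟩
  letI : Fintype (GaloisField 2 ((n : ℕ) * 2)) := Fintype.ofFinite _
  refine ⟨GaloisField 2 ((n : ℕ) * 2), inferInstance, inferInstance, ?_⟩
  rw [← Nat.card_eq_fintype_card, GaloisField.card 2 _ (by have := n.pos; omega), hn, pow_mul]

/-- `E Q` is a `G_p`-group -/
theorem inGp_E (hNI : NonIso) (hQ : Nondeg Q) (hd : 6 ≤ Module.finrank F V) {p : ℕ} (hp : p.Prime) (hp2 : p ≠ 2)
    (h1 : ¬ (Fintype.card F = 2 ∧ p = 3 ∧ (Module.finrank F V = 6 ∨ IsPlus Q 4)))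
    (hrk : PRankAtLeast p 3 ↥(E Q)) : InGp p ↥(E Q) := by
  haveI : Finite (V ≃ₗ[F] V) := by
    haveI : Finite V := Module.finite_of_finite F
    exact Finite.of_injective (fun e : V ≃ₗ[F] V => (e : V → V)) DFunLike.coe_injective
  haveI : Finite ↥(E Q) := inferInstance
  have hG := OrthFinite.good_of_finite hQ (by omega : 5 ≤ Module.finrank F V)
  have hqs := isQuasisimple_E hG
  have hbot := center_E hQ (by omega : 5 ≤ Module.finrank F V)
  have hz : IsPGroup p ↥(Subgroup.center ↥(E Q)) := by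
    rw [hbot]
    exact IsPGroup.of_bot
  let eq : (↥(E Q) ⧸ Subgroup.center ↥(E Q)) ≃* ↥(E Q) :=
    (QuotientGroup.quotientMulEquivOfEq hbot).trans QuotientGroup.quotientBot
  have hnr : ¬ PRankLE p 2 ↥(E Q) := by
    intro h2
    obtain ⟨A, hA, hAe, hc⟩ := hrk
    have h3 := h2 A hA hAe
    have h4 : p ^ 2 < p ^ 3 := Nat.pow_lt_pow_right hp.one_lt (by omega)
    omega
  have hF := even_card F
  obtain ⟨m, h | h⟩ := classify Q hQ
  · have hf := h.finrank
    obtain ⟨f⟩ := equiv_of_plus (by omega : 3 ≤ m) h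
    rcases Nat.lt_or_ge m 4 with hm | hm
    · have hm3 : m = 3 := by omega
      subst hm3
      obtain ⟨g⟩ := S0302.result (F := F)
      obtain ⟨e1, e2⟩ := hNI.psl F p hF hp hp2 ↥(E Q) ⟨f.trans g⟩ hnr
      refine ⟨hqs, hz, ?_, e1, e2⟩
      right; right; left
      exact ⟨F, inferInstance, inferInstance, 4, by omega, by omega, ⟨eq.trans (f.trans g)⟩⟩
    · obtain ⟨e1, e2⟩ := hNI.plus F m p hF hm (fun hc => h1 ⟨hc.2.1, hc.2.2, Or.inr (hc.1 ▸ h)⟩) hp hp2 ↥(E Q) ⟨f⟩ hnr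
      refine ⟨hqs, hz, ?_, e1, e2⟩
      right; right; right; right; right; right; left
      exact ⟨F, inferInstance, inferInstance, m, hm, ⟨eq.trans f⟩⟩
  · have hf := h.finrank
    obtain ⟨a, b, hab, e, he⟩ := h
    obtain ⟨f⟩ := equiv_of_minus (by omega : 2 ≤ m) hab he
    rcases Nat.lt_or_ge m 3 with hm | hm
    · have hm3 : m = 2 := by omega
      subst hm3
      obtain ⟨K, _, _, hK⟩ := exists_quad F
      obtain ⟨g⟩ := S0303.result (q := Fintype.card F) rfl hK a b hab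
      obtain ⟨e1, e2⟩ := hNI.psu K (Fintype.card F) p hF hK (fun hc => h1 ⟨hc.1, hc.2, Or.inl hf⟩) hp hp2 ↥(E Q)
        ⟨f.trans g⟩ hnr
      refine ⟨hqs, hz, ?_, e1, e2⟩
      right; right; right; right; left
      exact ⟨K, inferInstance, inferInstance, 4, Fintype.card F, hK, by omega, by omega, ⟨eq.trans (f.trans g)⟩⟩
    · obtain ⟨e1, e2⟩ := hNI.minus F (m + 1) a b p hF (by omega) hab hp hp2 ↥(E Q) ⟨f⟩ hnr
      refine ⟨hqs, hz, ?_, e1, e2⟩
      right; right; right; right; right; right; right; left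
      exact ⟨F, inferInstance, inferInstance, m + 1, a, b, by omega, hab, ⟨eq.trans f⟩⟩

variable {G : Type u} [Group G] [Finite G]

/-- the general case -/
theorem exists_gp_gen (hNI : NonIso) (hQ : Nondeg Q) (hd : 8 ≤ Module.finrank F V) (e : G ≃* ↥(E Q)) {p : ℕ}
    (hp : p.Prime) (hp2 : p ≠ 2) (h1 : ¬ (Fintype.card F = 2 ∧ p = 3)) (hr : PRankAtLeast p 4 G) :
    LpoExists p G (InGp p) := by
  obtain ⟨A, _, f, hf, hA, hcard⟩ := exists_hom_of_prankAtLeast hr
  haveI : Finite A := Finite.of_injective f hf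
  have hodd := hp.odd_of_ne_two hp2
  let ρ : A →* (V ≃ₗ[F] V) := (E Q).subtype.comp (e.toMonoidHom.comp f)
  have hρ : Function.Injective ρ := (E Q).subtype_injective.comp (e.injective.comp hf)
  have hE : ∀ a, ρ a ∈ E Q := fun a => (e (f a)).2
  have hO : ∀ a, ρ a ∈ O Q := fun a => E_le_O (hE a)
  obtain ⟨a₀, ha₀, K, σ, hσ, hσO, hσp, hσr⟩ := exists_quot_rep (r := 3) hp hp2 ρ hρ hA hO hcard
  have hx : ρ a₀ ^ p = 1 := by rw [← map_pow, hA, map_one]
  have hop := fixOP (hO a₀) hodd hx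
  have hW := hop.nondeg hQ
  have hdim := two_mul_le_finrank hp hp2 3 hW σ hσ hσp hσO hσr
  have hG := OrthFinite.good_of_finite hW (by omega)
  have hrk : PRankAtLeast p 3 ↥(E (Q.comp (_root_.Cfsg.Agent.GpOm.Ext.Fix (ρ a₀)).subtype)) := by
    refine prankAtLeast_of_hom (σ.codRestrict (E (Q.comp (_root_.Cfsg.Agent.GpOm.Ext.Fix (ρ a₀)).subtype)) fun a =>
      mem_E_of_odd hG (hσO a) hodd (by rw [← map_pow, hσp, map_one])) ?_ hσp hσr
    intro a b hab
    exact hσ (congrArg Subtype.val hab)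
  refine lpoExists_of_op hop hQ hG e hp hp2 (hE a₀) ?_ ?_ hx ρ hρ hA hE ?_ hcard
    (inGp_E hNI hW (by omega) hp hp2 (fun hc => h1 ⟨hc.1, hc.2.1⟩) hrk) hrk
  · intro v
    exact ⟨fun hv => ⟨⟨v, hv⟩, rfl⟩, by rintro ⟨w, rfl⟩; exact w.2⟩
  · intro h
    exact ha₀ (hρ (by rw [h, map_one]))
  · intro a
    rw [← map_mul, mul_comm, map_mul]

/-- the field of two elements and `p = 3` -/
theorem exists_gp_two (hNI : NonIso) (hQ : Nondeg Q) (hd : 10 ≤ Module.finrank F V) (e : G ≃* ↥(E Q))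
    (hF : Fintype.card F = 2) (h1 : ¬ IsMinus Q 4) : LpoExists 3 G (InGp 3) := by
  have hF' : Nat.card F = 2 := by rw [Nat.card_eq_fintype_card, hF]
  obtain ⟨v, w, hv, hw, hvw⟩ := exists_plane hF' hQ (by omega)
  have h := op_plane hv hw hvw
  have hxO := rotV_mem_O h
  have hx3 := rotV_pow h
  have hx1 := rotV_ne_one h
  have hfin := finrank_Fix_rotV hQ h
  have hop := fixOP hxO (n := 3) (by decide) hx3
  have hW := hop.nondeg hQ
  have hG := OrthFinite.good_of_finite hW (by omega)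
  have hGV := OrthFinite.good_of_finite hQ (by omega : 5 ≤ Module.finrank F V)
  obtain ⟨A, _, _, ρ, hρ, hA, hO, hcard⟩ := exists_three hF' 3 hW (by omega)
  obtain ⟨B, _, _, σ, hσ, hB, hBO, hBc, hBr⟩ := prod_rep hQ Nat.prime_three (by norm_num) hxO hx3 hx1 ρ hρ hA hO hcard
  have hrk : PRankAtLeast 3 3 ↥(E (Q.comp (_root_.Cfsg.Agent.GpOm.Ext.Fix (rotV h)).subtype)) := by
    refine prankAtLeast_of_hom (ρ.codRestrict (E (Q.comp (_root_.Cfsg.Agent.GpOm.Ext.Fix (rotV h)).subtype)) fun a =>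
      mem_E_of_odd hG (hO a) (n := 3) (by decide) (by rw [← map_pow, hA, map_one])) ?_ hA hcard
    intro a b hab
    exact hρ (congrArg Subtype.val hab)
  refine lpoExists_of_op hop hQ hG e Nat.prime_three (by norm_num)
    (mem_E_of_odd hGV hxO (n := 3) (by decide) hx3) ?_ hx1 hx3 σ hσ hB
    (fun b => mem_E_of_odd hGV (hBO b) (n := 3) (by decide) (by rw [← map_pow, hB, map_one])) hBc hBr
    (inGp_E hNI hW (by omega) Nat.prime_three (by norm_num) ?_ hrk) hrk
  · intro v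
    exact ⟨fun hv => ⟨⟨v, hv⟩, rfl⟩, by rintro ⟨w, rfl⟩; exact w.2⟩
  · rintro ⟨-, -, h2 | h2⟩
    · omega
    · exact h1 (isMinus_of_fix hQ (aniso_one_one hF') h h2)

end

/-! ### The rows -/

/-- the forms `plusForm 5` and `minusForm 4 a b` over the field of two elements are not isometric -/
theorem not_isMinus_plus {F : Type} [Field F] [Fintype F] [CharP F 2] (hF : Fintype.card F = 2) :
    ¬ IsMinus (OrthForms.plusForm 5 F) 4 := by
  rintro ⟨a, b, hab, e, he⟩
  obtain ⟨f⟩ := equiv_of_minus (by omega : 2 ≤ 4) hab he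
  obtain ⟨g⟩ := equiv_of_plus (Q := OrthForms.plusForm 5 F) (by omega : 3 ≤ 5) ⟨LinearEquiv.refl _ _, fun u => rfl⟩
  have h1 := S0293.result (F := F) hF 5 (by omega)
  have h2 := S0294.result (F := F) hF 5 (by omega) a b hab
  have h3 : Nat.card (POmega F (quadFormPlus 5 F)) = Nat.card (POmega F (quadFormMinus (5 - 1) F a b)) :=
    Nat.card_congr (g.symm.trans f).toEquiv
  rw [h3] at h1
  have h4 : Nat.gcd 4 (2 ^ 5 - 1) = 1 := by decide
  have h5 : Nat.gcd 4 (2 ^ 5 + 1) = 1 := by decide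
  rw [h4, one_mul] at h1
  rw [h5, one_mul, h1] at h2
  simp only [Finset.prod_range_succ, _root_.Nat.add_one_sub_one, _root_.Nat.reduceMul, _root_.Nat.reducePow, _root_.Finset.range_one, _root_.Finset.prod_singleton, _root_.zero_add, _root_.mul_one, _root_.Nat.reduceAdd, _root_.Nat.reduceEqDiff] at h2

theorem not_rank {G : Type u} [Group G] {p : ℕ} (h : LpoExists p G (InGp p)) : ¬ LpoAll p G (InCT p) := by
  intro hall
  obtain ⟨x, hx, hr, K, hK, hP⟩ := h
  rcases hall x hx hr K hK with h1 | h1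
  · exact hP.2.2.2.1 h1
  · exact hP.2.2.2.2 h1

theorem rank_of_sub {G : Type u} [Group G] {p k : ℕ} {H : Subgroup G} (h : PRankAtLeast p k ↥H) : PRankAtLeast p k G := by
  obtain ⟨A, _, f, hf, hA, hc⟩ := exists_hom_of_prankAtLeast h
  exact prankAtLeast_of_hom (H.subtype.comp f) (H.subtype_injective.comp hf) hA hc

theorem charP_two {F : Type} [Field F] [Fintype F] (h : Even (Fintype.card F)) : CharP F 2 := by
  have h1 : ringChar F = 2 := FiniteField.even_card_iff_char_two.2 (Nat.even_iff.1 h)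
  rw [← h1]
  exact ringChar.charP F

theorem gpPlus (hNI : NonIso) {F : Type} [Field F] [Fintype F] {m : ℕ} (hF : Even (Fintype.card F)) (hm : 4 ≤ m)
    (hm2 : Fintype.card F = 2 → 5 ≤ m) {G : Type u} [Group G] [Finite G] (e : G ≃* POmega F (quadFormPlus m F))
    {p : ℕ} (hp : p.Prime) (hp2 : p ≠ 2) (hr : PRankAtLeast p 4 G) : LpoExists p G (InGp p) := by
  haveI := charP_two hF
  obtain ⟨f⟩ := equiv_of_plus (Q := OrthForms.plusForm m F) (by omega : 3 ≤ m) ⟨LinearEquiv.refl _ _, fun u => rfl⟩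
  have hQ := OrthForms.nondeg_plusForm m F
  have hfin : Module.finrank F (Fin m ⊕ Fin m → F) = 2 * m := by
    rw [Module.finrank_fintype_fun_eq_card, Fintype.card_sum, Fintype.card_fin]
    ring
  by_cases h2 : Fintype.card F = 2 ∧ p = 3
  · obtain ⟨h2, rfl⟩ := h2
    have hm5 := hm2 h2
    refine exists_gp_two hNI hQ (by omega) (e.trans f.symm) h2 fun hmin => ?_
    have h3 := hmin.finrank
    have h4 : m = 5 := by omega
    subst h4
    exact not_isMinus_plus h2 hmin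
  · exact exists_gp_gen hNI hQ (by omega) (e.trans f.symm) hp hp2 h2 hr

theorem gpMinus (hNI : NonIso) {F : Type} [Field F] [Fintype F] {m : ℕ} {a b : F} (hF : Even (Fintype.card F))
    (hab : Aniso a b) (hm : 4 ≤ m) (hm2 : Fintype.card F = 2 → 6 ≤ m) {G : Type u} [Group G] [Finite G]
    (e : G ≃* POmega F (quadFormMinus (m - 1) F a b))
    {p : ℕ} (hp : p.Prime) (hp2 : p ≠ 2) (hr : PRankAtLeast p 4 G) : LpoExists p G (InGp p) := by
  haveI := charP_two hF
  obtain ⟨f⟩ := equiv_of_minus (Q := OrthForms.minusForm (m - 1) F a b) (by omega : 2 ≤ m - 1) hab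
    (e := LinearEquiv.refl _ _) (fun u => rfl)
  have hQ := OrthForms.nondeg_minusForm (m - 1) F a b hab
  have hfin : Module.finrank F ((Fin (m - 1) ⊕ Fin (m - 1)) ⊕ Fin 2 → F) = 2 * m := by
    rw [Module.finrank_fintype_fun_eq_card, Fintype.card_sum, Fintype.card_sum, Fintype.card_fin, Fintype.card_fin]
    omega
  by_cases h2 : Fintype.card F = 2 ∧ p = 3
  · obtain ⟨h2, rfl⟩ := h2
    have hm5 := hm2 h2
    refine exists_gp_two hNI hQ (by omega) (e.trans f.symm) h2 fun hmin => ?_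
    have h3 := hmin.finrank
    omega
  · exact exists_gp_gen hNI hQ (by omega) (e.trans f.symm) hp hp2 h2 hr

/-- **The row `omegaPlus` of `NotCTRows`**, from the facts about isomorphism types. -/
theorem rowPlus (hNI : NonIso) :
    SigTab.NotCT.{u} (fun X _ => SigTab.OmegaPlusEven (fun m q => 4 ≤ m ∧ (q = 2 → 5 ≤ m)) X) := by
  rintro G _ _ ⟨F, _, _, m, hF, ⟨hm, hm2⟩, ⟨e⟩⟩ p ⟨hp, hp2, S, M, -, hM⟩
  exact not_rank (gpPlus hNI hF hm hm2 e hp hp2 (rank_of_sub hM))

/-- **The row `omegaMinus` of `NotCTRows`**, from the facts about isomorphism types. -/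
theorem rowMinus (hNI : NonIso) :
    SigTab.NotCT.{u} (fun X _ => SigTab.OmegaMinusEven (fun m q => 5 ≤ m ∧ (q = 2 → 6 ≤ m)) X) := by
  rintro G _ _ ⟨F, _, _, m, a, b, hF, ⟨hm, hm2⟩, hab, ⟨e⟩⟩ p ⟨hp, hp2, S, M, -, hM⟩
  exact not_rank (gpMinus hNI hF hab (by omega) hm2 e hp hp2 (rank_of_sub hM))

end Cfsg.Agent.GpOm.Row

end

-- merged: Cfsg.Agent.GpOm.Final
section

/-!
# The rows `omegaPlus`, `omegaMinus` of `NotCTRows` (helper74)

`nonIso` : the isomorphism facts of `GpOm.Row.NonIso`, from `NotCT.Fam` (helper77); `omegaPlus`, `omegaMinus`;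
`gp_plus`, `gp_minus` : the `p`-components in the generic class.
-/

set_option autoImplicit false

namespace Cfsg.Agent.GpOm.Final

open Cfsg Cfsg.Agent.SigTab Cfsg.Agent.GpOm.Row

universe u

theorem nonIso : NonIso where
  psl F _ _ p hF hp hp2 K _ _ e hr := NotCT.om_psl F p hF hp hp2 K e hr
  psu F _ _ q p hq hF h3 hp hp2 K _ _ e hr := NotCT.om_psu F q p hq hF h3 hp hp2 K e hr
  plus F _ _ m p hF hm h3 hp hp2 K _ _ e hr := NotCT.om_plus F m p hF hm h3 hp hp2 K e hr
  minus F _ _ m a b p hF hm hab hp hp2 K _ _ e hr := NotCT.om_minus F m a b p hF hm hab hp hp2 K e hr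

/-- **`NotCTRows.omegaPlus`** -/
theorem omegaPlus : SigTab.NotCT.{u} (fun X _ => OmegaPlusEven (fun m q => 4 ≤ m ∧ (q = 2 → 5 ≤ m)) X) :=
  rowPlus nonIso

/-- **`NotCTRows.omegaMinus`** -/
theorem omegaMinus : SigTab.NotCT.{u} (fun X _ => OmegaMinusEven (fun m q => 5 ≤ m ∧ (q = 2 → 6 ≤ m)) X) :=
  rowMinus nonIso

end Cfsg.Agent.GpOm.Final

end

-- merged: Cfsg.Agent.SigTab.TabNot
section

/-!
# The classical rows of `NotCTRows` (helper4: assembly)
-/

set_option autoImplicit false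

namespace Cfsg.Agent.SigTab.TabNot

open Cfsg Subgroup

universe u

theorem psu : NotCT.{u} (fun X _ => PsuEven (fun n q => 6 ≤ n ∧ (q = 2 → 8 ≤ n)) X) :=
  GpUn.Row.row fun F _ _ q m p hF hq hm h3 hp hp2 X _ _ hr e => NotCT.un_nonIso F q m p hF hq hm h3 hp hp2 X hr e

theorem psp : NotCT.{u} (fun X _ => PspEven (fun m q => 4 ≤ m ∧ (q = 2 → 5 ≤ m)) X) :=
  GpSp.Row.row fun F _ _ m p hF hm h2 hp hp2 K _ _ e hr => NotCT.sp_nonIso F m p hF hm h2 hp hp2 K e hr

/-- `NotCTRows` from its exceptional rows -/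
theorem notCTRows (f4 : NotCT.{u} (fun X _ => FFourEven (fun q => 2 < q) X)) (e6 : NotCT.{u} (fun X _ => ESixEven X))
    (e7 : NotCT.{u} (fun X _ => ESevenEven X)) (e8 : NotCT.{u} (fun X _ => EEightEven X))
    (twE6 : NotCT.{u} (fun X _ => TwESixEven (fun q => 2 < q) X)) : NotCTRows.{u} where
  psl := GpLn.Psl.psl
  psu := psu
  psp := psp
  omegaPlus := GpOm.Final.omegaPlus
  omegaMinus := GpOm.Final.omegaMinus
  f4 := f4
  e6 := e6
  e7 := e7
  e8 := e8
  twE6 := twE6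

end Cfsg.Agent.SigTab.TabNot

end

-- merged: Cfsg.Agent.SigZero.Herm
section

/-!
# Tools for hermitian forms

* `Form.two_mul_finrank_le` : isotropic subspaces of nondegenerate subspaces, semilinear case;
* `exists_line` : a `p`-group fixes a line of an invariant subspace whose number of points is prime to `p`;
* `lift` : lifting elementary abelian `q`-groups through a central extension whose kernel has exponent 3.
-/

set_option autoImplicit false

namespace Cfsg.Agent.SigZero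

open Module

section Dim

variable {k V : Type*} [Field k] [AddCommGroup V] [Module k V]

theorem Form.two_mul_finrank_le [FiniteDimensional k V] (B : Form k V) {σ : k → k} (hσ : Function.Surjective σ)
    (hσ0 : σ 0 = 0) (hadd : ∀ u v w, B.h u (v + w) = B.h u v + B.h u w)
    (hsmul : ∀ (c : k) u v, B.h u (c • v) = σ c * B.h u v) {E U : Submodule k V}
    (hE : ∀ w ∈ E, (∀ w' ∈ E, B.h w' w = 0) → w = 0) (hUE : U ≤ E) (hU : ∀ u ∈ U, ∀ v ∈ U, B.h u v = 0) :
    2 * finrank k U ≤ finrank k E := by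
  classical
  let b := Module.finBasis k U
  let φ : E →ₗ[k] (Fin (finrank k U) → k) :=
    { toFun := fun e i => B.h e (b i)
      map_add' := fun x y => by
        funext i
        exact B.add_left _ _ _
      map_smul' := fun c x => by
        funext i
        exact B.smul_left _ _ _ }
  have hsum : ∀ (s : Finset (Fin (finrank k U))) (c : Fin (finrank k U) → k) (e : V),
      B.h e (∑ i ∈ s, c i • (b i : V)) = ∑ i ∈ s, σ (c i) * B.h e (b i) := by
    intro s c e
    induction s using Finset.induction_on with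
    | empty => simp only [B.zero_right, _root_.Finset.sum_empty]
    | insert a s ha ih => rw [Finset.sum_insert ha, Finset.sum_insert ha, hadd, ih, hsmul]
  have hsurj : LinearMap.range φ = ⊤ := by
    by_contra hne
    obtain ⟨f, hf0, hf⟩ := Submodule.exists_le_ker_of_lt_top _ (lt_top_iff_ne_top.2 hne)
    choose c hc using fun i => hσ (f (Pi.single i 1))
    have hfx : ∀ x : Fin (finrank k U) → k, f x = ∑ i, x i * f (Pi.single i 1) := by
      intro x
      conv_lhs => rw [← Finset.univ_sum_single x]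
      rw [map_sum]
      refine Finset.sum_congr rfl fun i _ => ?_
      have h1 : (Pi.single i (x i) : Fin (finrank k U) → k) = x i • Pi.single i 1 := by
        rw [← Pi.single_smul, smul_eq_mul, mul_one]
      rw [h1, map_smul, smul_eq_mul]
    let w : V := ∑ i, c i • (b i : V)
    have hwU : w ∈ U := U.sum_mem fun i _ => U.smul_mem _ (b i).2
    have hw : w = 0 := by
      refine hE w (hUE hwU) fun e he => ?_
      have h1 : f (φ ⟨e, he⟩) = 0 := hf ⟨⟨e, he⟩, rfl⟩
      rw [hfx] at h1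
      rw [hsum]
      rw [← h1]
      refine Finset.sum_congr rfl fun i _ => ?_
      rw [hc i, mul_comm]
      rfl
    have hw' : ∑ i, c i • b i = 0 := by
      apply Subtype.ext
      rw [Submodule.coe_sum]
      exact hw
    have hc0 : ∀ i, c i = 0 := Fintype.linearIndependent_iff.1 b.linearIndependent c hw'
    apply hf0
    refine LinearMap.ext fun x => ?_
    rw [hfx, LinearMap.zero_apply]
    refine Finset.sum_eq_zero fun i _ => ?_
    rw [← hc i, hc0 i, hσ0, mul_zero]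
  have h1 := LinearMap.finrank_range_add_finrank_ker φ
  rw [hsurj, finrank_top, Module.finrank_fintype_fun_eq_card, Fintype.card_fin] at h1
  have h2 : finrank k U ≤ finrank k (LinearMap.ker φ) := by
    have h3 : finrank k (U.comap E.subtype) = finrank k U := (Submodule.comapSubtypeEquivOfLe hUE).finrank_eq
    have h4 : U.comap E.subtype ≤ LinearMap.ker φ := by
      intro u hu
      rw [LinearMap.mem_ker]
      funext i
      exact hU _ hu _ (b i).2
    exact h3.symm.le.trans (Submodule.finrank_mono h4)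
  omega

/-- A `p`-group fixes a line of an invariant subspace with a number of points prime to `p`. -/
theorem exists_line [Finite k] [Finite V] {p : ℕ} [Fact p.Prime] {E : Subgroup (V ≃ₗ[k] V)} (hE : IsPGroup p ↥E)
    {U : Submodule k V} (hinv : ∀ g ∈ E, ∀ u ∈ U, g u ∈ U)
    (hcard : ¬ p ∣ ∑ i ∈ Finset.range (finrank k U), Nat.card k ^ i) :
    ∃ u ∈ U, u ≠ 0 ∧ ∀ g ∈ E, ∃ c : k, g u = c • u := by
  let _inst : DistribMulAction E U :=
    { smul := fun g u => ⟨(g : V ≃ₗ[k] V) u, hinv g g.2 u u.2⟩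
      one_smul := fun u => rfl
      mul_smul := fun g h u => rfl
      smul_zero := fun g => Subtype.ext (map_zero (g : V ≃ₗ[k] V))
      smul_add := fun g u v => Subtype.ext (map_add (g : V ≃ₗ[k] V) _ _) }
  have : SMulCommClass E k U := ⟨fun g c u => Subtype.ext (map_smul (g : V ≃ₗ[k] V) c _)⟩
  have h1 : Nat.card (Projectivization k U) = _ := Projectivization.card_of_finrank k U rfl
  obtain ⟨x, hx⟩ := hE.nonempty_fixed_point_of_prime_not_dvd_card (α := Projectivization k U) (by rwa [h1])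
  refine ⟨x.rep, x.rep.2, fun h => x.rep_nonzero (Subtype.ext h), fun g hg => ?_⟩
  have h2 := hx ⟨g, hg⟩
  conv_lhs at h2 => rw [← x.mk_rep]
  rw [Projectivization.smul_mk, ← x.mk_rep, Projectivization.mk_eq_mk_iff'] at h2
  obtain ⟨c, hc⟩ := h2
  refine ⟨c, ?_⟩
  have h3 := congrArg Subtype.val hc
  rw [x.mk_rep] at h3
  exact h3.symm

end Dim

section Lift

variable {H G : Type*} [Group H] [Group G]

theorem eq_one_of_pow_three {c : H} {q : ℕ} (hq : q.Prime) (hq3 : q ≠ 3) (h3 : c ^ 3 = 1) (hc : c ^ q = 1) :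
    c = 1 := by
  have hcop : Nat.Coprime 3 q := (Nat.coprime_primes Nat.prime_three hq).2 (Ne.symm hq3)
  have h1 := orderOf_dvd_of_pow_eq_one h3
  have h2 := orderOf_dvd_of_pow_eq_one hc
  exact orderOf_eq_one_iff.1 (Nat.eq_one_of_dvd_coprimes hcop h1 h2)

/-- Elements `x`, `y` commuting modulo a central subgroup of exponent 3 commute if `x ^ q = 1`, `q ≠ 3` prime. -/
theorem comm_of_ker {π : H →* G} (hcen : ∀ z, π z = 1 → ∀ x, z * x = x * z) (h3 : ∀ z, π z = 1 → z ^ 3 = 1)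
    {q : ℕ} (hq : q.Prime) (hq3 : q ≠ 3) {x y : H} (hxy : π x * π y = π y * π x) (hx : x ^ q = 1) :
    x * y = y * x := by
  have hk : π (x * y * x⁻¹ * y⁻¹) = 1 := by
    rw [map_mul, map_mul, map_mul, map_inv, map_inv, hxy]
    group
  have hc := hcen _ hk
  have h1 : ∀ n : ℕ, x ^ n * y * (x ^ n)⁻¹ = (x * y * x⁻¹ * y⁻¹) ^ n * y := by
    intro n
    induction n with
    | zero => simp only [_root_.pow_zero, _root_.one_mul, _root_.inv_one, _root_.mul_one]
    | succ n ih =>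
      calc x ^ (n + 1) * y * (x ^ (n + 1))⁻¹ = x * (x ^ n * y * (x ^ n)⁻¹) * x⁻¹ := by rw [pow_succ']; group
        _ = x * ((x * y * x⁻¹ * y⁻¹) ^ n * y) * x⁻¹ := by rw [ih]
        _ = (x * y * x⁻¹ * y⁻¹) ^ n * (x * y * x⁻¹ * y⁻¹) * y := by
          have h2 : Commute (x * y * x⁻¹ * y⁻¹) x := hc x
          have h4 : x * (x * y * x⁻¹ * y⁻¹) ^ n = (x * y * x⁻¹ * y⁻¹) ^ n * x := (h2.pow_left n).eq.symm
          rw [← mul_assoc x, h4]
          group
        _ = (x * y * x⁻¹ * y⁻¹) ^ (n + 1) * y := by rw [pow_succ]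
  have h4 := h1 q
  rw [hx] at h4
  have h5 : (x * y * x⁻¹ * y⁻¹) ^ q = 1 := by
    have h6 : (1 : H) * y * 1⁻¹ = y := by group
    rw [h6] at h4
    exact right_eq_mul.1 h4
  have h6 := eq_one_of_pow_three hq hq3 (h3 _ hk) h5
  have h7 : x * y * x⁻¹ = y := mul_inv_eq_one.1 h6
  exact mul_inv_eq_iff_eq_mul.1 h7

/-- The elements of exponent `q` over an elementary abelian `q`-group. -/
def lift (π : H →* G) (hcen : ∀ z, π z = 1 → ∀ x, z * x = x * z) (h3 : ∀ z, π z = 1 → z ^ 3 = 1)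
    {q : ℕ} (hq : q.Prime) (hq3 : q ≠ 3) (X : Subgroup G) (hX : ∀ a ∈ X, ∀ b ∈ X, a * b = b * a) : Subgroup H where
  carrier := {x | π x ∈ X ∧ x ^ q = 1}
  mul_mem' {x y} hx hy := ⟨by rw [map_mul]; exact X.mul_mem hx.1 hy.1, by
    have h1 : Commute x y := comm_of_ker hcen h3 hq hq3 (hX _ hx.1 _ hy.1) hx.2
    rw [h1.mul_pow, hx.2, hy.2, one_mul]⟩
  one_mem' := ⟨by rw [map_one]; exact X.one_mem, one_pow q⟩
  inv_mem' {x} hx := ⟨by rw [map_inv]; exact X.inv_mem hx.1, by rw [inv_pow, hx.2, inv_one]⟩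

variable {π : H →* G} (hcen : ∀ z, π z = 1 → ∀ x, z * x = x * z) (h3 : ∀ z, π z = 1 → z ^ 3 = 1)
  {q : ℕ} (hq : q.Prime) (hq3 : q ≠ 3) {X : Subgroup G} (hX : ∀ a ∈ X, ∀ b ∈ X, a * b = b * a)

theorem lift_comm {x y : H} (hx : x ∈ lift π hcen h3 hq hq3 X hX) (hy : y ∈ lift π hcen h3 hq hq3 X hX) :
    x * y = y * x := comm_of_ker hcen h3 hq hq3 (hX _ hx.1 _ hy.1) hx.2

theorem exists_lift (hπ : Function.Surjective π) (hXq : ∀ a ∈ X, a ^ q = 1) {a : G} (ha : a ∈ X) :
    ∃ x ∈ lift π hcen h3 hq hq3 X hX, π x = a := by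
  obtain ⟨x, rfl⟩ := hπ a
  have hcop : Nat.Coprime 3 q := (Nat.coprime_primes Nat.prime_three hq).2 (Ne.symm hq3)
  obtain ⟨m, -, hm⟩ := Nat.exists_mul_mod_eq_one_of_coprime hcop hq.one_lt
  have h1 : π (x ^ (3 * m)) = π x := by
    rw [map_pow, ← Nat.div_add_mod (3 * m) q, hm, pow_add, pow_mul, hXq _ ha, one_pow, one_mul, pow_one]
  have h2 : π (x ^ q) = 1 := by rw [map_pow, hXq _ ha]
  refine ⟨x ^ (3 * m), ⟨?_, ?_⟩, h1⟩
  · rw [h1]
    exact ha
  · have h4 : (x ^ (3 * m)) ^ q = ((x ^ q) ^ 3) ^ m := by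
      rw [← pow_mul, ← pow_mul, ← pow_mul]
      congr 1
      ring
    rw [h4, h3 _ h2, one_pow]

end Lift

end Cfsg.Agent.SigZero

end

-- merged: Cfsg.Agent.SigZero.USixAux
section

/-!
# A semi-scalar commuting with a group of linear transformations

`exists_semiscalar` : if `A` is a finite group of odd order of linear transformations of `V` in characteristic 2 and
`ω ^ 3 = 1`, the map which is 1 on `C_V(A)` and `ω` on `[V, A]` commutes with `A`, has order dividing 3, and has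
determinant `ω ^ dim [V, A]`.
-/

set_option autoImplicit false

namespace Cfsg.Agent.SigZero

open Module

variable {k V : Type*} [Field k] [AddCommGroup V] [Module k V]

/-- The averaging map (for groups of order one modulo the characteristic). -/
noncomputable def avg (A : Subgroup (V ≃ₗ[k] V)) [Fintype A] : V →ₗ[k] V :=
  ∑ a : A, ((a : V ≃ₗ[k] V) : V →ₗ[k] V)

theorem avg_apply (A : Subgroup (V ≃ₗ[k] V)) [Fintype A] (v : V) : avg A v = ∑ a : A, (a : V ≃ₗ[k] V) v := by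
  rw [avg, LinearMap.sum_apply]
  rfl

theorem apply_avg (A : Subgroup (V ≃ₗ[k] V)) [Fintype A] {b : V ≃ₗ[k] V} (hb : b ∈ A) (v : V) :
    b (avg A v) = avg A v := by
  rw [avg_apply, map_sum]
  have h1 : ∀ a : A, b ((a : V ≃ₗ[k] V) v) = ((⟨b, hb⟩ * a : A) : V ≃ₗ[k] V) v := fun a => rfl
  simp only [h1]
  exact Equiv.sum_comp (Equiv.mulLeft (⟨b, hb⟩ : A)) (fun a : A => (a : V ≃ₗ[k] V) v)

theorem avg_comm (A : Subgroup (V ≃ₗ[k] V)) [Fintype A] {b : V ≃ₗ[k] V} (hb : b ∈ A) (v : V) :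
    avg A (b v) = avg A v := by
  rw [avg_apply, avg_apply]
  have h1 : ∀ a : A, (a : V ≃ₗ[k] V) (b v) = ((a * ⟨b, hb⟩ : A) : V ≃ₗ[k] V) v := fun a => rfl
  simp only [h1]
  exact Equiv.sum_comp (Equiv.mulRight (⟨b, hb⟩ : A)) (fun a : A => (a : V ≃ₗ[k] V) v)

theorem avg_of_fixed (A : Subgroup (V ≃ₗ[k] V)) [Fintype A] (h1 : ((Fintype.card A : ℕ) : k) = 1) {v : V}
    (hv : v ∈ fix A) : avg A v = v := by
  rw [avg_apply]
  have h2 : ∀ a : A, (a : V ≃ₗ[k] V) v = v := fun a => hv a a.2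
  simp only [h2]
  rw [Finset.sum_const, Finset.card_univ, ← Nat.cast_smul_eq_nsmul k, h1, one_smul]

theorem avg_mem (A : Subgroup (V ≃ₗ[k] V)) [Fintype A] (v : V) : avg A v ∈ fix A := fun _ hb => apply_avg A hb v

theorem isCompl_avg (A : Subgroup (V ≃ₗ[k] V)) [Fintype A] (h1 : ((Fintype.card A : ℕ) : k) = 1) :
    IsCompl (fix A) (LinearMap.ker (avg A)) := by
  constructor
  · rw [Submodule.disjoint_def]
    intro v hv hv'
    rw [← avg_of_fixed A h1 hv]
    exact hv'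
  · rw [codisjoint_iff, eq_top_iff]
    intro v _
    rw [Submodule.mem_sup]
    refine ⟨avg A v, avg_mem A v, v - avg A v, ?_, by abel⟩
    rw [LinearMap.mem_ker, map_sub, avg_of_fixed A h1 (avg_mem A v), sub_self]

/-- The map `1` on `C_V(A)`, `c` on `[V, A]`. -/
noncomputable def semi (A : Subgroup (V ≃ₗ[k] V)) [Fintype A] (c : k) : V →ₗ[k] V :=
  avg A + c • (LinearMap.id - avg A)

theorem semi_apply (A : Subgroup (V ≃ₗ[k] V)) [Fintype A] (c : k) (v : V) :
    semi A c v = avg A v + c • (v - avg A v) := rfl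

theorem avg_semi (A : Subgroup (V ≃ₗ[k] V)) [Fintype A] (h1 : ((Fintype.card A : ℕ) : k) = 1) (c : k) (v : V) :
    avg A (semi A c v) = avg A v := by
  rw [semi_apply, map_add, map_smul, map_sub, avg_of_fixed A h1 (avg_mem A v), sub_self, smul_zero, add_zero]

theorem semi_semi (A : Subgroup (V ≃ₗ[k] V)) [Fintype A] (h1 : ((Fintype.card A : ℕ) : k) = 1) (c d : k) (v : V) :
    semi A c (semi A d v) = semi A (c * d) v := by
  rw [semi_apply, avg_semi A h1, semi_apply, semi_apply, add_sub_cancel_left, smul_smul]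

theorem semi_one (A : Subgroup (V ≃ₗ[k] V)) [Fintype A] (v : V) : semi A 1 v = v := by
  rw [semi_apply, one_smul]
  abel

/-- The semi-scalar as a linear equivalence. -/
noncomputable def semiEquiv (A : Subgroup (V ≃ₗ[k] V)) [Fintype A] (h1 : ((Fintype.card A : ℕ) : k) = 1) {c : k}
    (hc : c ≠ 0) : V ≃ₗ[k] V :=
  { semi A c with
    invFun := semi A c⁻¹
    left_inv := fun v => by
      change semi A c⁻¹ (semi A c v) = v
      rw [semi_semi A h1, inv_mul_cancel₀ hc, semi_one]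
    right_inv := fun v => by
      change semi A c (semi A c⁻¹ v) = v
      rw [semi_semi A h1, mul_inv_cancel₀ hc, semi_one] }

theorem semiEquiv_apply (A : Subgroup (V ≃ₗ[k] V)) [Fintype A] (h1 : ((Fintype.card A : ℕ) : k) = 1) {c : k}
    (hc : c ≠ 0) (v : V) : semiEquiv A h1 hc v = semi A c v := rfl

theorem semiEquiv_pow_apply (A : Subgroup (V ≃ₗ[k] V)) [Fintype A] (h1 : ((Fintype.card A : ℕ) : k) = 1) {c : k}
    (hc : c ≠ 0) (n : ℕ) (v : V) : (semiEquiv A h1 hc ^ n) v = semi A (c ^ n) v := by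
  induction n generalizing v with
  | zero => rw [pow_zero, pow_zero, semi_one]; rfl
  | succ n ih => rw [pow_succ, LinearEquiv.mul_apply, ih, semiEquiv_apply, semi_semi A h1, ← pow_succ]

theorem semiEquiv_comm (A : Subgroup (V ≃ₗ[k] V)) [Fintype A] (h1 : ((Fintype.card A : ℕ) : k) = 1) {c : k}
    (hc : c ≠ 0) {a : V ≃ₗ[k] V} (ha : a ∈ A) : a * semiEquiv A h1 hc = semiEquiv A h1 hc * a := by
  apply LinearEquiv.ext
  intro v
  change a (semi A c v) = semi A c (a v)
  rw [semi_apply, semi_apply, map_add, map_smul, map_sub, apply_avg A ha, avg_comm A ha]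

/-- The determinant of the semi-scalar. -/
theorem det_semi [FiniteDimensional k V] (A : Subgroup (V ≃ₗ[k] V)) [Fintype A]
    (h1 : ((Fintype.card A : ℕ) : k) = 1) (c : k) :
    LinearMap.det (semi A c) = c ^ finrank k (LinearMap.ker (avg A)) := by
  let e := Submodule.prodEquivOfIsCompl _ _ (isCompl_avg A h1)
  let g : (fix A × LinearMap.ker (avg A)) →ₗ[k] (fix A × LinearMap.ker (avg A)) :=
    LinearMap.prodMap LinearMap.id (c • LinearMap.id)
  have h2 : semi A c = (e : (fix A × LinearMap.ker (avg A)) →ₗ[k] V) ∘ₗ g ∘ₗ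
      (e.symm : V →ₗ[k] (fix A × LinearMap.ker (avg A))) := by
    refine LinearMap.ext fun v => ?_
    obtain ⟨⟨x, y⟩, rfl⟩ := e.surjective v
    change semi A c (e (x, y)) = e (g (e.symm (e (x, y))))
    rw [e.symm_apply_apply]
    change semi A c ((x : V) + (y : V)) = (x : V) + ((c • y : LinearMap.ker (avg A)) : V)
    rw [semi_apply, map_add, avg_of_fixed A h1 x.2, LinearMap.mem_ker.1 y.2, add_zero, add_sub_cancel_left]
    rfl
  rw [h2, LinearMap.det_conj, LinearMap.det_prodMap, LinearMap.det_id, one_mul, LinearMap.det_smul, LinearMap.det_id,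
    mul_one]

end Cfsg.Agent.SigZero

end

-- merged: Cfsg.Agent.SigZero.USixMain
section

/-!
# Quotients of six-dimensional unitary groups over the field with four elements

`USixMain.main` : let `H` be a group with a faithful 6-dimensional representation of determinant one by isometries of
a hermitian form over the field with 4 elements, containing the scalars, and `π : H → G` the quotient by the scalars.
Then every 2-local subgroup of `G` has `p`-rank at most 3 for all odd primes `p`.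
-/

set_option autoImplicit false

namespace Cfsg.Agent.SigZero.USixMain

open Module Cfsg Cfsg.Agent.SigZero

variable {k V H G : Type*} [Field k] [AddCommGroup V] [Module k V] [Group H] [Group G]

/-- The hypotheses. -/
structure Dat (B : Form k V) (π : H →* G) (ρ : H →* (V ≃ₗ[k] V)) : Prop where
  card : Nat.card k = 4
  finrank : finrank k V = 6
  fin : Finite V
  add_right : ∀ u v w, B.h u (v + w) = B.h u v + B.h u w
  smul_right : ∀ (c : k) u v, B.h u (c • v) = c ^ 2 * B.h u v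
  surj : Function.Surjective π
  inj : Function.Injective ρ
  iso : ∀ x u v, B.h (ρ x u) (ρ x v) = B.h u v
  det : ∀ x, LinearMap.det ((ρ x : V ≃ₗ[k] V) : V →ₗ[k] V) = 1
  scal : ∀ c : k, c ≠ 0 → ∃ x, ∀ v, ρ x v = c • v
  ker : ∀ x, π x = 1 ↔ ∃ c : k, ∀ v, ρ x v = c • v

namespace Dat

variable {B : Form k V} {π : H →* G} {ρ : H →* (V ≃ₗ[k] V)} (D : Dat B π ρ)

include D

theorem finite_k : Finite k := Nat.finite_of_card_ne_zero (by rw [D.card]; norm_num)

theorem pow_three {c : k} (hc : c ≠ 0) : c ^ 3 = 1 := by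
  have := D.finite_k
  have := Fintype.ofFinite k
  have h1 := FiniteField.pow_card_sub_one_eq_one c hc
  rwa [← Nat.card_eq_fintype_card, D.card] at h1

theorem charP : CharP k 2 := by
  have := D.finite_k
  have := Fintype.ofFinite k
  obtain ⟨p, hp⟩ := CharP.exists k
  have hpp : p.Prime := CharP.char_is_prime k p
  have : Fact p.Prime := ⟨hpp⟩
  obtain ⟨n, -, hn⟩ := FiniteField.card k p
  rw [← Nat.card_eq_fintype_card, D.card] at hn
  have h1 : p ∣ 2 ^ 2 := by
    rw [show (2 : ℕ) ^ 2 = 4 by norm_num, hn]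
    exact dvd_pow_self p n.ne_zero
  have h2 : p = 2 := (Nat.prime_dvd_prime_iff_eq hpp Nat.prime_two).1 (hpp.dvd_of_dvd_pow h1)
  rwa [h2] at hp

theorem nontriv : ∃ v : V, v ≠ 0 := by
  have h1 : 0 < Module.finrank k V := by rw [D.finrank]; norm_num
  have := D.fin
  have := Module.nontrivial_of_finrank_pos h1
  exact exists_ne 0

theorem ker_central (z : H) (hz : π z = 1) (x : H) : z * x = x * z := by
  obtain ⟨c, hc⟩ := (D.ker z).1 hz
  apply D.inj
  apply LinearEquiv.ext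
  intro v
  rw [map_mul, map_mul, LinearEquiv.mul_apply, LinearEquiv.mul_apply, hc, hc, map_smul]

theorem ker_pow (z : H) (hz : π z = 1) : z ^ 3 = 1 := by
  obtain ⟨c, hc⟩ := (D.ker z).1 hz
  obtain ⟨w, hw⟩ := D.nontriv
  have hc0 : c ≠ 0 := by
    rintro rfl
    apply hw
    have h1 := hc w
    rw [zero_smul] at h1
    exact (ρ z).map_eq_zero_iff.1 h1
  have hn : ∀ (n : ℕ) (v : V), ρ (z ^ n) v = c ^ n • v := by
    intro n
    induction n with
    | zero => intro v; simp only [_root_.pow_zero, _root_.map_one, _root_.LinearEquiv.coe_one, _root_.id_eq, _root_.one_smul]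
    | succ n ih => intro v; rw [pow_succ, map_mul, LinearEquiv.mul_apply, hc, ih, smul_smul, pow_succ]
  apply D.inj
  apply LinearEquiv.ext
  intro v
  rw [hn, D.pow_three hc0, one_smul, map_one]
  rfl

theorem finite_end : Finite (V ≃ₗ[k] V) := by
  have := D.fin
  exact Finite.of_injective (fun e : V ≃ₗ[k] V => (e : V → V)) DFunLike.coe_injective

theorem finite_H : Finite H := by
  have := D.finite_end
  exact Finite.of_injective ρ D.inj

theorem finite_G : Finite G := by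
  have := D.finite_H
  exact Finite.of_surjective π D.surj

theorem finrank_le {E U : Submodule k V} (hE : ∀ w ∈ E, (∀ w' ∈ E, B.h w' w = 0) → w = 0) (hUE : U ≤ E)
    (hU : ∀ u ∈ U, ∀ v ∈ U, B.h u v = 0) : 2 * Module.finrank k U ≤ Module.finrank k E := by
  have := D.fin
  have := D.finite_k
  have hfd : FiniteDimensional k V := Module.Finite.of_finite
  refine B.two_mul_finrank_le (σ := fun c => c ^ 2) ?_ (by simp) D.add_right D.smul_right hE hUE hU
  intro c
  by_cases hc : c = 0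
  · exact ⟨0, by rw [hc]; simp⟩
  · refine ⟨c ^ 2, ?_⟩
    change (c ^ 2) ^ 2 = c
    have h1 := D.pow_three hc
    calc (c ^ 2) ^ 2 = c ^ 3 * c := by ring
      _ = c := by rw [h1, one_mul]

/-- The case `p ≥ 5`. -/
theorem rank_of_ne_three {p : ℕ} (hp : p.Prime) (hp2 : p ≠ 2) (hp3 : p ≠ 3) {A : Subgroup G}
    (hA : ∀ a ∈ A, ∀ b ∈ A, a * b = b * a) (hAp : ∀ a ∈ A, a ^ p = 1) : Nat.card A ≤ p ^ 3 := by
  have := D.fin
  have := D.finite_k
  have := D.charP
  have := D.finite_H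
  have := D.finite_end
  have hfd : FiniteDimensional k V := Module.Finite.of_finite
  have hpk : (p : k) ≠ 0 := by
    rw [Ne, CharP.cast_eq_zero_iff k 2]
    intro h
    exact hp2 ((Nat.prime_dvd_prime_iff_eq Nat.prime_two hp).1 h).symm
  let L := lift π D.ker_central D.ker_pow hp hp3 A hA
  have hc : Nat.card A ≤ Nat.card L := by
    have hsurj : Function.Surjective (fun x : L => (⟨π x, x.2.1⟩ : A)) := by
      rintro ⟨a, ha⟩
      obtain ⟨x, hx, hxa⟩ := exists_lift D.ker_central D.ker_pow hp hp3 hA D.surj hAp ha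
      exact ⟨⟨x, hx⟩, Subtype.ext hxa⟩
    exact Nat.card_le_card_of_surjective _ hsurj
  obtain ⟨r, hr, hrc⟩ := rank_le (k := k) (V := V) hp hpk (c := 2) (Or.inr ⟨rfl, fun x hx => by
      have hx0 : x ≠ 0 := by
        rintro rfl
        rw [zero_pow hp.ne_zero] at hx
        exact zero_ne_one hx
      have h1 := D.pow_three hx0
      have hcop : Nat.Coprime 3 p := (Nat.coprime_primes Nat.prime_three hp).2 (Ne.symm hp3)
      exact orderOf_eq_one_iff.1 (Nat.eq_one_of_dvd_coprimes hcop (orderOf_dvd_of_pow_eq_one h1)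
        (orderOf_dvd_of_pow_eq_one hx))⟩) _ (L.map ρ) le_rfl
    (by
      rintro _ ⟨x, hx, rfl⟩ _ ⟨y, hy, rfl⟩
      rw [← map_mul, ← map_mul, lift_comm D.ker_central D.ker_pow hp hp3 hA hx hy])
    (by
      rintro _ ⟨x, hx, rfl⟩
      rw [← map_pow, hx.2, map_one])
  rw [Subgroup.card_map_of_injective D.inj] at hr
  rw [D.finrank] at hrc
  exact (hc.trans hr).trans (Nat.pow_le_pow_right hp.pos (by omega))

/-- The preimage of a subgroup of `G`, as transformations. -/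
theorem isPGroup_comap {A : Subgroup G} (hAp : ∀ a ∈ A, a ^ 3 = 1) :
    IsPGroup 3 ↥((A.comap π).map ρ) := by
  rintro ⟨_, ⟨x, hx, rfl⟩⟩
  refine ⟨2, ?_⟩
  apply Subtype.ext
  change (ρ x) ^ (3 ^ 2) = 1
  rw [← map_pow]
  have h1 : π (x ^ 3) = 1 := by
    rw [map_pow]
    exact hAp _ hx
  have h2 : x ^ (3 ^ 2) = (x ^ 3) ^ 3 := by rw [← pow_mul]; norm_num
  rw [h2, D.ker_pow _ h1, map_one]

theorem card_comap {A : Subgroup G} : 3 * Nat.card A ≤ Nat.card ((A.comap π).map ρ : Subgroup (V ≃ₗ[k] V)) := by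
  have := D.finite_H
  have := D.finite_k
  rw [Subgroup.card_map_of_injective D.inj]
  have h3 : Nat.card kˣ = 3 := by
    have := Fintype.ofFinite k
    rw [Nat.card_units, D.card]
  rw [← h3, ← Nat.card_prod]
  choose s hs using fun c : kˣ => D.scal (c : k) c.ne_zero
  choose l hl using fun a : A => D.surj (a : G)
  have hs1 : ∀ c, π (s c) = 1 := fun c => (D.ker _).2 ⟨c, hs c⟩
  let f : kˣ × A → A.comap π := fun x => ⟨s x.1 * l x.2, by
    rw [Subgroup.mem_comap, map_mul, hs1, hl, one_mul]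
    exact x.2.2⟩
  refine Nat.card_le_card_of_injective f ?_
  rintro ⟨c, a⟩ ⟨d, b⟩ h
  have h1 : s c * l a = s d * l b := congrArg Subtype.val h
  have h2 : a = b := by
    have h4 := congrArg π h1
    rw [map_mul, map_mul, hs1, hs1, hl, hl, one_mul, one_mul] at h4
    exact Subtype.ext h4
  subst h2
  have h5 : s c = s d := mul_right_cancel h1
  obtain ⟨w, hw⟩ := D.nontriv
  have h6 : (c : k) • w = (d : k) • w := by rw [← hs c w, ← hs d w, h5]
  have h7 : (c : k) = d := smul_left_injective k hw h6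
  rw [Units.ext h7]

/-- The case of a fixed isotropic line. -/
theorem card_le_of_line {A : Subgroup G} (hA : ∀ a ∈ A, ∀ b ∈ A, a * b = b * a) (hAp : ∀ a ∈ A, a ^ 3 = 1)
    {u : V} (hu0 : u ≠ 0) (hu : B.h u u = 0) (hline : ∀ g ∈ (A.comap π).map ρ, ∃ c : k, g u = c • u) :
    Nat.card A < 81 := by
  classical
  have := D.fin
  have := D.finite_k
  have := D.charP
  have := D.finite_H
  have := D.finite_end
  have hfd : FiniteDimensional k V := Module.Finite.of_finite
  let S : Subgroup H :=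
    { carrier := {x | π x ∈ A ∧ ρ x u = u}
      mul_mem' := fun {x y} hx hy => ⟨by rw [map_mul]; exact A.mul_mem hx.1 hy.1, by
        rw [map_mul, LinearEquiv.mul_apply, hy.2, hx.2]⟩
      one_mem' := ⟨by rw [map_one]; exact A.one_mem, by rw [map_one]; rfl⟩
      inv_mem' := fun {x} hx => ⟨by rw [map_inv]; exact A.inv_mem hx.1, by
        have h1 : ρ x⁻¹ (ρ x u) = u := by
          rw [← LinearEquiv.mul_apply, ← map_mul, inv_mul_cancel, map_one]
          rfl
        rwa [hx.2] at h1⟩ }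
  have hScard : Nat.card A ≤ Nat.card S := by
    have hsurj : Function.Surjective (fun x : S => (⟨π x, x.2.1⟩ : A)) := by
      rintro ⟨a, ha⟩
      obtain ⟨x, rfl⟩ := D.surj a
      obtain ⟨c, hc⟩ := hline (ρ x) ⟨x, ha, rfl⟩
      have hc0 : c ≠ 0 := by
        rintro rfl
        rw [zero_smul] at hc
        exact hu0 ((ρ x).map_eq_zero_iff.1 hc)
      obtain ⟨z, hz⟩ := D.scal c⁻¹ (inv_ne_zero hc0)
      have hz1 : π z = 1 := (D.ker z).2 ⟨_, hz⟩
      refine ⟨⟨z * x, ?_, ?_⟩, ?_⟩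
      · rw [map_mul, hz1, one_mul]
        exact ha
      · rw [map_mul, LinearEquiv.mul_apply, hz, hc, smul_smul, inv_mul_cancel₀ hc0, one_smul]
      · apply Subtype.ext
        change π (z * x) = π x
        rw [map_mul, hz1, one_mul]
    exact Nat.card_le_card_of_surjective _ hsurj
  -- an element of the kernel fixing `u` is trivial
  have hker : ∀ x, π x = 1 → ρ x u = u → x = 1 := by
    intro x hx hxu
    obtain ⟨c, hc⟩ := (D.ker x).1 hx
    have h1 : c = 1 := by
      have h2 : c • u = (1 : k) • u := by rw [← hc u, hxu, one_smul]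
      exact smul_left_injective k hu0 h2
    apply D.inj
    apply LinearEquiv.ext
    intro v
    rw [hc, h1, one_smul, map_one]
    rfl
  have hScomm : ∀ x ∈ S, ∀ y ∈ S, x * y = y * x := by
    intro x hx y hy
    have h1 : x * y * x⁻¹ * y⁻¹ = 1 := by
      refine hker _ ?_ (S.mul_mem (S.mul_mem (S.mul_mem hx hy) (S.inv_mem hx)) (S.inv_mem hy)).2
      rw [map_mul, map_mul, map_mul, map_inv, map_inv, hA _ hx.1 _ hy.1]
      group
    exact mul_inv_eq_iff_eq_mul.1 (mul_inv_eq_one.1 h1)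
  have hSexp : ∀ x ∈ S, x ^ 3 = 1 := by
    intro x hx
    exact hker _ (by rw [map_pow, hAp _ hx.1]) (S.pow_mem hx 3).2
  let A₁ : Subgroup (V ≃ₗ[k] V) := S.map ρ
  have hA₁card : Nat.card A₁ = Nat.card S := Subgroup.card_map_of_injective D.inj
  have hA₁comm : ∀ a ∈ A₁, ∀ b ∈ A₁, a * b = b * a := by
    rintro _ ⟨x, hx, rfl⟩ _ ⟨y, hy, rfl⟩
    rw [← map_mul, ← map_mul, hScomm x hx y hy]
  have hA₁exp : ∀ a ∈ A₁, a ^ 3 = 1 := by
    rintro _ ⟨x, hx, rfl⟩
    rw [← map_pow, hSexp x hx, map_one]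
  have hA₁det : ∀ a ∈ A₁, LinearMap.det ((a : V ≃ₗ[k] V) : V →ₗ[k] V) = 1 := by
    rintro _ ⟨x, -, rfl⟩
    exact D.det x
  have hA₁iso : B.Isom A₁ := by
    rintro _ ⟨x, -, rfl⟩ v w
    exact D.iso x v w
  have h3k : ((3 : ℕ) : k) ≠ 0 := by
    rw [Ne, CharP.cast_eq_zero_iff k 2]
    norm_num
  have hfinA₁ : Finite A₁ := inferInstance
  have hpow : ∃ n, Nat.card A₁ = 3 ^ n := by
    have : Fact (Nat.Prime 3) := ⟨Nat.prime_three⟩
    exact IsPGroup.iff_card.1 fun x => ⟨1, by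
      apply Subtype.ext
      rw [pow_one]
      exact hA₁exp x x.2⟩
  have hcast : (Nat.card A₁ : k) = 1 := by
    obtain ⟨n, hn⟩ := hpow
    rw [hn, Nat.cast_pow]
    have h31 : ((3 : ℕ) : k) = 1 := by
      have h2 : ((2 : ℕ) : k) = 0 := CharP.cast_eq_zero k 2
      rw [show (3 : ℕ) = 2 + 1 by norm_num, Nat.cast_add, h2, zero_add, Nat.cast_one]
    rw [h31, one_pow]
  have hdim2 : 2 ≤ Module.finrank k (fix A₁) := by
    have h1 := D.finrank_le (E := fix A₁) (U := Submodule.span k {u})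
      (fun w hw h => B.fix_nondeg hA₁iso (by rw [hcast]; exact one_ne_zero) hw h)
      (by
        rw [Submodule.span_singleton_le_iff_mem]
        rintro _ ⟨x, hx, rfl⟩
        exact hx.2)
      (by
        intro v hv w hw
        obtain ⟨c, rfl⟩ := Submodule.mem_span_singleton.1 hv
        obtain ⟨d, rfl⟩ := Submodule.mem_span_singleton.1 hw
        rw [B.smul_left, D.smul_right, hu, mul_zero, mul_zero])
    rw [finrank_span_singleton hu0] at h1
    exact h1
  obtain ⟨r, hr, hrc⟩ := rank_le (k := k) (V := V) Nat.prime_three h3k (c := 1) (Or.inl rfl) _ A₁ le_rfl hA₁comm hA₁exp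
  rw [D.finrank, one_mul] at hrc
  rw [hA₁card] at hr
  by_cases hdim : 3 ≤ Module.finrank k (fix A₁)
  · have h1 : r ≤ 3 := by omega
    calc Nat.card A ≤ 3 ^ r := hScard.trans hr
      _ ≤ 3 ^ 3 := Nat.pow_le_pow_right (by norm_num) h1
      _ < 81 := by norm_num
  · have hdim' : Module.finrank k (fix A₁) = 2 := by omega
    have := Fintype.ofFinite A₁
    have h1 : ((Fintype.card A₁ : ℕ) : k) = 1 := by rw [← Nat.card_eq_fintype_card, hcast]
    obtain ⟨ω, hω0, hω1⟩ : ∃ ω : k, ω ≠ 0 ∧ ω ≠ 1 := by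
      by_contra hcon
      push Not at hcon
      have h2 : Nat.card k ≤ 2 := by
        have := Fintype.ofFinite k
        rw [Nat.card_eq_fintype_card, ← Finset.card_univ]
        calc (Finset.univ : Finset k).card ≤ ({0, 1} : Finset k).card := Finset.card_le_card fun x _ => by
              by_cases hx : x = 0
              · simp only [hx, _root_.Finset.mem_insert, _root_.Finset.mem_singleton, _root_.zero_ne_one, _root_.or_false]
              · simp only [hcon x hx, _root_.Finset.mem_insert, _root_.one_ne_zero, _root_.Finset.mem_singleton, _root_.or_true]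
          _ ≤ 2 := Finset.card_le_two
      rw [D.card] at h2
      omega
    let z := semiEquiv A₁ h1 hω0
    have hz3 : z ^ 3 = 1 := by
      apply LinearEquiv.ext
      intro v
      rw [semiEquiv_pow_apply, D.pow_three hω0, semi_one]
      rfl
    have hzc : ∀ a ∈ A₁, Commute a z := fun a ha => semiEquiv_comm A₁ h1 hω0 ha
    have hzdet : z ∉ A₁ := by
      intro h
      have h2 := hA₁det z h
      have h3 : LinearMap.det ((z : V ≃ₗ[k] V) : V →ₗ[k] V) = ω ^ Module.finrank k (LinearMap.ker (avg A₁)) :=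
        det_semi A₁ h1 ω
      have h4 := Submodule.finrank_add_eq_of_isCompl (isCompl_avg A₁ h1)
      rw [D.finrank, hdim'] at h4
      have h5 : Module.finrank k (LinearMap.ker (avg A₁)) = 4 := by omega
      rw [h2, h5] at h3
      apply hω1
      have h6 : ω ^ 4 = ω := by rw [pow_succ, D.pow_three hω0, one_mul]
      rw [← h6, ← h3]
    let A₂ : Subgroup (V ≃ₗ[k] V) :=
      { carrier := {g | ∃ a ∈ A₁, ∃ i : ℕ, g = a * z ^ i}
        mul_mem' := by
          rintro _ _ ⟨a, ha, i, rfl⟩ ⟨b, hb, j, rfl⟩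
          refine ⟨a * b, A₁.mul_mem ha hb, i + j, ?_⟩
          have h2 : z ^ i * b = b * z ^ i := ((hzc b hb).pow_right i).eq.symm
          rw [pow_add]
          calc a * z ^ i * (b * z ^ j) = a * (z ^ i * b) * z ^ j := by group
            _ = a * b * (z ^ i * z ^ j) := by rw [h2]; group
        one_mem' := ⟨1, A₁.one_mem, 0, by simp⟩
        inv_mem' := by
          rintro _ ⟨a, ha, i, rfl⟩
          refine ⟨a⁻¹, A₁.inv_mem ha, 2 * i, ?_⟩
          have h2 : a⁻¹ * z ^ (2 * i) = z ^ (2 * i) * a⁻¹ := ((hzc _ (A₁.inv_mem ha)).pow_right (2 * i)).eq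
          rw [h2, mul_inv_rev, mul_left_inj, inv_eq_iff_mul_eq_one, ← pow_add, show i + 2 * i = 3 * i by ring,
            pow_mul, hz3, one_pow] }
    have hA₂comm : ∀ a ∈ A₂, ∀ b ∈ A₂, a * b = b * a := by
      rintro _ ⟨a, ha, i, rfl⟩ _ ⟨b, hb, j, rfl⟩
      have h2 : Commute (a * z ^ i) (b * z ^ j) :=
        Commute.mul_right
          (Commute.mul_left (hA₁comm a ha b hb : Commute a b) ((hzc b hb).pow_right i).symm)
          (Commute.mul_left ((hzc a ha).pow_right j) ((Commute.refl z).pow_pow i j))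
      exact h2.eq
    have hA₂exp : ∀ a ∈ A₂, a ^ 3 = 1 := by
      rintro _ ⟨a, ha, i, rfl⟩
      rw [((hzc a ha).pow_right i).mul_pow, hA₁exp a ha, one_mul, ← pow_mul, mul_comm i 3, pow_mul, hz3, one_pow]
    have hlt : A₁ < A₂ := by
      refine lt_of_le_of_ne (fun a ha => ⟨a, ha, 0, by simp⟩) fun h => hzdet ?_
      rw [h]
      exact ⟨1, A₁.one_mem, 1, by simp⟩
    obtain ⟨r₂, hr₂, hrc₂⟩ := rank_le (k := k) (V := V) Nat.prime_three h3k (c := 1) (Or.inl rfl) _ A₂ le_rfl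
      hA₂comm hA₂exp
    have hfix : fix A₁ ≤ fix A₂ := by
      rintro v hv _ ⟨a, ha, i, rfl⟩
      rw [LinearEquiv.mul_apply, semiEquiv_pow_apply, semi_apply, avg_of_fixed A₁ h1 hv, sub_self, smul_zero,
        add_zero, hv a ha]
    have h2 := Submodule.finrank_mono hfix
    rw [D.finrank, one_mul] at hrc₂
    have h3 : r₂ ≤ 4 := by omega
    have h4 : Nat.card A₂ ≤ 81 := hr₂.trans (Nat.pow_le_pow_right (n := 3) (by norm_num) h3)
    have h5 : Nat.card A₁ ∣ Nat.card A₂ := Subgroup.card_dvd_of_le hlt.le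
    have h6 : Nat.card A₁ ≠ Nat.card A₂ := fun h => hlt.ne (Subgroup.eq_of_le_of_card_ge hlt.le h.ge)
    obtain ⟨m, hm⟩ := h5
    have h7 : 0 < Nat.card A₂ := Nat.card_pos
    have h8 : 2 ≤ m := by
      rcases m with _ | _ | m
      · omega
      · exact absurd (by rw [hm]; ring) h6
      · omega
    have h9 : Nat.card A₁ * 2 ≤ Nat.card A₂ := by
      rw [hm]
      exact Nat.mul_le_mul_left _ h8
    omega

end Dat

end Cfsg.Agent.SigZero.USixMain

end

-- merged: Cfsg.Agent.SigZero.USix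
section

/-!
# The odd 2-local rank of `U₆(2)` is at most 3; `σ(U₆(2)) = ∅`
-/

set_option autoImplicit false

namespace Cfsg.Agent.SigZero.USixMain.Dat

open Module Cfsg Cfsg.Agent.SigZero

variable {k V H G : Type*} [Field k] [AddCommGroup V] [Module k V] [Group H] [Group G]
  {B : Form k V} {π : H →* G} {ρ : H →* (V ≃ₗ[k] V)} (D : Dat B π ρ)

include D

/-- The order of `GL(U)`, `dim U = 3`, over the field with 4 elements. -/
theorem card_gl {U : Submodule k V} (hU : Module.finrank k U = 3) : Nat.card (U ≃ₗ[k] U) = 181440 := by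
  have := D.finite_k
  have := Fintype.ofFinite k
  have := D.fin
  let b : Basis (Fin 3) k U := Module.finBasisOfFinrankEq k U hU
  have e1 : (U ≃ₗ[k] U) ≃ Matrix.GeneralLinearGroup (Fin 3) k :=
    ((LinearMap.GeneralLinearGroup.generalLinearEquiv k U).symm.trans
      (Units.mapEquiv (LinearMap.toMatrixAlgEquiv b).toMulEquiv)).toEquiv
  rw [Nat.card_congr e1, Matrix.card_GL_field, ← Nat.card_eq_fintype_card, D.card]
  decide

omit [Group H] [Group G] D in
theorem nondeg_top (B : Form k V) : ∀ w ∈ (⊤ : Submodule k V), (∀ w' ∈ (⊤ : Submodule k V), B.h w' w = 0) → w = 0 := by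
  intro w _ h
  exact B.nondeg w fun v => B.refl _ _ (h v trivial)

/-- The case of a 3-group stabilizing an isotropic subspace. -/
theorem card_le_of_isotropic {A : Subgroup G} (hA : ∀ a ∈ A, ∀ b ∈ A, a * b = b * a) (hAp : ∀ a ∈ A, a ^ 3 = 1)
    {U : Submodule k V} (hU0 : U ≠ ⊥) (hU : ∀ u ∈ U, ∀ v ∈ U, B.h u v = 0)
    (hinv : ∀ g ∈ (A.comap π).map ρ, ∀ u ∈ U, g u ∈ U) : Nat.card A < 81 := by
  classical
  have := D.fin
  have := D.finite_k
  have := D.charP
  have := D.finite_H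
  have := D.finite_end
  have hfd : FiniteDimensional k V := Module.Finite.of_finite
  have hF3 : Fact (Nat.Prime 3) := ⟨Nat.prime_three⟩
  have hpg := D.isPGroup_comap hAp
  have hd1 : 1 ≤ Module.finrank k U := by
    rw [Nat.one_le_iff_ne_zero]
    intro h
    exact hU0 (Submodule.finrank_eq_zero.1 h)
  have hd3 := D.finrank_le (E := ⊤) (U := U) (nondeg_top B) le_top hU
  rw [finrank_top, D.finrank] at hd3
  by_cases hd : Module.finrank k U = 3
  · by_contra hcon
    push Not at hcon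
    let E : Subgroup (V ≃ₗ[k] V) := (A.comap π).map ρ
    have hEcard : 3 * Nat.card A ≤ Nat.card E := D.card_comap
    have hEiso : B.Isom E := by
      rintro _ ⟨x, -, rfl⟩ v w
      exact D.iso x v w
    let φ : E →* (U ≃ₗ[k] U) :=
      { toFun := fun g =>
          { toFun := fun u => ⟨(g : V ≃ₗ[k] V) u, hinv g g.2 u u.2⟩
            map_add' := fun u v => Subtype.ext (map_add (g : V ≃ₗ[k] V) _ _)
            map_smul' := fun c u => Subtype.ext (map_smul (g : V ≃ₗ[k] V) c _)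
            invFun := fun u => ⟨((g⁻¹ : E) : V ≃ₗ[k] V) u, hinv _ (g⁻¹).2 u u.2⟩
            left_inv := fun u => by
              apply Subtype.ext
              change ((g : V ≃ₗ[k] V)⁻¹) ((g : V ≃ₗ[k] V) u) = u
              rw [← LinearEquiv.mul_apply, inv_mul_cancel]
              rfl
            right_inv := fun u => by
              apply Subtype.ext
              change (g : V ≃ₗ[k] V) ((g : V ≃ₗ[k] V)⁻¹ u) = u
              rw [← LinearEquiv.mul_apply, mul_inv_cancel]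
              rfl }
        map_one' := rfl
        map_mul' := fun _ _ => rfl }
    have hφ : Function.Injective φ := by
      rw [injective_iff_map_eq_one]
      intro g hg
      have hgU : ∀ u ∈ U, (g : V ≃ₗ[k] V) u = u := fun u hu => by
        have h1 := congrArg (fun f : U ≃ₗ[k] U => ((f ⟨u, hu⟩ : U) : V)) hg
        exact h1
      let K := cent E U
      have hK : (g : V ≃ₗ[k] V) ∈ K := ⟨g.2, hgU⟩
      have hKE : K ≤ E := cent_le E U
      have hKcard : (Nat.card K : k) ≠ 0 := by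
        obtain ⟨n, hn⟩ := IsPGroup.iff_card.1 (hpg.to_le hKE)
        rw [hn, Nat.cast_pow]
        apply pow_ne_zero
        rw [Ne, CharP.cast_eq_zero_iff k 2]
        norm_num
      have h1 := D.finrank_le (E := fix K) (U := U)
        (fun w hw h => B.fix_nondeg (fun a ha => hEiso a (hKE ha)) hKcard hw h) (le_fix_cent E U) hU
      have h2 : fix K = ⊤ := by
        apply Submodule.eq_top_of_finrank_eq
        have h3 := Submodule.finrank_le (fix K)
        rw [D.finrank] at h3 ⊢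
        omega
      apply Subtype.ext
      apply LinearEquiv.ext
      intro v
      have h3 : v ∈ fix K := by
        rw [h2]
        trivial
      exact h3 g hK
    have h1 : Nat.card E ∣ 181440 := by
      rw [← D.card_gl hd]
      exact Subgroup.card_dvd_of_injective φ hφ
    obtain ⟨n, hn⟩ := IsPGroup.iff_card.1 hpg
    change Nat.card E = 3 ^ n at hn
    rw [hn] at h1 hEcard
    have h2 : 5 ≤ n := by
      by_contra h
      have h3 : n ≤ 4 := by omega
      have h4 : 3 ^ n ≤ 3 ^ 4 := Nat.pow_le_pow_right (by norm_num) h3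
      omega
    have h3 : 3 ^ 5 ∣ 181440 := (pow_dvd_pow 3 h2).trans h1
    norm_num at h3
  · obtain ⟨u, hu, hu0, hline⟩ := exists_line (p := 3) hpg hinv (by
      rw [D.card]
      have h1 : Module.finrank k U = 1 ∨ Module.finrank k U = 2 := by omega
      rcases h1 with h1 | h1
      · rw [h1]
        simp
      · rw [h1]
        decide)
    exact D.card_le_of_line hA hAp hu0 (hU u hu u hu) hline

/-- **The main result.** -/
theorem oddRank : OddTwoLocalRankLE 3 G := by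
  classical
  have := D.fin
  have := D.finite_k
  have := D.charP
  have := D.finite_H
  have := D.finite_G
  have := D.finite_end
  have hF2 : Fact (Nat.Prime 2) := ⟨Nat.prime_two⟩
  have hF3 : Fact (Nat.Prime 3) := ⟨Nat.prime_three⟩
  rintro p hp hp2 N ⟨T, hT, hT1, rfl⟩ A' hA' hAp'
  let N : Subgroup G := Subgroup.normalizer (T : Set G)
  have hAc' : ∀ a ∈ A', ∀ b ∈ A', a * b = b * a := fun a ha b hb => by
    have := hA'.is_comm.comm (⟨a, ha⟩ : A') ⟨b, hb⟩
    exact congrArg Subtype.val this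
  let A : Subgroup G := A'.map N.subtype
  have hA : ∀ a ∈ A, ∀ b ∈ A, a * b = b * a := by
    rintro _ ⟨a, ha, rfl⟩ _ ⟨b, hb, rfl⟩
    rw [← map_mul, ← map_mul, hAc' a ha b hb]
  have hAp : ∀ a ∈ A, a ^ p = 1 := by
    rintro _ ⟨a, ha, rfl⟩
    rw [← map_pow, hAp' a ha, map_one]
  have hAN : A ≤ N := by
    rintro _ ⟨a, -, rfl⟩
    exact a.2
  have hcard : Nat.card A' = Nat.card A := (Subgroup.card_map_of_injective N.subtype_injective).symm
  rw [hcard]
  by_cases hp3 : p = 3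
  swap
  · exact D.rank_of_ne_three hp hp2 hp3 hA hAp
  subst hp3
  -- the elements of order two in the centre of `T`
  let T₁ : Subgroup G :=
    { carrier := {t | t ∈ T ∧ (∀ s ∈ T, t * s = s * t) ∧ t ^ 2 = 1}
      mul_mem' := fun {x y} hx hy => ⟨T.mul_mem hx.1 hy.1, fun s hs => by
        rw [mul_assoc, hy.2.1 s hs, ← mul_assoc, hx.2.1 s hs, mul_assoc], by
        have h1 : Commute x y := hx.2.1 y hy.1
        rw [h1.mul_pow, hx.2.2, hy.2.2, one_mul]⟩
      one_mem' := ⟨T.one_mem, fun s _ => by rw [one_mul, mul_one], one_pow 2⟩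
      inv_mem' := fun {x} hx => ⟨T.inv_mem hx.1, fun s hs => by
        have h1 : Commute x s := hx.2.1 s hs
        exact h1.inv_left.eq, by rw [inv_pow, hx.2.2, inv_one]⟩ }
  have hT₁comm : ∀ a ∈ T₁, ∀ b ∈ T₁, a * b = b * a := fun a ha b hb => ha.2.1 b hb.1
  have hT₁sq : ∀ a ∈ T₁, a ^ 2 = 1 := fun a ha => ha.2.2
  obtain ⟨t, ht, ht1⟩ : ∃ t ∈ T₁, t ≠ 1 := by
    have hnt : Nontrivial T := (Subgroup.nontrivial_iff_ne_bot T).2 hT1
    have h1 : Nontrivial (Subgroup.center T) := hT.center_nontrivial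
    have h2 : 2 ∣ Nat.card (Subgroup.center T) := by
      obtain ⟨n, hn⟩ := IsPGroup.iff_card.1 (hT.to_subgroup (Subgroup.center T))
      rw [hn]
      apply dvd_pow_self
      rintro rfl
      rw [pow_zero] at hn
      exact absurd (Finite.one_lt_card (α := Subgroup.center T)) (by rw [hn]; norm_num)
    obtain ⟨x, hx⟩ := exists_prime_orderOf_dvd_card' 2 h2
    refine ⟨((x : T) : G), ⟨(x : T).2, ?_, ?_⟩, ?_⟩
    · intro s hs
      have h3 := Subgroup.mem_center_iff.1 x.2 ⟨s, hs⟩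
      exact (congrArg Subtype.val h3).symm
    · have h3 : x ^ 2 = 1 := by rw [← hx, pow_orderOf_eq_one]
      have h4 := congrArg (fun y : Subgroup.center T => ((y : T) : G)) h3
      exact h4
    · intro h3
      have h4 : x = 1 := Subtype.ext (Subtype.ext h3)
      rw [h4, orderOf_one] at hx
      norm_num at hx
  have hq3 : (2 : ℕ) ≠ 3 := by norm_num
  let L : Subgroup H := lift π D.ker_central D.ker_pow Nat.prime_two hq3 T₁ hT₁comm
  let R : Subgroup (V ≃ₗ[k] V) := L.map ρ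
  have hR : IsPGroup 2 R := by
    rintro ⟨_, ⟨x, hx, rfl⟩⟩
    refine ⟨1, ?_⟩
    apply Subtype.ext
    change (ρ x) ^ (2 ^ 1) = 1
    rw [← map_pow, pow_one, hx.2, map_one]
  have hRiso : B.Isom R := by
    rintro _ ⟨x, -, rfl⟩ v w
    exact D.iso x v w
  have hR1 : R ≠ ⊥ := by
    obtain ⟨x, hx, hxt⟩ := exists_lift D.ker_central D.ker_pow Nat.prime_two hq3 hT₁comm D.surj hT₁sq ht
    intro h
    have h1 : ρ x ∈ R := ⟨x, hx, rfl⟩
    rw [h, Subgroup.mem_bot] at h1
    have h2 : x = 1 := D.inj (by rw [h1, map_one])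
    apply ht1
    rw [← hxt, h2, map_one]
  have hU0 := B.inf_perp_ne_bot hR hRiso hR1
  -- conjugation by the preimage of `A`
  have hconj : ∀ x, π x ∈ A → ∀ y ∈ L, x⁻¹ * y * x ∈ L := by
    intro x hx y hy
    refine ⟨?_, ?_⟩
    · rw [map_mul, map_mul, map_inv]
      have h1 : ∀ s ∈ T, (π x)⁻¹ * s * π x ∈ T := fun s hs => by
        have h2 := (Subgroup.mem_normalizer_iff.1 (N.inv_mem (hAN hx)) s).1 hs
        rwa [inv_inv] at h2
      have h1' : ∀ s ∈ T, π x * s * (π x)⁻¹ ∈ T := fun s hs =>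
        (Subgroup.mem_normalizer_iff.1 (hAN hx) s).1 hs
      refine ⟨h1 _ hy.1.1, fun s hs => ?_, ?_⟩
      · have h3 := hy.1.2.1 _ (h1' s hs)
        calc (π x)⁻¹ * π y * π x * s = (π x)⁻¹ * (π y * (π x * s * (π x)⁻¹)) * π x := by group
          _ = (π x)⁻¹ * ((π x * s * (π x)⁻¹) * π y) * π x := by rw [h3]
          _ = s * ((π x)⁻¹ * π y * π x) := by group
      · have h3 : ((π x)⁻¹ * π y * π x) ^ 2 = (π x)⁻¹ * (π y) ^ 2 * π x := by
          rw [sq, sq]
          group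
        rw [h3, hy.1.2.2]
        group
    · have h3 : (x⁻¹ * y * x) ^ 2 = x⁻¹ * y ^ 2 * x := by
        rw [sq, sq]
        group
      rw [h3, hy.2]
      group
  have hRinv : ∀ g ∈ (A.comap π).map ρ, ∀ r ∈ R, g⁻¹ * r * g ∈ R := by
    rintro _ ⟨x, hx, rfl⟩ _ ⟨y, hy, rfl⟩
    exact ⟨x⁻¹ * y * x, hconj x hx y hy, by simp only [_root_.map_mul, _root_.map_inv]⟩
  have h81 := D.card_le_of_isotropic hA hAp hU0 (fun u hu v hv => hu.2 v hv.1) (by
    rintro g hg v ⟨hv1, hv2⟩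
    have hinv : ∀ w ∈ fix R, g⁻¹ w ∈ fix R := fun w hw =>
      fix_invariant (fun r hr => by
        have := hRinv g⁻¹ (Subgroup.inv_mem _ hg) r hr
        exact this) hw
    have hgiso : ∀ u v, B.h (g u) (g v) = B.h u v := by
      obtain ⟨x, -, rfl⟩ := hg
      exact D.iso x
    exact ⟨fix_invariant (hRinv g hg) hv1, B.perp_invariant hgiso hinv hv2⟩)
  obtain ⟨n, hn⟩ := IsPGroup.iff_card.1 (show IsPGroup 3 A from fun x => ⟨1, by
    apply Subtype.ext
    rw [pow_one]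
    exact hAp x x.2⟩)
  rw [hn] at h81 ⊢
  have h4 : n < 4 := by
    by_contra h
    have h5 : 3 ^ 4 ≤ 3 ^ n := Nat.pow_le_pow_right (by norm_num) (by omega)
    omega
  exact Nat.pow_le_pow_right (by norm_num) (by omega)

end Cfsg.Agent.SigZero.USixMain.Dat

namespace Cfsg.Agent.SigZero.USix

open Module Cfsg Cfsg.Agent.SigZero Cfsg.Agent.LieClassical.SUBasic

variable {F : Type} [Field F] [Fintype F]

theorem charP_two (hF : Fintype.card F = 4) : CharP F 2 := by
  obtain ⟨p, hp⟩ := CharP.exists F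
  have hpp : p.Prime := CharP.char_is_prime F p
  have : Fact p.Prime := ⟨hpp⟩
  obtain ⟨n, -, hn⟩ := FiniteField.card F p
  rw [hF] at hn
  have h1 : p ∣ 2 ^ 2 := by
    rw [show (2 : ℕ) ^ 2 = 4 by norm_num, hn]
    exact dvd_pow_self p n.ne_zero
  have h2 : p = 2 := (Nat.prime_dvd_prime_iff_eq hpp Nat.prime_two).1 (hpp.dvd_of_dvd_pow h1)
  rwa [h2] at hp

/-- The hermitian form of `F₄ ^ n`. -/
def herm (n : ℕ) (hF : Fintype.card F = 4) : Form F (Fin n → F) where
  h := hermForm n F 2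
  add_left u v w := by
    rw [hermForm_apply, hermForm_apply, hermForm_apply, ← Finset.sum_add_distrib]
    exact Finset.sum_congr rfl fun i _ => by rw [Pi.add_apply]; ring
  smul_left c u v := by
    rw [hermForm_apply, hermForm_apply, Finset.mul_sum]
    exact Finset.sum_congr rfl fun i _ => by rw [Pi.smul_apply, smul_eq_mul]; ring
  refl u v h := by
    have := charP_two hF
    have : Fact (Nat.Prime 2) := ⟨Nat.prime_two⟩
    rw [hermForm_apply] at h ⊢
    have h1 : (∑ i, u i * v i ^ 2) ^ 2 = ∑ i, v i * u i ^ 2 := by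
      rw [sum_pow_char 2]
      refine Finset.sum_congr rfl fun i _ => ?_
      have h4 : v i ^ 4 = v i := by
        rw [← hF]
        exact FiniteField.pow_card _
      calc (u i * v i ^ 2) ^ 2 = v i ^ 4 * u i ^ 2 := by ring
        _ = v i * u i ^ 2 := by rw [h4]
    rw [← h1, h]
    simp
  nondeg u h := by
    classical
    funext j
    have h1 := h (Pi.single j 1)
    rw [hermForm_apply, Finset.sum_eq_single j] at h1
    · simpa using h1
    · intro i _ hi
      rw [Pi.single_eq_of_ne hi]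
      simp
    · intro hj
      exact absurd (Finset.mem_univ j) hj

/-- The inclusion of `SU` in the matrices. -/
def toMat (n : ℕ) (F : Type) [Field F] : SU n F 2 →* Matrix (Fin n) (Fin n) F :=
  (slToMat n F).comp (SU n F 2).subtype

omit [Fintype F] in
theorem toMat_injective (n : ℕ) : Function.Injective (toMat n F) := fun _ _ h => Subtype.ext (Subtype.ext h)

/-- The data for `U₆(2)`. -/
theorem dat (hF : Fintype.card F = 4) {G : Type*} [Group G] (e : PSU 6 F 2 ≃* G) :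
    USixMain.Dat (herm 6 hF) (e.toMonoidHom.comp (QuotientGroup.mk' (Subgroup.center (SU 6 F 2))))
      (matRep (toMat 6 F)) where
  card := by rw [Nat.card_eq_fintype_card, hF]
  finrank := by rw [Module.finrank_fintype_fun_eq_card, Fintype.card_fin]
  fin := inferInstance
  add_right u v w := by
    have := charP_two hF
    have : Fact (Nat.Prime 2) := ⟨Nat.prime_two⟩
    change hermForm 6 F 2 _ _ = hermForm 6 F 2 _ _ + hermForm 6 F 2 _ _
    rw [hermForm_apply, hermForm_apply, hermForm_apply, ← Finset.sum_add_distrib]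
    exact Finset.sum_congr rfl fun i _ => by rw [Pi.add_apply, CharTwo.add_sq, mul_add]
  smul_right c u v := by
    change hermForm 6 F 2 _ _ = _ * hermForm 6 F 2 _ _
    rw [hermForm_apply, hermForm_apply, Finset.mul_sum]
    exact Finset.sum_congr rfl fun i _ => by rw [Pi.smul_apply, smul_eq_mul]; ring
  surj := e.surjective.comp (QuotientGroup.mk'_surjective _)
  inj := matRep_injective (toMat_injective 6)
  iso x u v := (mem_SU_iff _).1 x.2 u v
  det x := by
    have h1 : ((matRep (toMat 6 F) x : (Fin 6 → F) ≃ₗ[F] (Fin 6 → F)) : (Fin 6 → F) →ₗ[F] (Fin 6 → F)) =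
        Matrix.toLin' (toMat 6 F x) := by
      refine LinearMap.ext fun v => ?_
      rw [Matrix.toLin'_apply]
      rfl
    rw [h1, LinearMap.det_toLin']
    exact (x : Matrix.SpecialLinearGroup (Fin 6) F).2
  scal c hc := by
    have h3 : c ^ 3 = 1 := by
      have h1 := FiniteField.pow_card_sub_one_eq_one c hc
      rwa [hF] at h1
    refine ⟨suScalar 2 c (by rw [show 6 = 3 * 2 by norm_num, pow_mul, h3, one_pow]) h3, fun v => ?_⟩
    rw [matRep_apply]
    change Matrix.mulVec (Matrix.diagonal fun _ => c) v = c • v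
    funext i
    rw [Matrix.mulVec_diagonal, Pi.smul_apply, smul_eq_mul]
  ker x := by
    rw [MonoidHom.comp_apply]
    change e _ = 1 ↔ _
    rw [map_eq_one_iff e e.injective, QuotientGroup.mk'_apply, QuotientGroup.eq_one_iff]
    constructor
    · intro hx
      obtain ⟨c, hcn, hcq, rfl⟩ := (mem_center_SU_iff (q := 2) (by rw [hF]; norm_num) (by norm_num) x).1 hx
      refine ⟨c, fun v => ?_⟩
      rw [matRep_apply]
      change Matrix.mulVec (Matrix.diagonal fun _ => c) v = c • v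
      funext i
      rw [Matrix.mulVec_diagonal, Pi.smul_apply, smul_eq_mul]
    · rintro ⟨c, hc⟩
      rw [Subgroup.mem_center_iff]
      intro y
      apply matRep_injective (toMat_injective 6)
      apply LinearEquiv.ext
      intro v
      rw [map_mul, map_mul, LinearEquiv.mul_apply, LinearEquiv.mul_apply, hc, hc, map_smul]

/-- **`e(U₆(2)) ≤ 3` and `σ(U₆(2)) = ∅`.** -/
theorem sigma_empty {G : Type*} [Group G]
    (h : ∃ (F : Type) (_ : Field F) (_ : Fintype F), Fintype.card F = 4 ∧ Nonempty (G ≃* PSU 6 F 2)) :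
    OddTwoLocalRankLE 3 G ∧ sigmaSet G = ∅ := by
  obtain ⟨F, _, _, hF, ⟨e⟩⟩ := h
  have h1 : OddTwoLocalRankLE 3 G := (dat hF e.symm).oddRank
  exact ⟨h1, Cfsg.Agent.SigZero.sigma_empty h1⟩

end Cfsg.Agent.SigZero.USix

end

-- merged: Cfsg.Agent.SigZero.OmegaEight
section

/-!
# The odd 2-local rank of `PΩ⁺_{2m}(2)` and `PΩ⁻_{2m}(2)` is at most `m - 1`; `σ(PΩ⁺₈(2)) = ∅`
-/

set_option autoImplicit false

namespace Cfsg.Agent.SigZero.OmegaEight

open Module QuadraticMap Cfsg Cfsg.Agent.SigZero Cfsg.Agent.LieClassical.OrthForms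
  Cfsg.Agent.LieClassical.OrthCore

variable {F : Type} [Field F] {ι : Type} [Fintype ι] [DecidableEq ι]

/-- The inclusion of `Ω(Q)` in the matrices. -/
def toMat (Q : (ι → F) → F) : Omega F Q →* Matrix ι ι F :=
  (Units.coeHom (Matrix ι ι F)).comp ((isometryGroup F Q).subtype.comp (Omega F Q).subtype)

theorem toMat_injective (Q : (ι → F) → F) : Function.Injective (toMat Q) := fun _ _ h =>
  Subtype.ext (Subtype.ext (Units.ext h))

omit [Fintype ι] [DecidableEq ι] in
theorem polar_refl (Q : QuadraticForm F (ι → F)) : (polarBilin Q).IsRefl := by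
  intro u v h
  rw [polarBilin_apply_apply] at h ⊢
  rw [polar_comm, h]

omit [Fintype ι] [DecidableEq ι] in
theorem polarBilin_nondegenerate {Q : QuadraticForm F (ι → F)} (hQ : Nondeg Q) : (polarBilin Q).Nondegenerate := by
  refine ⟨fun x hx => hQ x fun y => hx y, fun x hx => hQ x fun y => ?_⟩
  rw [polar_comm]
  exact hx y

/-- **`e(PΩ(Q)) ≤ m - 1` for a nonsingular quadratic form of dimension `2 m` over `F₂` with a singular vector.** -/
theorem oddRank [Fintype F] (hF : Fintype.card F = 2) {Q : QuadraticForm F (ι → F)} (hQ : Nondeg Q) {m : ℕ}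
    (hm : 2 ≤ m) (hcard : Fintype.card ι = 2 * m) (hs : ∃ u : ι → F, u ≠ 0 ∧ Q u = 0) {G : Type*} [Group G]
    (e : G ≃* POmega F (⇑Q)) : OddTwoLocalRankLE (m - 1) G := by
  have hchar : CharP F 2 := by
    have : Fact (Nat.Prime 2) := ⟨Nat.prime_two⟩
    exact charP_of_card_eq_prime hF
  have h2 : (2 : F) = 0 := by exact_mod_cast CharP.cast_eq_zero F 2
  have hc : Subgroup.center (Omega F (⇑Q)) = ⊥ :=
    Cfsg.Agent.LieClassical.OrthCenter.center_omega_eq_bot_char_two h2 (polarBilin_nondegenerate hQ) (by omega) hs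
  have e1 : G ≃* Omega F (⇑Q) :=
    (e.trans (QuotientGroup.quotientMulEquivOfEq hc)).trans QuotientGroup.quotientBot
  refine oddRank_of_rep (V := ι → F) hF (polar_refl Q) (fun u h => hQ u fun y => h y) (m := m) ?_
    ((matRep (toMat (⇑Q))).comp e1.toMonoidHom)
    ((matRep_injective (toMat_injective _)).comp e1.injective) fun g u v => ?_
  · rw [Module.finrank_fintype_fun_eq_card, hcard]
  · exact Cfsg.Agent.LieClassical.OrthCenter.polar_act _ u v

/-- **`σ(PΩ⁺₈(2)) = ∅`.** -/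
theorem sigma_empty {G : Type*} [Group G]
    (h : ∃ (F : Type) (_ : Field F) (_ : Fintype F), Fintype.card F = 2 ∧
      Nonempty (G ≃* POmega F (quadFormPlus 4 F))) :
    OddTwoLocalRankLE 3 G ∧ sigmaSet G = ∅ := by
  obtain ⟨F, _, _, hF, ⟨e⟩⟩ := h
  rw [← coe_plusForm] at e
  have h1 : OddTwoLocalRankLE 3 G := by
    refine oddRank hF (nondeg_plusForm 4 F) (m := 4) (by norm_num) (by simp) ?_ e
    refine ⟨Pi.single (Sum.inl 0) 1, ?_, ?_⟩
    · intro h0
      have := congrFun h0 (Sum.inl 0)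
      simp at this
    · rw [coe_plusForm, quadFormPlus_apply]
      exact Finset.sum_eq_zero fun i _ => by simp
  exact ⟨h1, Cfsg.Agent.SigZero.sigma_empty h1⟩

end Cfsg.Agent.SigZero.OmegaEight

end

-- merged: Cfsg.Agent.SigTab.Glue
section

/-!
# Rows `psu`, `psp`, `omegaPlus` of `Sig0Lie` (helper7; the mathematics is helper30/… `SigZeroU5`, `SigZero`)
-/

set_option autoImplicit false

namespace Cfsg.Agent.SigTab.Glue

open Cfsg Cfsg.Agent.SevenCases

universe u

/-- the row `psu` of `Sig0Lie` -/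
theorem psu : Sig0.{u} (fun X _ => PsuEven (fun n q => 3 ≤ n ∧ (n ≤ 5 ∨ (n = 6 ∧ q = 2))) X) := by
  intro G _ _ h
  obtain ⟨F, iF, jF, n, q, hq, hF, ⟨hn, h5 | ⟨rfl, rfl⟩⟩, he⟩ := h
  · exact SigZeroU5.sig0_psu G ⟨F, iF, jF, n, q, hq, hF, ⟨hn, h5⟩, he⟩
  · exact (SigZero.USix.sigma_empty ⟨F, iF, jF, hF.trans (by norm_num), he⟩).2

/-- the row `psp` of `Sig0Lie` -/
theorem psp : Sig0.{u} (fun X _ => PspEven (fun m q => 2 ≤ m ∧ (m ≤ 3 ∨ (m = 4 ∧ q = 2))) X) := by
  intro G _ _ h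
  obtain ⟨F, iF, jF, m, hq, ⟨hm, h3 | ⟨rfl, h2⟩⟩, he⟩ := h
  · exact SigZeroU5.sig0_psp G ⟨F, iF, jF, m, hq, ⟨hm, h3⟩, he⟩
  · exact (SigZero.SpEight.sigma_empty ⟨F, iF, jF, h2, he⟩).2

/-- the row `omegaPlus` of `Sig0Lie` -/
theorem omegaPlus : Sig0.{u} (fun X _ => OmegaPlusEven (fun m q => m = 4 ∧ q = 2) X) := by
  intro G _ _ h
  obtain ⟨F, iF, jF, m, hq, ⟨rfl, h2⟩, he⟩ := h
  exact (SigZero.OmegaEight.sigma_empty ⟨F, iF, jF, h2, he⟩).2

end Cfsg.Agent.SigTab.Glue

end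

-- merged: Cfsg.Agent.SigTab.TabSig
section

/-!
# The structures `Sig0Lie`, `Sig0Spor` (helper4: assembly)
-/

set_option autoImplicit false

namespace Cfsg.Agent.SigTab.TabSig

open Cfsg Cfsg.Agent.SevenCases

universe u

theorem sig0Lie : Sig0Lie.{u} where
  alt := AltFFour.alt
  psl := SigZeroU5.sig0_psl
  psu := Glue.psu
  psp := Glue.psp
  omegaPlus := Glue.omegaPlus
  omegaMinus := BiChar.OmM.sig0
  g2 := BiChar.GTwo.sig0
  f4 := AltFFour.f4
  d4 := BiChar.TwDFour.sig0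
  sz := SzTits.sz
  ree := BiChar.TwFFour.sig0
  tits := SzTits.tits
  l43 := BiChar.Small.sig0_l43
  u43 := BiChar.Small.sig0_u43
  g23 := BiChar.Small.sig0_g23

theorem sig0Spor : Sig0Spor.{u} where
  m22 := BiChar.Small.sig0_m22
  m23 := BiChar.Small.sig0_m23
  m24 := BiChar.Small.sig0_m24
  j2 := BiChar.Small.sig0_j2
  j3 := BiChar.Small.sig0_j3
  j4 := BiChar.Small.sig0_j4
  hs := BiChar.Small.sig0_hs
  he := BiChar.Small.sig0_he
  ru := BiChar.Small.sig0_ru
  suz := SigZeroSuz.Row.sig0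
  co3 := fun _ _ _ h => SigZero.CoThree.sigma_empty h
  co2 := SigZeroCo2.Final.sig0
  hn := fun _ _ _ h => SigZeroHN.sigma_empty h
  th := fun _ _ _ h => Sigma.ThRow.sigma_empty h

end Cfsg.Agent.SigTab.TabSig

end

-- merged: Cfsg.Agent.LThreeTwE6.Sig
section

/-!
# `σ(²E₆(2)) ⊆ {3}` (helper66)
-/

set_option autoImplicit false

namespace Cfsg.Agent.LThreeTwE6

open Cfsg Cfsg.Agent.SigTab

universe u

theorem not_four (p : ℕ) (hp : p.Prime) (h5 : 5 ≤ p) :
    ¬ p ^ 4 ∣ 2 ^ 36 * (2 ^ 2 - 1) * (2 ^ 5 + 1) * (2 ^ 6 - 1) * (2 ^ 8 - 1) * (2 ^ 9 + 1) * (2 ^ 12 - 1) := by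
  intro hd
  have e : (2 ^ 36 * (2 ^ 2 - 1) * (2 ^ 5 + 1) * (2 ^ 6 - 1) * (2 ^ 8 - 1) * (2 ^ 9 + 1) * (2 ^ 12 - 1) : ℕ) =
      (2 ^ 36 * 3 ^ 10) * (5 ^ 2 * 7 ^ 2 * 11 * 13 * 17 * 19) := by norm_num
  rw [e] at hd
  have h2 : (p ^ 4).Coprime (2 ^ 36 * 3 ^ 10) := by
    apply Nat.Coprime.pow_left
    refine Nat.Coprime.mul_right (Nat.Coprime.pow_right _ ?_) (Nat.Coprime.pow_right _ ?_)
    · exact (Nat.coprime_primes hp Nat.prime_two).2 (by omega)
    · exact (Nat.coprime_primes hp Nat.prime_three).2 (by omega)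
  have h3 := h2.dvd_of_dvd_mul_left hd
  by_cases hp5 : p = 5
  · rw [hp5] at h3
    norm_num at h3
  · by_cases hp7 : p = 7
    · rw [hp7] at h3
      norm_num at h3
    · have h4 : (p ^ 4).Coprime (5 ^ 2 * 7 ^ 2) :=
        Nat.Coprime.mul_right (Nat.Coprime.pow _ _ ((Nat.coprime_primes hp Nat.prime_five).2 hp5))
          (Nat.Coprime.pow _ _ ((Nat.coprime_primes hp (by norm_num)).2 hp7))
      have e2 : (5 ^ 2 * 7 ^ 2 * 11 * 13 * 17 * 19 : ℕ) = (5 ^ 2 * 7 ^ 2) * 46189 := by norm_num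
      rw [e2] at h3
      have h5 := h4.dvd_of_dvd_mul_left h3
      have h7 : p ^ 4 ≤ 46189 := Nat.le_of_dvd (by norm_num) h5
      have h8 : p < 15 := by
        by_contra hcon
        have h9 : 15 ^ 4 ≤ p ^ 4 := Nat.pow_le_pow_left (by omega) 4
        norm_num at h9
        omega
      interval_cases p <;> norm_num at h5

/-- **row `twE62` of `FiveSig`** -/
theorem sigThree : SigThree.{u} (fun X _ => TwESixEven (fun q => q = 2) X) := by
  rintro G _ _ ⟨K, _, _, q, -, hK, rfl, ⟨e⟩⟩ p hp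
  refine Cfsg.Agent.GenType.sigma_le_three_of_order (G := G) ?_ hp
  intro r hr hr2 hr3 hd
  have h5 : 5 ≤ r := by
    have h2 := hr.two_le
    rcases Nat.lt_or_ge r 5 with h | h
    · interval_cases r
      · exact absurd rfl hr2
      · exact absurd rfl hr3
      · exact absurd hr (by norm_num)
    · exact h
  have hc := Cfsg.Agent.S1066.result (K := K) (q := 2) (Nat.prime_two.isPrimePow) hK
  rw [Nat.card_congr e.toEquiv] at hd
  apply not_four r hr h5
  rw [← hc]
  exact hd.mul_left _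

end Cfsg.Agent.LThreeTwE6

end

-- merged: Cfsg.Agent.SigTab.TabFive
section

/-!
# The structure `FiveSig` (helper4: assembly)
-/

set_option autoImplicit false

namespace Cfsg.Agent.SigTab.TabFive

open Cfsg Cfsg.Agent.SevenCases

universe u

theorem fiveSig (hb : SigThree.{u} (fun X _ => Spor.IsoB X)) (hm : SigThree.{u} (fun X _ => Spor.IsoM X)) :
    FiveSig.{u} where
  o73 := CharThree.sig_o73
  o8p3 := CharThree.sig_o8p3
  o8m3 := CharThree.sig_o8m3
  o10m2 := LThreeO10.sigThree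
  u72 := LThreeU7.five_sig
  twE62 := LThreeTwE6.sigThree
  fi22 := LThreeFi22.Rows.sig
  fi23 := LThreeFi23.sigThree
  fi24 := LThreeFi24.sigThree
  co1 := fun _ _ _ h => Sigma.CoOneFive.sigma_subset h
  b := hb
  m := hm

end Cfsg.Agent.SigTab.TabFive

end

-- merged: Cfsg.Agent.GpExc.Num
section

/-!
# The arithmetic (helper75)

`n` a number with `n_2 = q ^ N`, `n ≥ q ^ (2 N)`, `n q ^ (2 P) ≤ |G|`, `n q (q² - 1) ∣ |G|`: then `OrdCrit.Cond n` and
`n_p ³ ≤ n`, for `G = F₄(q), E₆(q), ²E₆(q), E₇(q), E₈(q)`, `q` even.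
-/

set_option autoImplicit false

namespace Cfsg.Agent.GpExc.Num

open Cfsg.Agent.OrdCrit

theorem fac_eq {p n a : ℕ} (hp : p.Prime) (hn : n ≠ 0) (h : p ^ a ∣ n) (h' : ¬ p ^ (a + 1) ∣ n) :
    n.factorization p = a := by
  have h1 := (hp.pow_dvd_iff_le_factorization hn).1 h
  have h2 := mt (hp.pow_dvd_iff_le_factorization hn).2 h'
  omega

section part

variable {p q : ℕ} (hp : p.Prime) (hp2 : p ≠ 2) (hq : 1 < q) (hpq : p ∣ q ^ 2 - 1)

include hp hpq hq in
theorem not_dvd : ¬ p ∣ q := by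
  intro h
  have h1 : p ∣ q ^ 2 := h.trans (dvd_pow_self q two_ne_zero)
  have h2 : 1 ≤ q ^ 2 := Nat.one_le_pow _ _ (by omega)
  have h3 : p ∣ 1 := by
    have := Nat.dvd_sub h1 hpq
    rwa [Nat.sub_sub_self h2] at this
  exact hp.one_lt.ne' (Nat.dvd_one.1 h3)

include hp hp2 hpq hq in
theorem fac_pow {m : ℕ} (hm : m ≠ 0) :
    ((q ^ 2) ^ m - 1).factorization p = (q ^ 2 - 1).factorization p + m.factorization p := by
  have : Fact p.Prime := ⟨hp⟩
  have h1 := padicValNat.pow_sub_pow (p := p) (x := q ^ 2) (y := 1) (hp.odd_of_ne_two hp2)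
    (by nlinarith) hpq (fun h => not_dvd hp hq hpq (hp.dvd_of_dvd_pow h)) hm
  rw [one_pow] at h1
  rw [Nat.factorization_def _ hp, Nat.factorization_def _ hp, Nat.factorization_def _ hp, h1]

omit hp hp2 hpq in
include hq in
theorem one_lt_pow {m : ℕ} (hm : m ≠ 0) : 1 < (q ^ 2) ^ m :=
  Nat.one_lt_pow hm (Nat.one_lt_pow two_ne_zero hq)

include hp hp2 hpq hq in
theorem fac_prod : ∀ L : List ℕ, (∀ m ∈ L, m ≠ 0) →
    ((L.map fun m => (q ^ 2) ^ m - 1).prod).factorization p =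
      L.length * (q ^ 2 - 1).factorization p + L.prod.factorization p ∧
    (L.map fun m => (q ^ 2) ^ m - 1).prod ≠ 0 ∧ L.prod ≠ 0
  | [], _ => by simp only [_root_.List.map_nil, _root_.List.prod_nil, _root_.Nat.factorization_one, _root_.Finsupp.coe_zero, _root_.Pi.zero_apply, _root_.List.length_nil, _root_.MulZeroClass.zero_mul, _root_.add_zero, _root_.ne_eq, _root_.one_ne_zero, _root_.not_false_eq_true, _root_.and_self]
  | m :: L, hL => by
    have hm := hL m List.mem_cons_self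
    obtain ⟨h1, h2, h3⟩ := fac_prod L fun x hx => hL x (List.mem_cons_of_mem _ hx)
    have h4 : (q ^ 2) ^ m - 1 ≠ 0 := by
      have := one_lt_pow hq hm
      omega
    rw [List.map_cons, List.prod_cons, List.prod_cons, List.length_cons]
    refine ⟨?_, mul_ne_zero h4 h2, mul_ne_zero hm h3⟩
    rw [Nat.factorization_mul h4 h2, Finsupp.add_apply, Nat.factorization_mul hm h3, Finsupp.add_apply, h1,
      fac_pow hp hp2 hq hpq hm]
    ring

include hp hp2 hpq hq in
theorem part_le_succ (hqe : Even q) : p ^ (q ^ 2 - 1).factorization p ≤ q + 1 := by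
  have h1 : q ^ 2 - 1 = (q - 1) * (q + 1) := by
    obtain ⟨m, rfl⟩ := Nat.exists_eq_add_of_lt hq
    rw [show 1 + m + 1 - 1 = 1 + m by omega]
    rw [show (1 + m + 1) ^ 2 = (1 + m) * (1 + m + 1 + 1) + 1 by ring]
    omega
  have h0 : q ^ 2 - 1 ≠ 0 := by
    have := one_lt_pow hq one_ne_zero
    rw [pow_one] at this
    omega
  have h2 : Nat.Coprime (q - 1) (q + 1) := by
    have h3 : (q - 1).gcd (q + 1) ∣ 2 := by
      have := Nat.dvd_sub (Nat.gcd_dvd_right (q - 1) (q + 1)) (Nat.gcd_dvd_left (q - 1) (q + 1))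
      rwa [show q + 1 - (q - 1) = 2 by omega] at this
    rcases (Nat.dvd_prime Nat.prime_two).1 h3 with h4 | h4
    · exact h4
    · exfalso
      have h5 : 2 ∣ q + 1 := by rw [← h4]; exact Nat.gcd_dvd_right _ _
      obtain ⟨m, hm⟩ := hqe
      omega
  have h3 : p ^ (q ^ 2 - 1).factorization p ∣ (q - 1) * (q + 1) := by
    rw [← h1]
    exact Nat.ordProj_dvd _ _
  have h4 : IsPrimePow (p ^ (q ^ 2 - 1).factorization p) := by
    refine hp.isPrimePow.pow ?_
    have := (hp.dvd_iff_one_le_factorization h0).1 hpq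
    omega
  rcases (Nat.Coprime.isPrimePow_dvd_mul h2 h4).1 h3 with h5 | h5
  · exact (Nat.le_of_dvd (by omega) h5).trans (by omega)
  · exact Nat.le_of_dvd (by omega) h5

include hp hp2 hpq hq in
/-- the `p`-part -/
theorem part_cube (hqe : Even q) {G n A N s c : ℕ} {L : List ℕ} (hL : ∀ m ∈ L, m ≠ 0) (hlen : 1 ≤ L.length)
    (hG0 : G ≠ 0) (hG : G ∣ q ^ A * (L.map fun m => (q ^ 2) ^ m - 1).prod) (hn : n * (q * (q ^ 2 - 1)) ∣ G)
    (hc : p ^ L.prod.factorization p ≤ c) (hs : c * (q + 1) ^ (L.length - 1) ≤ q ^ s) (h3s : 3 * s = 2 * N)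
    (hnN : q ^ N * q ^ N ≤ n) : (p ^ n.factorization p) ^ 3 ≤ n := by
  obtain ⟨h1, h2, h3⟩ := fac_prod hp hp2 hq hpq L hL
  have hq0 : q ^ A ≠ 0 := pow_ne_zero _ (by omega)
  have hn0 : n ≠ 0 := by
    rintro rfl
    rw [zero_mul] at hn
    exact hG0 (Nat.eq_zero_of_zero_dvd hn)
  have h0 : q ^ 2 - 1 ≠ 0 := by
    have := one_lt_pow hq one_ne_zero
    rw [pow_one] at this
    omega
  have h4 : (n * (q * (q ^ 2 - 1))).factorization p ≤ G.factorization p :=
    (Nat.factorization_le_iff_dvd (mul_ne_zero hn0 (mul_ne_zero (by omega) h0)) hG0).2 hn p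
  have h5 : G.factorization p ≤ (q ^ A * (L.map fun m => (q ^ 2) ^ m - 1).prod).factorization p :=
    (Nat.factorization_le_iff_dvd hG0 (mul_ne_zero hq0 h2)).2 hG p
  have hqf : q.factorization p = 0 := Nat.factorization_eq_zero_of_not_dvd (not_dvd hp hq hpq)
  rw [Nat.factorization_mul hn0 (mul_ne_zero (by omega) h0), Finsupp.add_apply,
    Nat.factorization_mul (by omega) h0, Finsupp.add_apply, hqf, zero_add] at h4
  rw [Nat.factorization_mul hq0 h2, Finsupp.add_apply, Nat.factorization_pow, Finsupp.smul_apply, hqf, smul_zero,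
    zero_add, h1] at h5
  obtain ⟨d, hd⟩ := Nat.exists_eq_add_of_le' hlen
  have h6 : n.factorization p ≤ d * (q ^ 2 - 1).factorization p + L.prod.factorization p := by
    rw [hd, Nat.succ_mul] at h5
    omega
  have h7 : p ^ n.factorization p ≤ q ^ s := by
    calc p ^ n.factorization p ≤ p ^ (d * (q ^ 2 - 1).factorization p + L.prod.factorization p) :=
        Nat.pow_le_pow_right hp.pos h6
      _ = p ^ L.prod.factorization p * (p ^ (q ^ 2 - 1).factorization p) ^ d := by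
        rw [pow_add, ← pow_mul, mul_comm, mul_comm d]
      _ ≤ c * (q + 1) ^ d := Nat.mul_le_mul hc (Nat.pow_le_pow_left (part_le_succ hp hp2 hq hpq hqe) d)
      _ ≤ q ^ s := by rwa [hd, Nat.add_sub_cancel] at hs
  calc (p ^ n.factorization p) ^ 3 ≤ (q ^ s) ^ 3 := Nat.pow_le_pow_left h7 3
    _ = q ^ N * q ^ N := by rw [← pow_mul, ← pow_add, mul_comm s 3, h3s, two_mul]
    _ ≤ n := hnN

end part

/-- `OrdCrit.Cond`, up to the four numbers -/
theorem cond_of {q N P d G n : ℕ} (hq : 0 < q) (hG : G < q ^ (d + (P + P))) (hd : 2 * d ≤ 5 * N)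
    (h15 : 2 ^ 15 ≤ q ^ N) (n1 : 2 ^ n.factorization 2 = q ^ N) (n2 : q ^ N * q ^ N ≤ n)
    (n3 : n * (q ^ P * q ^ P) ≤ G) (u6 : n ≠ 9196830720) (g2 : n ≠ 4329310519296) (f4 : n ≠ 3311126603366400)
    (tf : n ≠ 1318633155799591447702161609782722560000) : Cond n := by
  have hpos : ∀ m, 0 < q ^ m := fun m => Nat.pow_pos hq
  refine ⟨?_, ?_, Or.inl (by rw [n1]; exact h15), u6, g2, f4, tf⟩
  · rintro rfl
    have := Nat.mul_pos (hpos N) (hpos N)
    omega
  · have h1 : n < q ^ d := by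
      have h2 : n * (q ^ P * q ^ P) < q ^ d * (q ^ P * q ^ P) := by
        calc _ ≤ G := n3
          _ < _ := hG
          _ = _ := by rw [pow_add, pow_add]
      exact lt_of_mul_lt_mul_right h2 (Nat.zero_le _)
    rw [n1]
    calc n ^ 2 < (q ^ d) ^ 2 := Nat.pow_lt_pow_left h1 two_ne_zero
      _ = q ^ (2 * d) := by rw [← pow_mul, mul_comm]
      _ ≤ q ^ (5 * N) := Nat.pow_le_pow_right hq hd
      _ = (q ^ N) ^ 5 := by rw [← pow_mul, mul_comm]

/-- the two-part of a number excluded -/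
theorem pow_eq {k N n a : ℕ} (n1 : 2 ^ n.factorization 2 = (2 ^ k) ^ N) (hn : n ≠ 0) (h : 2 ^ a ∣ n)
    (h' : ¬ 2 ^ (a + 1) ∣ n) : k * N = a := by
  rw [fac_eq Nat.prime_two hn h h', ← pow_mul] at n1
  exact (Nat.pow_right_injective (le_refl 2) n1).symm

theorem part_le {p : ℕ} (hp : p.Prime) (hp2 : p ≠ 2) {C a b c d m : ℕ} (hC : C = 2 ^ a * 3 ^ b * 5 ^ c * 7 ^ d)
    (h3 : 3 ^ b ≤ m) (h5 : 5 ^ c ≤ m) (h7 : 7 ^ d ≤ m) : p ^ C.factorization p ≤ m := by
  have h1 : ∀ x e : ℕ, x.Prime → x ≠ p → (x ^ e).factorization p = 0 := by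
    intro x e hx hxp
    refine Nat.factorization_eq_zero_of_not_dvd fun h => hxp ?_
    exact ((Nat.prime_dvd_prime_iff_eq hp hx).1 (hp.dvd_of_dvd_pow h)).symm
  have h2 : ∀ e : ℕ, (p ^ e).factorization p = e := fun e => by rw [hp.factorization_pow, Finsupp.single_eq_same]
  have hC' : C.factorization p = (2 ^ a).factorization p + (3 ^ b).factorization p + (5 ^ c).factorization p +
      (7 ^ d).factorization p := by
    rw [hC, Nat.factorization_mul (by positivity) (by positivity), Nat.factorization_mul (by positivity) (by positivity),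
      Nat.factorization_mul (by positivity) (by positivity)]
    rfl
  rw [hC', h1 2 a Nat.prime_two (Ne.symm hp2)]
  by_cases hp3 : p = 3
  · subst hp3
    rw [h2, h1 5 c (by norm_num) (by norm_num), h1 7 d (by norm_num) (by norm_num)]
    simpa using h3
  rw [h1 3 b Nat.prime_three (Ne.symm hp3)]
  by_cases hp5 : p = 5
  · subst hp5
    rw [h2, h1 7 d (by norm_num) (by norm_num)]
    simpa using h5
  rw [h1 5 c Nat.prime_five (Ne.symm hp5)]
  by_cases hp7 : p = 7
  · subst hp7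
    rw [h2]
    simpa using h7
  rw [h1 7 d (by norm_num) (Ne.symm hp7)]
  have : 1 ≤ 3 ^ b := Nat.one_le_pow _ _ (by norm_num)
  simpa using this.trans h3

/-- `q^a - 1 < q^a` -/
theorem sub_lt {q a : ℕ} (hq : 0 < q) : q ^ a - 1 < q ^ a := by
  have := Nat.pow_pos (n := a) hq
  omega

section types

variable {p q k n G : ℕ} (hp : p.Prime) (hp2 : p ≠ 2) (hqk : q = 2 ^ k) (hk : 1 ≤ k) (hpq : p ∣ q ^ 2 - 1)

include hp hp2 hqk hpq

theorem two_le_q (hk : 1 ≤ k) : 2 ≤ q := by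
  rw [hqk]
  calc 2 = 2 ^ 1 := by norm_num
    _ ≤ 2 ^ k := Nat.pow_le_pow_right (by norm_num) hk

theorem four_le_q (hk : 2 ≤ k) : 4 ≤ q := by
  rw [hqk]
  calc 4 = 2 ^ 2 := by norm_num
    _ ≤ 2 ^ k := Nat.pow_le_pow_right (by norm_num) hk

theorem even_q (hk : 1 ≤ k) : Even q := by
  rw [hqk]
  exact (Nat.even_pow.2 ⟨even_two, by omega⟩)

theorem num_F4 (hk : 2 ≤ k) (hG : G = q ^ 24 * (q ^ 2 - 1) * (q ^ 6 - 1) * (q ^ 8 - 1) * (q ^ 12 - 1))
    (n1 : 2 ^ n.factorization 2 = q ^ 9) (n2 : q ^ 9 * q ^ 9 ≤ n)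
    (n3 : n * (q ^ 15 * q ^ 15) ≤ G) (n4 : n * (q * (q ^ 2 - 1)) ∣ G) :
    Cond n ∧ (p ^ n.factorization p) ^ 3 ≤ n := by
  have hq4 := four_le_q hp hp2 hqk hpq hk
  have hq0 : 0 < q := by omega
  have hG' : G = q ^ 24 * ([1, 3, 4, 6].map fun m => (q ^ 2) ^ m - 1).prod := by
    rw [hG]
    simp only [List.map_cons, List.map_nil, List.prod_cons, List.prod_nil, ← pow_mul]
    ring
  have hlt : G < q ^ (22 + (15 + 15)) := by
    rw [hG]
    have h1 := sub_lt (a := 2) hq0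
    have h2 := sub_lt (a := 6) hq0
    have h3 := sub_lt (a := 8) hq0
    have h4 := sub_lt (a := 12) hq0
    calc _ < q ^ 24 * q ^ 2 * q ^ 6 * q ^ 8 * q ^ 12 :=
          Nat.mul_lt_mul'' (Nat.mul_lt_mul'' (Nat.mul_lt_mul'' (Nat.mul_lt_mul_of_pos_left h1 (Nat.pow_pos hq0)) h2) h3) h4
      _ = _ := by ring
  have hG0 : G ≠ 0 := by
    rintro rfl
    have h5 : 0 < n * (q ^ 15 * q ^ 15) := by
      have : 0 < n := lt_of_lt_of_le (by positivity) n2
      (clear * - hq4 this; positivity)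
    omega
  refine ⟨cond_of hq0 hlt (by norm_num) ?_ n1 n2 n3 ?_ ?_ ?_ ?_, ?_⟩
  · calc 2 ^ 15 ≤ 4 ^ 9 := by norm_num
      _ ≤ q ^ 9 := Nat.pow_le_pow_left hq4 9
  · rintro rfl
    rw [hqk] at n1
    have := pow_eq (a := 15) n1 (by norm_num) (by norm_num) (by norm_num)
    omega
  · rintro rfl
    rw [hqk] at n1
    have h5 := pow_eq (a := 18) n1 (by norm_num) (by norm_num) (by norm_num)
    obtain rfl : k = 2 := by omega
    have h6 : 73 ∣ G := (by norm_num : 73 ∣ 4329310519296).trans ((Dvd.intro _ rfl).trans n4)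
    rw [hG, hqk] at h6
    norm_num at h6
  · rintro rfl
    rw [hqk] at n1
    have := pow_eq (a := 24) n1 (by norm_num) (by norm_num) (by norm_num)
    omega
  · rintro rfl
    rw [hqk] at n1
    have := pow_eq (a := 60) n1 (by norm_num) (by norm_num) (by norm_num)
    omega
  · refine part_cube hp hp2 (by omega) hpq (even_q hp hp2 hqk hpq (by omega)) (G := G) (A := 24) (N := 9) (s := 6)
      (c := 9) (L := [1, 3, 4, 6]) (by decide) (by decide) hG0 (dvd_of_eq hG') n4 ?_ ?_ (by norm_num) n2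
    · exact part_le hp hp2 (a := 3) (b := 2) (c := 0) (d := 0) (by norm_num) (by norm_num) (by norm_num) (by norm_num)
    · show 9 * (q + 1) ^ 3 ≤ q ^ 6
      have h1 : 4 * (q + 1) ≤ 5 * q := by omega
      have h2 := Nat.pow_le_pow_left h1 3
      have h3 := Nat.pow_le_pow_left hq4 3
      have h4 : 1125 * q ^ 3 ≤ 64 * q ^ 6 := by
        have : 1125 * q ^ 3 ≤ (64 * 4 ^ 3) * q ^ 3 := Nat.mul_le_mul_right _ (by norm_num)
        calc _ ≤ _ := this
          _ = 64 * q ^ 3 * 4 ^ 3 := by ring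
          _ ≤ 64 * q ^ 3 * q ^ 3 := Nat.mul_le_mul_left _ h3
          _ = _ := by ring
      have h5 : 64 * (9 * (q + 1) ^ 3) ≤ 64 * q ^ 6 := by
        calc _ = 9 * (4 * (q + 1)) ^ 3 := by ring
          _ ≤ 9 * (5 * q) ^ 3 := Nat.mul_le_mul_left _ h2
          _ = 1125 * q ^ 3 := by ring
          _ ≤ _ := h4
      omega

/-- `E₆` and `²E₆`: the common part -/
theorem num_E6_aux (hk : 1 ≤ k) {Q : ℕ} (hG0 : G ≠ 0)
    (hG : Q * G = q ^ 36 * ([1, 5, 3, 4, 9, 6].map fun m => (q ^ 2) ^ m - 1).prod) (hlt : G < q ^ (36 + (21 + 21)))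
    (hu : k ≠ 1 ∨ ¬ 3 ^ 7 ∣ G) (n1 : 2 ^ n.factorization 2 = q ^ 15) (n2 : q ^ 15 * q ^ 15 ≤ n)
    (n3 : n * (q ^ 21 * q ^ 21) ≤ G) (n4 : n * (q * (q ^ 2 - 1)) ∣ G) :
    Cond n ∧ (p ^ n.factorization p) ^ 3 ≤ n := by
  have hq2 := two_le_q hp hp2 hqk hpq hk
  have hq0 : 0 < q := by omega
  have hdvd : G ∣ q ^ 36 * ([1, 5, 3, 4, 9, 6].map fun m => (q ^ 2) ^ m - 1).prod := Dvd.intro_left _ hG
  have hn0 : n ≠ 0 := by
    rintro rfl
    have := Nat.pow_pos (n := 15) hq0
    have := Nat.mul_pos this this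
    omega
  refine ⟨cond_of hq0 hlt (by norm_num) ?_ n1 n2 n3 ?_ ?_ ?_ ?_, ?_⟩
  · exact Nat.pow_le_pow_left hq2 15
  · rintro rfl
    rw [hqk] at n1
    have h5 := pow_eq (a := 15) n1 (by norm_num) (by norm_num) (by norm_num)
    obtain rfl : k = 1 := by omega
    rcases hu with h | h
    · exact h rfl
    · apply h
      refine Dvd.dvd.trans ?_ n4
      rw [hqk]
      norm_num
  · rintro rfl
    rw [hqk] at n1
    have h5 := pow_eq (a := 18) n1 (by norm_num) (by norm_num) (by norm_num)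
    omega
  · rintro rfl
    rw [hqk] at n1
    have := pow_eq (a := 24) n1 (by norm_num) (by norm_num) (by norm_num)
    omega
  · rintro rfl
    rw [hqk] at n1
    have h5 := pow_eq (a := 60) n1 (by norm_num) (by norm_num) (by norm_num)
    obtain rfl : k = 4 := by omega
    have h6 : 331 ∣ G :=
      (by norm_num : 331 ∣ 1318633155799591447702161609782722560000).trans ((Dvd.intro _ rfl).trans n4)
    have h7 := h6.trans hdvd
    rw [hqk] at h7
    simp only [List.map_cons, List.map_nil, List.prod_cons, List.prod_nil] at h7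
    norm_num at h7
  · by_cases hk1 : k = 1
    · -- `q = 2`
      subst hk1
      rw [pow_one] at hqk
      subst hqk
      have hp3 : p = 3 := by
        norm_num at hpq
        exact (Nat.prime_dvd_prime_iff_eq hp Nat.prime_three).1 hpq
      subst hp3
      rcases hu with h | h
      · exact absurd rfl h
      · have h1 : n.factorization 3 ≤ 5 := by
          by_contra hcon
          apply h
          have h2 : 3 ^ 6 ∣ n := (Nat.prime_three.pow_dvd_iff_le_factorization hn0).2 (by omega)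
          refine Dvd.dvd.trans ?_ n4
          have h3 : 3 ^ 6 * (2 * (2 ^ 2 - 1)) ∣ n * (2 * (2 ^ 2 - 1)) := Nat.mul_dvd_mul_right h2 _
          exact Dvd.dvd.trans (by norm_num) h3
        calc (3 ^ n.factorization 3) ^ 3 ≤ (3 ^ 5) ^ 3 :=
            Nat.pow_le_pow_left (Nat.pow_le_pow_right (by norm_num) h1) 3
          _ ≤ 2 ^ 15 * 2 ^ 15 := by norm_num
          _ ≤ n := n2
    · have hq4 := four_le_q hp hp2 hqk hpq (by omega)
      refine part_cube hp hp2 (by omega) hpq (even_q hp hp2 hqk hpq (by omega)) (G := G) (A := 36) (N := 15) (s := 10)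
        (c := 81) (L := [1, 5, 3, 4, 9, 6]) (by decide) (by decide) hG0 hdvd n4 ?_ ?_ (by norm_num) n2
      · exact part_le hp hp2 (a := 3) (b := 4) (c := 1) (d := 0) (by norm_num) (by norm_num) (by norm_num) (by norm_num)
      · show 81 * (q + 1) ^ 5 ≤ q ^ 10
        have h1 : 4 * (q + 1) ≤ 5 * q := by omega
        have h2 := Nat.pow_le_pow_left h1 5
        have h3 := Nat.pow_le_pow_left hq4 5
        have h5 : 1024 * (81 * (q + 1) ^ 5) ≤ 1024 * q ^ 10 := by
          calc _ = 81 * (4 * (q + 1)) ^ 5 := by ring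
            _ ≤ 81 * (5 * q) ^ 5 := Nat.mul_le_mul_left _ h2
            _ = 253125 * q ^ 5 := by ring
            _ ≤ (1024 * 4 ^ 5) * q ^ 5 := Nat.mul_le_mul_right _ (by norm_num)
            _ = 1024 * q ^ 5 * 4 ^ 5 := by ring
            _ ≤ 1024 * q ^ 5 * q ^ 5 := Nat.mul_le_mul_left _ h3
            _ = _ := by ring
        omega

theorem ne_zero_of (hk : 1 ≤ k) {N P : ℕ} (n2 : q ^ N * q ^ N ≤ n) (n3 : n * (q ^ P * q ^ P) ≤ G) : G ≠ 0 := by
  have hq2 := two_le_q hp hp2 hqk hpq hk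
  rintro rfl
  have h5 : 0 < n * (q ^ P * q ^ P) := by
    have : 0 < n := lt_of_lt_of_le (by positivity) n2
    positivity
  omega

omit hp hp2 hqk hpq in
theorem mul_sub (q a : ℕ) : (q ^ a - 1) * (q ^ a + 1) = (q ^ (2 * a) - 1) := by
  have h := Nat.sq_sub_sq (q ^ a) 1
  rw [one_pow, ← pow_mul, mul_comm a 2] at h
  rw [h, mul_comm]

theorem num_E6 (hk : 1 ≤ k) (hG : Nat.gcd 3 (q - 1) * G = q ^ 36 * (q ^ 2 - 1) * (q ^ 5 - 1) * (q ^ 6 - 1) *
      (q ^ 8 - 1) * (q ^ 9 - 1) * (q ^ 12 - 1))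
    (n1 : 2 ^ n.factorization 2 = q ^ 15) (n2 : q ^ 15 * q ^ 15 ≤ n)
    (n3 : n * (q ^ 21 * q ^ 21) ≤ G) (n4 : n * (q * (q ^ 2 - 1)) ∣ G) :
    Cond n ∧ (p ^ n.factorization p) ^ 3 ≤ n := by
  have hq2 := two_le_q hp hp2 hqk hpq hk
  have hq0 : 0 < q := by omega
  have hgcd : 1 ≤ Nat.gcd 3 (q - 1) := Nat.gcd_pos_of_pos_left _ (by norm_num)
  refine num_E6_aux hp hp2 hqk hpq hk (Q := ((q ^ 5 + 1) * (q ^ 9 + 1)) * Nat.gcd 3 (q - 1))
    (ne_zero_of hp hp2 hqk hpq hk n2 n3) ?_ ?_ ?_ n1 n2 n3 n4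
  · rw [mul_assoc, hG]
    simp only [List.map_cons, List.map_nil, List.prod_cons, List.prod_nil, ← pow_mul]
    rw [show 2 * 5 = 2 * 5 by rfl, ← mul_sub q 5, ← mul_sub q 9]
    ring
  · refine lt_of_le_of_lt (Nat.le_mul_of_pos_left G hgcd) ?_
    rw [hG]
    have h1 := sub_lt (a := 2) hq0
    have h2 := sub_lt (a := 5) hq0
    have h3 := sub_lt (a := 6) hq0
    have h4 := sub_lt (a := 8) hq0
    have h5 := sub_lt (a := 9) hq0
    have h6 := sub_lt (a := 12) hq0
    calc _ < q ^ 36 * q ^ 2 * q ^ 5 * q ^ 6 * q ^ 8 * q ^ 9 * q ^ 12 :=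
          Nat.mul_lt_mul'' (Nat.mul_lt_mul'' (Nat.mul_lt_mul'' (Nat.mul_lt_mul'' (Nat.mul_lt_mul'' (Nat.mul_lt_mul_of_pos_left h1 (Nat.pow_pos hq0)) h2) h3) h4) h5) h6
      _ = _ := by ring
  · by_cases hk1 : k = 1
    · right
      subst hk1
      rw [pow_one] at hqk
      subst hqk
      intro h
      have h1 := h.mul_left (Nat.gcd 3 (2 - 1))
      rw [hG] at h1
      norm_num at h1
    · exact Or.inl hk1

theorem num_TwE6 (hk : 2 ≤ k) (hG : Nat.gcd 3 (q + 1) * G = q ^ 36 * (q ^ 2 - 1) * (q ^ 5 + 1) * (q ^ 6 - 1) *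
      (q ^ 8 - 1) * (q ^ 9 + 1) * (q ^ 12 - 1))
    (n1 : 2 ^ n.factorization 2 = q ^ 15) (n2 : q ^ 15 * q ^ 15 ≤ n)
    (n3 : n * (q ^ 21 * q ^ 21) ≤ G) (n4 : n * (q * (q ^ 2 - 1)) ∣ G) :
    Cond n ∧ (p ^ n.factorization p) ^ 3 ≤ n := by
  have hq2 := two_le_q hp hp2 hqk hpq (by omega)
  have hq0 : 0 < q := by omega
  have hgcd : 1 ≤ Nat.gcd 3 (q + 1) := Nat.gcd_pos_of_pos_left _ (by norm_num)
  refine num_E6_aux hp hp2 hqk hpq (by omega) (Q := ((q ^ 5 - 1) * (q ^ 9 - 1)) * Nat.gcd 3 (q + 1))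
    (ne_zero_of hp hp2 hqk hpq (by omega) n2 n3) ?_ ?_ (Or.inl (by omega)) n1 n2 n3 n4
  · rw [mul_assoc, hG]
    simp only [List.map_cons, List.map_nil, List.prod_cons, List.prod_nil, ← pow_mul]
    rw [show 2 * 5 = 2 * 5 by rfl, ← mul_sub q 5, ← mul_sub q 9]
    ring
  · refine lt_of_le_of_lt (Nat.le_mul_of_pos_left G hgcd) ?_
    rw [hG]
    have h1 : (q ^ 2 - 1) * (q ^ 5 + 1) ≤ q ^ 7 := by
      have e1 : q ^ 2 ≤ q ^ 5 := Nat.pow_le_pow_right hq0 (by norm_num)
      calc (q ^ 2 - 1) * (q ^ 5 + 1) = q ^ 2 * q ^ 5 + q ^ 2 - (q ^ 5 + 1) := by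
            rw [Nat.sub_mul, one_mul, mul_add, mul_one]
        _ ≤ q ^ 2 * q ^ 5 := by omega
        _ = _ := by ring
    have h2 : (q ^ 8 - 1) * (q ^ 9 + 1) ≤ q ^ 17 := by
      have e1 : q ^ 8 ≤ q ^ 9 := Nat.pow_le_pow_right hq0 (by norm_num)
      calc (q ^ 8 - 1) * (q ^ 9 + 1) = q ^ 8 * q ^ 9 + q ^ 8 - (q ^ 9 + 1) := by
            rw [Nat.sub_mul, one_mul, mul_add, mul_one]
        _ ≤ q ^ 8 * q ^ 9 := by omega
        _ = _ := by ring
    have h3 := sub_lt (a := 6) hq0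
    have h4 := sub_lt (a := 12) hq0
    calc _ = q ^ 36 * ((q ^ 2 - 1) * (q ^ 5 + 1)) * (q ^ 6 - 1) * ((q ^ 8 - 1) * (q ^ 9 + 1)) * (q ^ 12 - 1) := by ring
      _ ≤ q ^ 36 * q ^ 7 * q ^ 6 * q ^ 17 * (q ^ 12 - 1) :=
          Nat.mul_le_mul_right _ (Nat.mul_le_mul (Nat.mul_le_mul (Nat.mul_le_mul_left _ h1) h3.le) h2)
      _ < q ^ 36 * q ^ 7 * q ^ 6 * q ^ 17 * q ^ 12 := Nat.mul_lt_mul_of_pos_left h4
          (Nat.mul_pos (Nat.mul_pos (Nat.mul_pos (Nat.pow_pos hq0) (Nat.pow_pos hq0)) (Nat.pow_pos hq0)) (Nat.pow_pos hq0))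
      _ = _ := by ring

theorem num_E7 (hk : 1 ≤ k) (hG : Nat.gcd 2 (q - 1) * G = q ^ 63 * (q ^ 2 - 1) * (q ^ 6 - 1) * (q ^ 8 - 1) *
      (q ^ 10 - 1) * (q ^ 12 - 1) * (q ^ 14 - 1) * (q ^ 18 - 1))
    (n1 : 2 ^ n.factorization 2 = q ^ 30) (n2 : q ^ 30 * q ^ 30 ≤ n)
    (n3 : n * (q ^ 33 * q ^ 33) ≤ G) (n4 : n * (q * (q ^ 2 - 1)) ∣ G) :
    Cond n ∧ (p ^ n.factorization p) ^ 3 ≤ n := by
  have hq2 := two_le_q hp hp2 hqk hpq hk
  have hq0 : 0 < q := by omega
  have hG0 := ne_zero_of hp hp2 hqk hpq hk n2 n3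
  have hG' : Nat.gcd 2 (q - 1) * G = q ^ 63 * ([1, 3, 4, 5, 6, 7, 9].map fun m => (q ^ 2) ^ m - 1).prod := by
    rw [hG]
    simp only [List.map_cons, List.map_nil, List.prod_cons, List.prod_nil, ← pow_mul]
    ring
  have hdvd : G ∣ q ^ 63 * ([1, 3, 4, 5, 6, 7, 9].map fun m => (q ^ 2) ^ m - 1).prod := Dvd.intro_left _ hG'
  have hgcd : 1 ≤ Nat.gcd 2 (q - 1) := Nat.gcd_pos_of_pos_left _ (by norm_num)
  have hlt : G < q ^ (67 + (33 + 33)) := by
    refine lt_of_le_of_lt (Nat.le_mul_of_pos_left G hgcd) ?_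
    rw [hG]
    have h1 := sub_lt (a := 2) hq0
    have h2 := sub_lt (a := 6) hq0
    have h3 := sub_lt (a := 8) hq0
    have h4 := sub_lt (a := 10) hq0
    have h5 := sub_lt (a := 12) hq0
    have h6 := sub_lt (a := 14) hq0
    have h7 := sub_lt (a := 18) hq0
    calc _ < q ^ 63 * q ^ 2 * q ^ 6 * q ^ 8 * q ^ 10 * q ^ 12 * q ^ 14 * q ^ 18 :=
          Nat.mul_lt_mul'' (Nat.mul_lt_mul'' (Nat.mul_lt_mul'' (Nat.mul_lt_mul'' (Nat.mul_lt_mul'' (Nat.mul_lt_mul'' (Nat.mul_lt_mul_of_pos_left h1 (Nat.pow_pos hq0)) h2) h3) h4) h5) h6) h7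
      _ = _ := by ring
  refine ⟨cond_of hq0 hlt (by norm_num) ?_ n1 n2 n3 ?_ ?_ ?_ ?_, ?_⟩
  · calc 2 ^ 15 ≤ 2 ^ 30 := by norm_num
      _ ≤ _ := Nat.pow_le_pow_left hq2 30
  · rintro rfl
    rw [hqk] at n1
    have h5 := pow_eq (a := 15) n1 (by norm_num) (by norm_num) (by norm_num)
    omega
  · rintro rfl
    rw [hqk] at n1
    have h5 := pow_eq (a := 18) n1 (by norm_num) (by norm_num) (by norm_num)
    omega
  · rintro rfl
    rw [hqk] at n1
    have := pow_eq (a := 24) n1 (by norm_num) (by norm_num) (by norm_num)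
    omega
  · rintro rfl
    rw [hqk] at n1
    have h5 := pow_eq (a := 60) n1 (by norm_num) (by norm_num) (by norm_num)
    obtain rfl : k = 2 := by omega
    have h6 : 331 ∣ G :=
      (by norm_num : 331 ∣ 1318633155799591447702161609782722560000).trans ((Dvd.intro _ rfl).trans n4)
    have h7 := h6.trans hdvd
    rw [hqk] at h7
    simp only [List.map_cons, List.map_nil, List.prod_cons, List.prod_nil] at h7
    norm_num at h7
  · refine part_cube hp hp2 (by omega) hpq (even_q hp hp2 hqk hpq (by omega)) (G := G) (A := 63) (N := 30) (s := 20)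
      (c := 81) (L := [1, 3, 4, 5, 6, 7, 9]) (by decide) (by decide) hG0 hdvd n4 ?_ ?_ (by norm_num) n2
    · exact part_le hp hp2 (a := 3) (b := 4) (c := 1) (d := 1) (by norm_num) (by norm_num) (by norm_num) (by norm_num)
    · show 81 * (q + 1) ^ 6 ≤ q ^ 20
      have h1 : 2 * (q + 1) ≤ 3 * q := by omega
      have h2 := Nat.pow_le_pow_left h1 6
      have h3 := Nat.pow_le_pow_left hq2 14
      have h5 : 64 * (81 * (q + 1) ^ 6) ≤ 64 * q ^ 20 := by
        calc _ = 81 * (2 * (q + 1)) ^ 6 := by ring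
          _ ≤ 81 * (3 * q) ^ 6 := Nat.mul_le_mul_left _ h2
          _ = 59049 * q ^ 6 := by ring
          _ ≤ (64 * 2 ^ 14) * q ^ 6 := Nat.mul_le_mul_right _ (by norm_num)
          _ = 64 * q ^ 6 * 2 ^ 14 := by ring
          _ ≤ 64 * q ^ 6 * q ^ 14 := Nat.mul_le_mul_left _ h3
          _ = _ := by ring
      omega

theorem num_E8 (hk : 1 ≤ k) (hG : G = q ^ 120 * (q ^ 2 - 1) * (q ^ 8 - 1) * (q ^ 12 - 1) * (q ^ 14 - 1) *
      (q ^ 18 - 1) * (q ^ 20 - 1) * (q ^ 24 - 1) * (q ^ 30 - 1))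
    (n1 : 2 ^ n.factorization 2 = q ^ 63) (n2 : q ^ 63 * q ^ 63 ≤ n)
    (n3 : n * (q ^ 57 * q ^ 57) ≤ G) (n4 : n * (q * (q ^ 2 - 1)) ∣ G) :
    Cond n ∧ (p ^ n.factorization p) ^ 3 ≤ n := by
  have hq2 := two_le_q hp hp2 hqk hpq hk
  have hq0 : 0 < q := by omega
  have hG0 := ne_zero_of hp hp2 hqk hpq hk n2 n3
  have hG' : G = q ^ 120 * ([1, 4, 6, 7, 9, 10, 12, 15].map fun m => (q ^ 2) ^ m - 1).prod := by
    rw [hG]
    simp only [List.map_cons, List.map_nil, List.prod_cons, List.prod_nil, ← pow_mul]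
    ring
  have hlt : G < q ^ (134 + (57 + 57)) := by
    rw [hG]
    have h1 := sub_lt (a := 2) hq0
    have h2 := sub_lt (a := 8) hq0
    have h3 := sub_lt (a := 12) hq0
    have h4 := sub_lt (a := 14) hq0
    have h5 := sub_lt (a := 18) hq0
    have h6 := sub_lt (a := 20) hq0
    have h7 := sub_lt (a := 24) hq0
    have h8 := sub_lt (a := 30) hq0
    calc _ < q ^ 120 * q ^ 2 * q ^ 8 * q ^ 12 * q ^ 14 * q ^ 18 * q ^ 20 * q ^ 24 * q ^ 30 :=
          Nat.mul_lt_mul'' (Nat.mul_lt_mul'' (Nat.mul_lt_mul'' (Nat.mul_lt_mul'' (Nat.mul_lt_mul'' (Nat.mul_lt_mul'' (Nat.mul_lt_mul'' (Nat.mul_lt_mul_of_pos_left h1 (Nat.pow_pos hq0)) h2) h3) h4) h5) h6) h7) h8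
      _ = _ := by ring
  refine ⟨cond_of hq0 hlt (by norm_num) ?_ n1 n2 n3 ?_ ?_ ?_ ?_, ?_⟩
  · calc 2 ^ 15 ≤ 2 ^ 63 := by norm_num
      _ ≤ _ := Nat.pow_le_pow_left hq2 63
  · rintro rfl
    rw [hqk] at n1
    have h5 := pow_eq (a := 15) n1 (by norm_num) (by norm_num) (by norm_num)
    omega
  · rintro rfl
    rw [hqk] at n1
    have h5 := pow_eq (a := 18) n1 (by norm_num) (by norm_num) (by norm_num)
    omega
  · rintro rfl
    rw [hqk] at n1
    have := pow_eq (a := 24) n1 (by norm_num) (by norm_num) (by norm_num)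
    omega
  · rintro rfl
    rw [hqk] at n1
    have h5 := pow_eq (a := 60) n1 (by norm_num) (by norm_num) (by norm_num)
    omega
  · refine part_cube hp hp2 (by omega) hpq (even_q hp hp2 hqk hpq (by omega)) (G := G) (A := 120) (N := 63) (s := 42)
      (c := 243) (L := [1, 4, 6, 7, 9, 10, 12, 15]) (by decide) (by decide) hG0 (dvd_of_eq hG') n4 ?_ ?_ (by norm_num) n2
    · exact part_le hp hp2 (a := 6) (b := 5) (c := 2) (d := 1) (by norm_num) (by norm_num) (by norm_num) (by norm_num)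
    · show 243 * (q + 1) ^ 7 ≤ q ^ 42
      have h1 : 2 * (q + 1) ≤ 3 * q := by omega
      have h2 := Nat.pow_le_pow_left h1 7
      have h3 := Nat.pow_le_pow_left hq2 35
      have h5 : 128 * (243 * (q + 1) ^ 7) ≤ 128 * q ^ 42 := by
        calc _ = 243 * (2 * (q + 1)) ^ 7 := by ring
          _ ≤ 243 * (3 * q) ^ 7 := Nat.mul_le_mul_left _ h2
          _ = 531441 * q ^ 7 := by ring
          _ ≤ (128 * 2 ^ 35) * q ^ 7 := Nat.mul_le_mul_right _ (by norm_num)
          _ = 128 * q ^ 7 * 2 ^ 35 := by ring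
          _ ≤ 128 * q ^ 7 * q ^ 35 := Nat.mul_le_mul_left _ h3
          _ = _ := by ring
      omega

end types

end Cfsg.Agent.GpExc.Num

end

-- merged: Cfsg.Agent.GpExc.Row
section

/-!
# The rows `f4`, `e6`, `e7`, `e8` of `NotCTRows` (helper75)
-/

set_option autoImplicit false

namespace Cfsg.Agent.GpExc.Row

open Cfsg Cfsg.Lie Cfsg.Agent.SigTab Cfsg.Agent.OrdCrit Cfsg.Agent.GpExc.Chev Cfsg.Agent.GpExc.Num
open Cfsg.Agent.PRankPar.Inst

universe u

/-- a finite field of even order has characteristic two -/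
theorem field_even {F : Type*} [Field F] [Fintype F] (he : Even (Fintype.card F)) :
    (2 : F) = 0 ∧ ∃ k, 1 ≤ k ∧ Fintype.card F = 2 ^ k := by
  obtain ⟨p, _, k, hp, hk⟩ := FiniteField.card' F
  have h1 : p = 2 := by
    have h2 : 2 ∣ Fintype.card F := he.two_dvd
    rw [hk] at h2
    exact ((Nat.prime_dvd_prime_iff_eq Nat.prime_two hp).1 (Nat.prime_two.dvd_of_dvd_pow h2)).symm
  subst h1
  refine ⟨?_, k, k.pos, hk⟩
  have h3 : ((2 : ℕ) : F) = 0 := CharP.cast_eq_zero F 2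
  exact_mod_cast h3

/-- the group theoretic combination -/
theorem not_lpoAll (S : SporOrders.{u}) {G : Type u} [Group G] [Finite G] {H : Type} [Group H] (e : G ≃* H)
    {p q N P : ℕ} (hp : p.Prime) (hp2 : p ≠ 2) (h : Out H p q N P)
    (hno : ∀ n : ℕ, 2 ^ n.factorization 2 = q ^ N → q ^ N * q ^ N ≤ n → n * (q ^ P * q ^ P) ≤ Nat.card H →
      n * (q * (q ^ 2 - 1)) ∣ Nat.card H → Cond n ∧ (p ^ n.factorization p) ^ 3 ≤ n) :
    ¬ LpoAll p G (InCT p) := by
  refine Out.not_lpoAll e hp hp2 h fun n h1 h2 h3 h4 K _ _ _ hn hr => ?_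
  obtain ⟨h5, h6⟩ := hno n h1 h2 h3 h4
  subst hn
  exact notCT_of_order S hp hp2 h5 h6 hr

section

variable (S : SporOrders.{u})

include S

theorem f4 : NotCT.{u} (fun X _ => FFourEven (fun q => 2 < q) X) := by
  rintro G _ _ ⟨F, _, _, he, hq2, ⟨e⟩⟩ p hp
  obtain ⟨h2, k, hk, hqk⟩ := field_even he
  have : CharP F 2 := CharTwo.of_one_ne_zero_of_two_eq_zero one_ne_zero h2
  have hpq := sigma_dvd_F4 F e hp
  rw [Nat.card_eq_fintype_card] at hpq
  have hk2 : 2 ≤ k := by
    by_contra hcon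
    obtain rfl : k = 1 := by omega
    omega
  refine not_lpoAll S e hp.1 hp.2.1 (out_F4 h2 hp.1 hp.2.1 rfl hpq hq2) fun n n1 n2 n3 n4 => ?_
  exact num_F4 hp.1 hp.2.1 hqk hpq hk2 (S1062.result rfl) n1 n2 n3 n4

theorem e6 : NotCT.{u} (fun X _ => ESixEven X) := by
  rintro G _ _ ⟨F, _, _, he, ⟨e⟩⟩ p hp
  obtain ⟨h2, k, hk, hqk⟩ := field_even he
  have : CharP F 2 := CharTwo.of_one_ne_zero_of_two_eq_zero one_ne_zero h2
  have hpq := sigma_dvd_E6 F e hp
  rw [Nat.card_eq_fintype_card] at hpq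
  refine not_lpoAll S e hp.1 hp.2.1 (out_E6 h2 hp.1 hp.2.1 rfl hpq) fun n n1 n2 n3 n4 => ?_
  exact num_E6 hp.1 hp.2.1 hqk hpq hk (S1063.result rfl) n1 n2 n3 n4

theorem e7 : NotCT.{u} (fun X _ => ESevenEven X) := by
  rintro G _ _ ⟨F, _, _, he, ⟨e⟩⟩ p hp
  obtain ⟨h2, k, hk, hqk⟩ := field_even he
  have : CharP F 2 := CharTwo.of_one_ne_zero_of_two_eq_zero one_ne_zero h2
  have hpq := sigma_dvd_E7 F e hp
  rw [Nat.card_eq_fintype_card] at hpq
  refine not_lpoAll S e hp.1 hp.2.1 (out_E7 h2 hp.1 hp.2.1 rfl hpq) fun n n1 n2 n3 n4 => ?_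
  exact num_E7 hp.1 hp.2.1 hqk hpq hk (S1064.result rfl) n1 n2 n3 n4

theorem e8 : NotCT.{u} (fun X _ => EEightEven X) := by
  rintro G _ _ ⟨F, _, _, he, ⟨e⟩⟩ p hp
  obtain ⟨h2, k, hk, hqk⟩ := field_even he
  have : CharP F 2 := CharTwo.of_one_ne_zero_of_two_eq_zero one_ne_zero h2
  have hpq := sigma_dvd_E8 F e hp
  rw [Nat.card_eq_fintype_card] at hpq
  refine not_lpoAll S e hp.1 hp.2.1 (out_E8 h2 hp.1 hp.2.1 rfl hpq) fun n n1 n2 n3 n4 => ?_
  exact num_E8 hp.1 hp.2.1 hqk hpq hk (S1065.result rfl) n1 n2 n3 n4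

end

end Cfsg.Agent.GpExc.Row

end

-- merged: Cfsg.Agent.GpExc.TwOut
section

/-!
# `Out` for `²E₆(q)`, `q` even, `q > 2` (helper75)
-/

set_option autoImplicit false
set_option linter.unusedSectionVars false

namespace Cfsg.Agent.GpExc.TwOut

open CoxeterSystem Subgroup
open Cfsg Cfsg.Lie Cfsg.Lie.ChevalleyDatum
open Cfsg.Agent.ChevalleyStructure Cfsg.Agent.ChevalleyStructure.Elts Cfsg.Agent.ChevalleyStructure.CoxeterGeom
  Cfsg.Agent.ChevalleyStructure.SL2Hom Cfsg.Agent.ChevalleyStructure.SL2Rep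
open Cfsg.Agent.Tits.Roots Cfsg.Agent.Nodes.Reps Cfsg.Agent.Nodes.BNOf Cfsg.Agent.Nodes.RGDChev
  Cfsg.Agent.Nodes.Bruhat Cfsg.Agent.Nodes.RGDFold Cfsg.Agent.Nodes.SubComb Cfsg.Agent.Nodes.Sub
open Cfsg.Agent.KFacts.RgdChevCoord (TT XX nc)
open Cfsg.Agent.KFacts.ChevTwo (Sys hel)
open Cfsg.Agent.KFacts.ChevTwoInst (eg sys TwoOK coe_eg coe_hel hG_eq ev_vec twoOK_E6)
open Cfsg.Agent.GenExc Cfsg.Agent.GpExc.Wit
open Cfsg.Agent.Nodes.RGDTwE6 (J A foldData X nn isCartan)
open Cfsg.Agent.ETable.Exc (SO)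

universe u

/-- the inclusion of the Levi nodes -/
def fT : Fin 3 ↪ Fin 4 := ⟨![1, 2, 3], by decide⟩

/-- the orthogonal fixed roots -/
def βT : Fin 4 → ℕ := ![71, 39, 44, 60]

theorem lt_T : ∀ i, βT i < chevE6.nroots := by decide +kernel
theorem lt_T' : ∀ i, chevE6.neg (βT i) < chevE6.nroots := by decide +kernel
theorem so_T : ∀ i j, i ≠ j → SO chevE6 (βT i) (βT j) := by decide +kernel
theorem rho_T : ∀ i, TwistedE6Sigma.rho (βT i) = βT i ∧
    TwistedE6Sigma.rho (chevE6.neg (βT i)) = chevE6.neg (βT i) := by decide +kernel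
theorem zero_T : ∀ i, i ≠ 0 → V chevE6 J (βT i) 0 = 0 ∧ V chevE6 J (chevE6.neg (βT i)) 0 = 0 := by decide +kernel
theorem fT_zero : ∀ i, i = 0 ↔ ∀ a, fT a ≠ i := by decide


section

variable {K : Type} [Field K] [Fintype K] {q : ℕ} {φ : K →+* K} (hφ : ∀ x, φ x = x ^ q)
  (hqq : ∀ t : K, (t ^ q) ^ q = t)

/-- the fixed field -/
def F0 (φ : K →+* K) : Subfield K := φ.eqLocusField (RingHom.id K)

theorem mem_F0 (t : K) : t ∈ F0 φ ↔ φ t = t := Iff.rfl

include hφ in
theorem mem_F0' (t : K) : t ∈ F0 φ ↔ t ^ q = t := by rw [mem_F0, hφ]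

include hφ in
theorem card_F0 [Fintype ↥(F0 φ)] (hq : 1 < q) (hK : Fintype.card K = q ^ 2) : Fintype.card ↥(F0 φ) = q := by
  rw [← Nat.card_eq_fintype_card, ← FixedCard.card_fixed hq hK]
  exact Nat.card_congr (Equiv.subtypeEquivRight fun t => mem_F0' hφ t)

include hφ in
/-- the root elements of the fixed roots -/
theorem xG_mem {r : ℕ} (hr : r < chevE6.nroots) (hr' : TwistedE6Sigma.rho r = r) {t : K} (ht : t ^ q = t) :
    xG TwE6Basic.hE6 r t ∈ twistedE6 K q :=
  ETable.Exc.X_mem (by rw [← hφ, map_neg, map_one]) hr hr' ht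

variable {W W' : Type*} [Group W] [Group W'] (cs : CoxeterSystem CoxeterMatrix.E₆ W)
  (cs' : CoxeterSystem CoxeterMatrix.F₄ W')

theorem isRoot_V {k : ℕ} (hk : k < chevE6.nroots) : IsRoot cs' isCartan (V chevE6 J k) :=
  (foldData.isRoot_iff (cs := cs') (h := isCartan) Nodes.RGDTwE6.hp.checked
    (fun i _ hr => wp_lt Nodes.RGDTwE6.hp (J i) hr) _).2 ⟨k, hk, rfl⟩

theorem exists_V {z : Fin 4 → ℤ} (hz : IsRoot cs' isCartan z) : ∃ k < chevE6.nroots, V chevE6 J k = z :=
  (foldData.isRoot_iff (cs := cs') (h := isCartan) Nodes.RGDTwE6.hp.checked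
    (fun i _ hr => wp_lt Nodes.RGDTwE6.hp (J i) hr) _).1 hz

include hφ hqq in
theorem xG_mem_X {r : ℕ} (hr : r < chevE6.nroots) {t : K} (h : xG TwE6Basic.hE6 r t ∈ twistedE6 K q) :
    (⟨xG TwE6Basic.hE6 r t, h⟩ : ↥(twistedE6 K q)) ∈ X φ q (V chevE6 J r) := by
  unfold X
  rw [Subgroup.mem_subgroupOf]
  refine ⟨?_, TwE6Basic.twisted_le_fix φ hφ hqq h⟩
  exact TwistedU.mem_rspan (xG Nodes.RGDTwE6.hp.inList) (S := {k | k < chevE6.nroots ∧ V chevE6 J k = V chevE6 J r})
    ⟨hr, rfl⟩ t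

/-- nodes of the Levi subgroup -/
theorem sr_T (j : Fin 3) : sr (fT j) ∈ LR cs' isCartan fT := sr_mem_LR (cs := cs') (h := isCartan) fT j

theorem X_le_HL' (j : Fin 3) : X φ q (sr (fT j)) ≤ HL cs' isCartan (X φ q) fT ∧
    X φ q (-sr (fT j)) ≤ HL cs' isCartan (X φ q) fT :=
  ⟨X_le_HL fT (sr_T cs' j), X_le_HL fT (LR_neg fT (sr_T cs' j))⟩

include hφ hqq in
/-- the rank one subgroups of the Levi subgroup -/
theorem node (hF : ∀ t : K, t ^ q = t → ∃ s : ↥(F0 φ), (F0 φ).subtype s = t) (j : Fin 3) (h2 : (2 : K) = 0)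
    {c : K} (hc : c ≠ 0) (hc2 : c ^ 2 ≠ 1) (hcq : c ^ q = c) {L : Subgroup ↥(twistedE6 K q)}
    (h3 : X φ q (sr (fT j)) ≤ L) (h4 : X φ q (-sr (fT j)) ≤ L) :
    _root_.Cfsg.Agent.Nodes.RGDTwE6.nn hφ (fT j) ∈ L ∧ X φ q (sr (fT j)) ≤ ⁅L, L⁆ := by
  have hF2 : (2 : ↥(F0 φ)) = 0 := Subtype.ext h2
  fin_cases j
  · have N := TwNode.nodeSingle hφ hqq (F0 φ).subtype (fun s => (mem_F0' hφ _).1 s.2) hF
      TwE6BN.single1 (by decide +kernel : (39 : ℕ) < chevE6.nroots)
    refine ⟨N.n_mem hφ h3 h4, N.perf hφ h3 h4 hF2 (c := ⟨c, (mem_F0' hφ c).2 hcq⟩) ?_ ?_⟩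
    · intro h5
      exact hc (congrArg Subtype.val h5)
    · intro h5
      exact hc2 (congrArg Subtype.val h5)
  · have N := TwNode.nodePair hφ hqq TwE6BN.pair2 (by decide +kernel : (42 : ℕ) < chevE6.nroots)
      (by decide +kernel : (37 : ℕ) < chevE6.nroots) TwNode.so2
    exact ⟨N.n_mem hφ h3 h4, N.perf hφ h3 h4 h2 hc hc2⟩
  · have N := TwNode.nodePair hφ hqq TwE6BN.pair3 (by decide +kernel : (56 : ℕ) < chevE6.nroots)
      (by decide +kernel : (36 : ℕ) < chevE6.nroots) TwNode.so3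
    exact ⟨N.n_mem hφ h3 h4, N.perf hφ h3 h4 h2 hc hc2⟩

theorem mem_LR {r : ℕ} (hr : r < chevE6.nroots) (h0 : V chevE6 J r 0 = 0) : V chevE6 J r ∈ LR cs' isCartan fT := by
  refine ⟨isRoot_V cs' hr, fun k hk => ?_⟩
  obtain rfl := (fT_zero k).2 hk
  exact h0

theorem T_comm : ∀ a ∈ Nodes.RGDTwE6.T K q, ∀ b ∈ Nodes.RGDTwE6.T K q, a * b = b * a := by
  intro a ha b hb
  unfold Nodes.RGDTwE6.T at ha hb
  rw [Subgroup.mem_subgroupOf] at ha hb
  have h1 := GenExc.Chev.diag_comm Chev.isTy_E6 K (TwE.incl K q a) (Subgroup.mem_subgroupOf.2 ha.1)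
    (TwE.incl K q b) (Subgroup.mem_subgroupOf.2 hb.1)
  exact TwE.incl_injective (by rw [map_mul, map_mul]; exact h1)

include hφ hqq in
/-- **`Out` for `²E₆(q)`**, given the orders of the unipotent subgroups. -/
theorem out [Finite W'] (hq : 2 < q) (hK : Fintype.card K = q ^ 2) (h2 : (2 : K) = 0) {p : ℕ} (hpp : p.Prime)
    (hp2 : p ≠ 2) (hpq : p ∣ q ^ 2 - 1)
    (hcl : ∃ s : Finset (Fin 3 → ℤ), (∀ c, c ∈ s ↔ IsRoot (csL CoxeterMatrix.F₄ fT) (levi_isCartan fT isCartan) c ∧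
      0 ≤ c) ∧ ∏ c ∈ s, Nat.card (X φ q (iota (fun j => sr (fT j)) c)) = q ^ 15)
    (hcp : ∃ s : Finset (Fin 4 → ℤ), (∀ x, x ∈ s ↔ IsRoot cs' isCartan x ∧ 0 < x 0) ∧
      ∏ x ∈ s, Nat.card (X φ q x) = q ^ 21) : Out ↥(twistedE6 K q) p q 15 21 := by
  classical
  let cs : CoxeterSystem CoxeterMatrix.E₆ CoxeterMatrix.E₆.Group := CoxeterMatrix.E₆.toCoxeterSystem
  have hp := Chev.isTy_E6
  have : Finite CoxeterMatrix.E₆.Group := _root_.Cfsg.Agent.Nodes.RGDChev.finite_W hp cs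
  have : Fact p.Prime := ⟨hpp⟩
  have : Fact (Nat.Prime 2) := ⟨Nat.prime_two⟩
  have hch : CharP K 2 := CharTwo.of_one_ne_zero_of_two_eq_zero one_ne_zero h2
  have h2' : ∀ t : K, t + t = 0 := fun t => CharTwo.add_self_eq_zero t
  have hD := TwE6Basic.hE6
  let _ : Fintype ↥(F0 φ) := Fintype.ofFinite _
  have hcF : Fintype.card ↥(F0 φ) = q := card_F0 hφ (by omega) hK
  have h2F : (2 : ↥(F0 φ)) = 0 := Subtype.ext h2
  have hF : ∀ t : K, t ^ q = t → ∃ s : ↥(F0 φ), (F0 φ).subtype s = t := fun t ht => ⟨⟨t, (mem_F0' hφ t).2 ht⟩, rfl⟩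
  have hιq : ∀ t : ↥(F0 φ), ((F0 φ).subtype t) ^ q = (F0 φ).subtype t := fun t => (mem_F0' hφ _).1 t.2
  -- an element of the fixed field outside the prime field
  obtain ⟨c, hc, hc2, hcq⟩ : ∃ c : K, c ≠ 0 ∧ c ^ 2 ≠ 1 ∧ c ^ q = c := by
    by_contra hcon
    push Not at hcon
    have h5 : (Finset.univ : Finset ↥(F0 φ)) ⊆ {0, 1} := by
      intro c _
      rw [Finset.mem_insert, Finset.mem_singleton]
      by_cases hc : c = 0
      · exact Or.inl hc
      · right
        have h6 : (c : K) ≠ 0 := fun h => hc (Subtype.ext h)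
        by_contra h7
        have h8 : (c : K) ^ 2 ≠ 1 := fun h => h7 (Subtype.ext (Rank.eq_one_of_sq h2 h))
        exact hcon c h6 h8 (hιq c)
    have h6 := Finset.card_le_card h5
    rw [Finset.card_univ, hcF, Finset.card_pair zero_ne_one] at h6
    omega
  -- a root of unity
  obtain ⟨ζ, hζ⟩ : ∃ ζ : K, IsPrimitiveRoot ζ p := by
    have h5 : p ∣ Nat.card Kˣ := by
      rw [Nat.card_eq_fintype_card, Fintype.card_units, hK]
      exact hpq
    obtain ⟨z, hz⟩ := exists_prime_orderOf_dvd_card' p h5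
    exact ⟨z, (IsPrimitiveRoot.coe_units_iff).2 (hz ▸ IsPrimitiveRoot.orderOf z)⟩
  have h0 : (71 : ℕ) < chevE6.nroots := lt_T 0
  have hu : ∀ i, ∀ t : ↥(F0 φ), xG hD (βT i) ((F0 φ).subtype t) ∈ twistedE6 K q := fun i t =>
    xG_mem hφ (lt_T i) (rho_T i).1 (hιq t)
  have hl : ∀ i, ∀ t : ↥(F0 φ), xG hD (chevE6.neg (βT i)) ((F0 φ).subtype t) ∈ twistedE6 K q := fun i t =>
    xG_mem hφ (lt_T' i) (rho_T i).2 (hιq t)
  have huK : ∀ t : K, xG hD 71 (RingHom.id K t) ∈ chevE6.group K := fun t => xG_mem_group hD _ _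
  have hlK : ∀ t : K, xG hD (chevE6.neg 71) (RingHom.id K t) ∈ chevE6.group K := fun t => xG_mem_group hD _ _
  have R' := Nodes.RGDTwE6.rgd cs' hφ hqq 2
  have hconn : ∀ S : Set (Fin 3), S.Nonempty → S ≠ Set.univ →
      ∃ a ∈ S, ∃ b, b ∉ S ∧ CoxeterMatrix.F₄ (fT a) (fT b) ≠ 2 :=
    GenExc.Chev.conn_of_parent (R := fun a b => CoxeterMatrix.F₄ (fT a) (fT b) ≠ 2)
      (fun a b h => by rwa [CoxeterMatrix.F₄.symmetric]) (![0, 0, 1] : Fin 3 → Fin 3) (by decide)
  have hnode := node hφ hqq hF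
  have hn : ∀ j, _root_.Cfsg.Agent.Nodes.RGDTwE6.nn hφ (fT j) ∈ HL cs' isCartan (X φ q) fT := fun j =>
    (hnode j h2 hc hc2 hcq (X_le_HL' cs' j).1 (X_le_HL' cs' j).2).1
  have hperf : ∀ x ∈ LR cs' isCartan fT, X φ q x ≤
      ⁅HL cs' isCartan (X φ q) fT, HL cs' isCartan (X φ q) fT⁆ :=
    Levi.perf_of_simple fT R' hn fun j => (hnode j h2 hc hc2 hcq (X_le_HL' cs' j).1 (X_le_HL' cs' j).2).2
  have hTcomm : ∀ a ∈ Nodes.RGDTwE6.T K q, ∀ b ∈ Nodes.RGDTwE6.T K q, a * b = b * a := T_comm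
  obtain ⟨sl, hsl, hsl'⟩ := hcl
  obtain ⟨sp, hsp, hsp'⟩ := hcp
  refine OutOf.out_of (S := (sys hp twoOK_E6 cs : Sys (_root_.Cfsg.Agent.Nodes.RGDChev.rgd (K := K) hp cs 2) (eg hp K))) R'
    (KFacts.RgdRigid.GG_eq_top (_root_.Cfsg.Agent.Nodes.RGDChev.G1_eq_top hp cs)) (KFacts.RgdRigid.GG_eq_top (Nodes.RGDTwE6.G1_eq_top cs' hφ hqq))
    (φ := TwE.incl K q) (k := (1 : Fin 6)) (k' := (0 : Fin 4))
    (TwE.comp cs cs' φ (ev 1) (ev 0) fun k _ => (TwE.V_zero k).symm)
    (TwE.comp cs cs' φ (-ev 1) (-ev 0) fun k _ => congrArg Neg.neg (TwE.V_zero k).symm) (isRoot_vec hp cs h0) ?_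
    Chev.datE6.top_two ?_ h2 hpp hp2 hζ (fun c hc => Chev.hel_mem_T hp h2' h0 hc)
    (Rank.psi hD h0 (RingHom.id K) huK hlK) ?_ ?_ h2F hcF hpq (F0 φ).subtype
    (fun i => Rank.psi hD (lt_T i) (F0 φ).subtype (hu i) (hl i)) ?_ ?_ ?_ fT ?_ ?_ hn hconn hTcomm hperf
    (card_HL fT R' hn hconn hTcomm hperf sl hsl hsl') ?_ ?_
  · intro i hi
    rw [pairing_vec hp i h0]
    exact Chev.datE6.top_orth i hi
  · intro a ha h3
    refine TwE.X_le φ fun k hk hV => ?_
    refine RGD.le_Sup (X := fun x => (XV chevE6 6 K x).subgroupOf (chevE6.group K))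
      (show vec chevE6 6 k ∈ {b | IsRoot cs hp.isCartan b ∧ b 1 = 0} from ⟨isRoot_vec hp cs hk, ?_⟩)
    rw [← TwE.V_zero, hV, h3]
  · intro t
    apply Subtype.ext
    rw [Rank.psi_up, coe_eg, ev_vec hp h0]
    rfl
  · intro t
    apply Subtype.ext
    rw [Rank.psi_lo, coe_eg, ← vec_neg hp h0, ev_vec hp (RootVec.neg_lt hp.checked h0)]
    rfl
  · intro i
    exact Rank.psi_injective hD (lt_T i) (F0 φ).subtype (hu i) (hl i) h2
  · intro i j hij g g'
    exact Rank.psi_comm hD (lt_T i) (F0 φ).subtype (hu i) (hl i) (lt_T j) (hu j) (hl j) (so_T i j hij) g g'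
  · intro g
    apply Subtype.ext
    rw [TwE.coe_incl, Rank.coe_psi, Rank.coe_psi]
    have h6 : ∀ z : Matrix.SpecialLinearGroup (Fin 2) K, Matrix.SpecialLinearGroup.map (RingHom.id K) z = z := by
      intro z
      apply Subtype.ext
      ext i j
      rfl
    rw [h6]
    rfl
  · exact fT_zero
  · intro i hi g
    refine Rank.psi_mem hD (lt_T i) (F0 φ).subtype (hu i) (hl i) ?_ ?_ g
    · intro t
      refine X_le_HL (cs := cs') (h := isCartan) fT ?_ (xG_mem_X hφ hqq (lt_T i) (hu i t))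
      exact mem_LR cs' (lt_T i) (zero_T i hi).1
    · intro t
      refine X_le_HL (cs := cs') (h := isCartan) fT ?_ (xG_mem_X hφ hqq (lt_T' i) (hl i t))
      exact mem_LR cs' (lt_T' i) (zero_T i hi).2
  · rw [Levi.card_pos R' 0 sp hsp, hsp']
  · rw [Levi.card_neg R' 0 sp hsp, hsp']

end

end Cfsg.Agent.GpExc.TwOut

end

-- merged: Cfsg.Agent.GpExc.TwCard
section

/-!
# The orders of the root groups of `²E₆(q)` (helper75)
-/

set_option autoImplicit false
set_option linter.unusedSectionVars false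

namespace Cfsg.Agent.GpExc.TwCard

open CoxeterSystem Subgroup
open Cfsg Cfsg.Lie Cfsg.Lie.ChevalleyDatum
open Cfsg.Agent.ChevalleyStructure Cfsg.Agent.ChevalleyStructure.Elts Cfsg.Agent.ChevalleyStructure.CoxeterGeom
open Cfsg.Agent.Tits.Roots Cfsg.Agent.Nodes.Reps Cfsg.Agent.Nodes.BNOf Cfsg.Agent.Nodes.RGDChev
  Cfsg.Agent.Nodes.Bruhat Cfsg.Agent.Nodes.RGDFold Cfsg.Agent.Nodes.SubComb Cfsg.Agent.Nodes.Sub
open Cfsg.Agent.GenExc Cfsg.Agent.GpExc.TwOut
open Cfsg.Agent.Nodes.RGDTwE6 (J A foldData X nn isCartan)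

/-- the exponent -/
def ex (k : ℕ) : ℕ := if TwistedE6Sigma.rho k = k then 1 else 2

theorem ex_wp : ∀ k < chevE6.nroots, ∀ i : Fin 4, ex (wp chevE6 (J i) k) = ex k := by (delta Cfsg.Agent.Nodes.RGDFold.wp Cfsg.Lie.ChevalleyDatum.chainRoot Cfsg.Lie.ChevalleyDatum.reflectRoot; rewrite [Cfsg.Agent.ChevFast.E6.cartan, Cfsg.Agent.ChevFast.E6.chainEntry, Cfsg.Agent.ChevFast.E6.neg]; decide +kernel)

theorem ex_base : ∀ i : Fin 4, ∀ k ∈ TwE6Basic.posE i, ex k = if i = 0 ∨ i = 1 then 1 else 2 := by decide +kernel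

/-- the representative -/
def mr (k : ℕ) : ℕ := min k (TwistedE6Sigma.rho k)

theorem mr_ok : ∀ k < chevE6.nroots, mr k < chevE6.nroots ∧ mr k ≤ TwistedE6Sigma.rho (mr k) ∧
    V chevE6 J (mr k) = V chevE6 J k := by (delta Cfsg.Agent.Nodes.RGDFold.V Cfsg.Agent.ChevalleyStructure.RootVec.rt; set_option synthInstance.maxSize 100000 in exact Cfsg.Agent.Lib.Refl.of (by decide +kernel))

theorem V_inj0 : ∀ k < chevE6.nroots, ∀ k' < chevE6.nroots, V chevE6 J k = V chevE6 J k' →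
    k' = k ∨ k' = TwistedE6Sigma.rho k := by (delta Cfsg.Agent.Nodes.RGDFold.V Cfsg.Agent.ChevalleyStructure.RootVec.rt; set_option synthInstance.maxSize 100000 in exact Cfsg.Agent.Lib.Refl.of (by decide +kernel))

theorem rho_rho : ∀ k < chevE6.nroots, TwistedE6Sigma.rho (TwistedE6Sigma.rho k) = k := by decide +kernel

theorem V_inj (k : ℕ) (hk : k < chevE6.nroots) (k' : ℕ) (hk' : k' < chevE6.nroots) (h : k ≤ TwistedE6Sigma.rho k)
    (h' : k' ≤ TwistedE6Sigma.rho k') (e : V chevE6 J k = V chevE6 J k') : k = k' := by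
  rcases V_inj0 k hk k' hk' e with h1 | h1
  · exact h1.symm
  · have h2 := rho_rho k hk
    rw [← h1] at h h2
    rw [h2] at h'
    exact le_antisymm h h'

/-- representatives of the positive roots with positive first coefficient -/
def Pp : Finset ℕ := (Finset.range chevE6.nroots).filter fun k => k ≤ TwistedE6Sigma.rho k ∧ 0 < V chevE6 J k 0

/-- representatives of the positive roots of the Levi subgroup -/
def Pl : Finset ℕ := (Finset.range chevE6.nroots).filter fun k => k ≤ TwistedE6Sigma.rho k ∧ V chevE6 J k 0 = 0 ∧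
  ∀ j, 0 ≤ V chevE6 J k (fT j)

theorem sum_Pp : ∑ k ∈ Pp, ex k = 21 := by decide +kernel
theorem sum_Pl : ∑ k ∈ Pl, ex k = 15 := by decide +kernel

section

variable {K : Type} [Field K] [Fintype K] {q : ℕ} {φ : K →+* K} (hφ : ∀ x, φ x = x ^ q)
  (hqq : ∀ t : K, (t ^ q) ^ q = t) (hq : 1 < q) (hK : Fintype.card K = q ^ 2)
  {W : Type*} [Group W] [Finite W] (cs : CoxeterSystem CoxeterMatrix.F₄ W)

include hφ hqq hq hK

/-- the simple root groups -/
theorem card_simple (i : Fin 4) : Nat.card (X φ q (sr i)) = q ^ (if i = 0 ∨ i = 1 then 1 else 2) := by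
  have h1 : Nat.card (X φ q (sr i)) =
      Nat.card {x : GL chevE6.Idx K // x ∈ TwE6BN.rs K (TwE6Basic.posE i) ∧ x ∈ twistedE6 K q} := by
    refine Nat.card_congr ⟨fun g => ⟨(g.1 : GL chevE6.Idx K), ((TwNode.mem_X_pos i g.1).1 g.2).1, g.1.2⟩,
      fun x => ⟨⟨x.1, x.2.2⟩, (TwNode.mem_X_pos i _).2 ⟨x.2.1, TwE6Basic.twisted_le_fix φ hφ hqq x.2.2⟩⟩,
      fun g => rfl, fun x => rfl⟩
  rw [h1]
  fin_cases i
  · exact (TwE6Card.card_single φ hφ hqq hq hK TwE6BN.single0).trans (pow_one q).symm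
  · exact (TwE6Card.card_single φ hφ hqq hq hK TwE6BN.single1).trans (pow_one q).symm
  · exact TwE6Card.card_pair φ hφ hqq hK TwE6BN.pair2
  · exact TwE6Card.card_pair φ hφ hqq hK TwE6BN.pair3

include cs

/-- **the orders of the root groups** -/
theorem card_X {k : ℕ} (hk : k < chevE6.nroots) : Nat.card (X φ q (V chevE6 J k)) = q ^ ex k := by
  obtain ⟨p, hp'⟩ := CharP.exists K
  have : Fact p.Prime := ⟨CharP.char_is_prime K p⟩
  have R := Nodes.RGDTwE6.rgd cs hφ hqq p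
  have key : ∀ (ω : List (Fin 4)) (i : Fin 4) (k : ℕ), k < chevE6.nroots →
      V chevE6 J k = rep cs isCartan (cs.wordProd ω) (sr i) →
      Nat.card (X φ q (rep cs isCartan (cs.wordProd ω) (sr i))) = q ^ ex k := by
    intro ω
    induction ω with
    | nil =>
      intro i k hk hV
      rw [cs.wordProd_nil, map_one] at hV ⊢
      have h1 : k ∈ TwE6Basic.posE i := (Nodes.RGDTwE6.cls i k hk).1 hV
      rw [ex_base i k h1]
      exact card_simple hφ hqq hq hK i
    | cons j ω ih =>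
      intro i k hk hV
      have hz : IsRoot cs isCartan (rep cs isCartan (cs.wordProd ω) (sr i)) := ⟨_, i, rfl⟩
      rw [cs.wordProd_cons] at hV ⊢
      have e1 : rep cs isCartan (cs.simple j * cs.wordProd ω) (sr i) =
          rep cs isCartan (cs.simple j) (rep cs isCartan (cs.wordProd ω) (sr i)) := by
        rw [map_mul]; rfl
      rw [e1] at hV ⊢
      rw [Nodes.CardSup.card_X_rep R _ hz]
      have hk' : wp chevE6 (J j) k < chevE6.nroots := wp_lt Nodes.RGDTwE6.hp (J j) hk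
      rw [← ex_wp k hk j]
      refine ih i _ hk' ?_
      rw [foldData.wp_V k hk j, ← rep_refl (cs := cs) (h := isCartan), hV]
      have h5 : rep cs isCartan (cs.simple j) (rep cs isCartan (cs.simple j)
          (rep cs isCartan (cs.wordProd ω) (sr i))) =
          rep cs isCartan (cs.simple j * cs.simple j) (rep cs isCartan (cs.wordProd ω) (sr i)) := by
        rw [map_mul]; rfl
      rw [h5, cs.simple_mul_simple_self, map_one]
      rfl
  obtain ⟨w, i, hw⟩ := isRoot_V cs hk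
  obtain ⟨ω, rfl⟩ := cs.wordProd_surjective w
  have h1 := key ω i k hk hw
  rwa [← hw] at h1

theorem exists_pos : ∃ s : Finset (Fin 4 → ℤ), (∀ x, x ∈ s ↔ IsRoot cs isCartan x ∧ 0 < x 0) ∧
    ∏ x ∈ s, Nat.card (X φ q x) = q ^ 21 := by
  classical
  have hP : ∀ k ∈ Pp, k < chevE6.nroots ∧ k ≤ TwistedE6Sigma.rho k ∧ 0 < V chevE6 J k 0 := by
    intro k hk
    rw [Pp, Finset.mem_filter, Finset.mem_range] at hk
    exact ⟨hk.1, hk.2⟩
  refine ⟨Pp.image (V chevE6 J), fun x => ?_, ?_⟩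
  · rw [Finset.mem_image]
    constructor
    · rintro ⟨k, hk, rfl⟩
      exact ⟨isRoot_V cs (hP k hk).1, (hP k hk).2.2⟩
    · rintro ⟨hx, h0⟩
      obtain ⟨k, hk, rfl⟩ := exists_V cs hx
      obtain ⟨h1, h2, h3⟩ := mr_ok k hk
      refine ⟨mr k, ?_, h3⟩
      rw [Pp, Finset.mem_filter, Finset.mem_range]
      exact ⟨h1, h2, by rw [h3]; exact h0⟩
  · rw [Finset.prod_image fun k hk k' hk' e => V_inj k (hP k hk).1 k' (hP k' hk').1 (hP k hk).2.1 (hP k' hk').2.1 e,
      Finset.prod_congr rfl fun k hk => card_X hφ hqq hq hK cs (hP k hk).1, Finset.prod_pow_eq_pow_sum, sum_Pp]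

theorem exists_levi : ∃ s : Finset (Fin 3 → ℤ), (∀ c, c ∈ s ↔ IsRoot (csL CoxeterMatrix.F₄ fT)
    (levi_isCartan fT isCartan) c ∧ 0 ≤ c) ∧
    ∏ c ∈ s, Nat.card (X φ q (iota (fun j => sr (fT j)) c)) = q ^ 15 := by
  classical
  have hP : ∀ k ∈ Pl, k < chevE6.nroots ∧ k ≤ TwistedE6Sigma.rho k ∧ V chevE6 J k 0 = 0 ∧
      ∀ j, 0 ≤ V chevE6 J k (fT j) := by
    intro k hk
    rw [Pl, Finset.mem_filter, Finset.mem_range] at hk
    exact ⟨hk.1, hk.2⟩
  have hvec : ∀ k ∈ Pl, V chevE6 J k = iota (fun j => sr (fT j)) (fun j => V chevE6 J k (fT j)) :=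
    fun k hk => eq_iota_levi fT (mem_LR cs (hP k hk).1 (hP k hk).2.2.1).2
  have hinj : Set.InjOn (fun k => fun j => V chevE6 J k (fT j)) (Pl : Set ℕ) := by
    intro k hk k' hk' e
    have e' : (fun j => V chevE6 J k (fT j)) = fun j => V chevE6 J k' (fT j) := e
    refine V_inj k (hP k hk).1 k' (hP k' hk').1 (hP k hk).2.1 (hP k' hk').2.1 ?_
    rw [hvec k hk, hvec k' hk', e']
  refine ⟨Pl.image fun k => fun j => V chevE6 J k (fT j), fun c => ?_, ?_⟩
  · rw [Finset.mem_image, isRoot_iota (cs := cs) (h := isCartan) fT]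
    constructor
    · rintro ⟨k, hk, rfl⟩
      rw [← hvec k hk]
      exact ⟨isRoot_V cs (hP k hk).1, fun j => (hP k hk).2.2.2 j⟩
    · rintro ⟨hc, h0⟩
      obtain ⟨k, hk, e⟩ := exists_V cs hc
      obtain ⟨h1, h2, h3⟩ := mr_ok k hk
      have e1 : ∀ j, V chevE6 J (mr k) (fT j) = c j := fun j => by rw [h3, e, iota_levi_apply]
      refine ⟨mr k, ?_, funext e1⟩
      rw [Pl, Finset.mem_filter, Finset.mem_range]
      refine ⟨h1, h2, ?_, fun j => by rw [e1]; exact h0 j⟩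
      rw [h3, e]
      exact iota_levi_apply_ne fT c ((fT_zero 0).1 rfl)
  · rw [Finset.prod_image hinj, ← sum_Pl, ← Finset.prod_pow_eq_pow_sum]
    refine Finset.prod_congr rfl fun k hk => ?_
    rw [← hvec k hk]
    exact card_X hφ hqq hq hK cs (hP k hk).1

end

end Cfsg.Agent.GpExc.TwCard

end

-- merged: Cfsg.Agent.PRankPar.TwE6
section

/-!
# The `p`-rank of `²E₆(q)`, `q` even, `p ∤ q² - 1`

`²E₆(q) ≤ E₆(L)`, `L` a finite extension of `F_{q²}`, is fixed by `β` = graph automorphism ∘ (`a ↦ a ^ q`), a frame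
automorphism of `E₆(L)`; so `PRankPar.Frob.not_four` applies.
* `not_rank_twE6`, `sigma_dvd_twE6`.
-/

set_option autoImplicit false
set_option linter.unusedSectionVars false

namespace Cfsg.Agent.PRankPar.TwE6

open CoxeterSystem Cfsg.Agent.ChevalleyStructure.CoxeterGeom Cfsg.Agent.Tits.Roots Cfsg.Agent.Tits.Core
  Cfsg.Agent.Tits.Exchange
  Cfsg.Agent.Nodes.Reps Cfsg.Agent.Nodes.BNOf Cfsg.Agent.Nodes.Bruhat Cfsg.Agent.Nodes.LeviDec
  Cfsg.Agent.Nodes.StabComb Cfsg.Agent.Nodes.RGDChev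
  Cfsg.Agent.KFacts Cfsg.Agent.KFacts.RgdChevCoord Cfsg.Agent.KFacts.RgdAut Cfsg.Agent.KFacts.RgdDiag
  Cfsg.Agent.KFacts.RgdTau Cfsg.Agent.PRankPar.Chev Cfsg.Agent.PRankPar.Inst
open Cfsg.Lie Cfsg.Agent.ChevalleyStructure Cfsg.Agent.ChevalleyStructure.CoxeterGeomTypes
  Cfsg.Agent.ChevalleyStructure.Elts Cfsg.Agent.ChevalleyStructure.NPerm
  Cfsg.Agent.ChevalleyStructure.GraphSymm Cfsg.Agent.ChevalleyStructure.SignedSymm

universe u v

/-! ### the diagram symmetry -/

/-- the diagram symmetry of `E₆` -/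
def sg6 : Equiv.Perm (Fin 6) where
  toFun := ![5, 1, 4, 3, 2, 0]
  invFun := ![5, 1, 4, 3, 2, 0]
  left_inv := by decide
  right_inv := by decide

theorem simple_lt6 : ∀ i : Fin 6, chevE6.simple i.val < 72 := by decide +kernel

theorem rho_simple : ∀ i : Fin 6, (TwE6Basic.rho ⟨chevE6.simple i.val, simple_lt6 i⟩).val = chevE6.simple (sg6 i).val := by
  decide +kernel

theorem cartan_sg6 (i j : Fin 6) : cartanOf chevE6 6 (sg6 i) (sg6 j) = cartanOf chevE6 6 i j := by
  rw [CardW.cartan_E6]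
  revert i j
  decide +kernel

/-! ### the automorphism -/

section Aut

variable {L : Type u} [Field L] [CharP L 2]

theorem int_cast_one {a : ℤ} (h : a * a = 1) : (a : L) = 1 := by
  rcases mul_self_eq_one_iff.1 h with rfl | rfl
  · exact Int.cast_one
  · have h2 : (2 : L) = 0 := CharTwo.two_eq_zero
    rw [Int.cast_neg, Int.cast_one]
    linear_combination -h2

theorem sg_x' (φ : L →+* L) (r : Fin 72) (t : L) :
    TwE6Basic.sg φ (xG type_E6.inList r.val t) = xG type_E6.inList (TwE6Basic.rho r).val (φ t) := by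
  have h := TwE6Basic.sg_x φ r t
  rw [int_cast_one (symmE6.ε_sq r), one_mul] at h
  exact h

theorem sg_mem (φ : L →+* L) {g : GL chevE6.Idx L} (hg : g ∈ chevE6.group L) : TwE6Basic.sg φ g ∈ chevE6.group L := by
  have h1 : chevE6.group L ≤ (chevE6.group L).comap (TwE6Basic.sg φ) := by
    rw [group_le_iff type_E6.inList]
    intro r hr t
    show TwE6Basic.sg φ (xG type_E6.inList r t) ∈ chevE6.group L
    have := sg_x' φ ⟨r, hr⟩ t
    rw [this]
    exact xG_mem_group _ _ _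
  exact h1 hg

theorem sg_h (φ : L →+* L) (r : Fin 72) (t : L) :
    TwE6Basic.sg φ (hG type_E6.inList r.val t) = hG type_E6.inList (TwE6Basic.rho r).val (φ t) := by
  have hneg : chevE6.neg r.val = (Fin.rev r).val := TwE6Basic.neg_eq r
  have hneg' : chevE6.neg (TwE6Basic.rho r).val = (TwE6Basic.rho (Fin.rev r)).val := by
    rw [TwE6Basic.neg_eq, TwE6Basic.rho_rev]
  rw [hG_def, hG_def, nG_def, nG_def, nG_def, nG_def]
  simp only [map_mul, hneg, hneg', sg_x', map_neg, map_inv₀, map_one]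

theorem sg_diagonal (φ : L →+* L) {g : GL chevE6.Idx L} (hg : g ∈ chevE6.diagonalSubgroup L) :
    TwE6Basic.sg φ g ∈ chevE6.diagonalSubgroup L := by
  have h1 : chevE6.diagonalSubgroup L ≤ (chevE6.diagonalSubgroup L).comap (TwE6Basic.sg φ) := by
    refine (Subgroup.closure_le _).2 ?_
    rintro g ⟨r, t, hr, ht, e⟩
    have h2 : g = hG type_E6.inList r t := Units.ext (by rw [e, coe_hG])
    show TwE6Basic.sg φ g ∈ chevE6.diagonalSubgroup L
    rw [h2]
    have h3 := sg_h φ ⟨r, hr⟩ t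
    rw [h3]
    exact hG_mem_diagonal type_E6.inList (TwE6Basic.rho ⟨r, hr⟩).2 ((map_ne_zero φ).2 ht)
  exact h1 hg

/-- `σ` on `E₆(L)` -/
def sgG (φ : L →+* L) : ↥(chevE6.group L) →* ↥(chevE6.group L) :=
  ((TwE6Basic.sg φ).comp (chevE6.group L).subtype).codRestrict (chevE6.group L) fun g => (sg_mem φ g.2 :)

theorem coe_sgG (φ : L →+* L) (g : ↥(chevE6.group L)) :
    ((sgG φ g : ↥(chevE6.group L)) : GL chevE6.Idx L) = TwE6Basic.sg φ g := rfl

theorem sgG_injective (φ : L →+* L) : Function.Injective (sgG φ) := by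
  intro a b hab
  exact Subtype.ext (TwE6Basic.sg_injective φ (congrArg Subtype.val hab))

/-- `σ` as an automorphism of `E₆(L)` -/
noncomputable def bet [Finite L] (φ : L →+* L) : MulAut ↥(chevE6.group L) :=
  MulEquiv.ofBijective (sgG φ) (Finite.injective_iff_bijective.1 (sgG_injective φ))

theorem bet_apply [Finite L] (φ : L →+* L) (g : ↥(chevE6.group L)) : bet φ g = sgG φ g := rfl

theorem bet_xc [Finite L] (φ : L →+* L) (i : Fin 6) (a : L) :
    bet φ (xc type_E6 (sr i) a) = xc type_E6 (sr (sg6 i)) (φ a) := by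
  apply Subtype.ext
  rw [bet_apply, coe_sgG, ← vec_simple type_E6 i, ← vec_simple type_E6 (sg6 i),
    coe_xc type_E6 (simple_lt6 i), coe_xc type_E6 (simple_lt6 (sg6 i))]
  have := sg_x' φ ⟨chevE6.simple i.val, simple_lt6 i⟩ a
  rw [this, rho_simple]

theorem neg_lt6 (r : Fin 72) : chevE6.neg r.val < chevE6.nroots := by
  rw [TwE6Basic.neg_eq]; exact (Fin.rev r).2

theorem bet_xc_neg [Finite L] (φ : L →+* L) (i : Fin 6) (a : L) :
    bet φ (xc type_E6 (-sr i) a) = xc type_E6 (-sr (sg6 i)) (φ a) := by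
  apply Subtype.ext
  have h1 := neg_lt6 ⟨chevE6.simple i.val, simple_lt6 i⟩
  have h2 := neg_lt6 ⟨chevE6.simple (sg6 i).val, simple_lt6 (sg6 i)⟩
  rw [bet_apply, coe_sgG, ← vec_simple type_E6 i, ← vec_simple type_E6 (sg6 i),
    ← vec_neg type_E6 (simple_lt6 i), ← vec_neg type_E6 (simple_lt6 (sg6 i)),
    coe_xc type_E6 h1, coe_xc type_E6 h2]
  have h3 := sg_x' φ (Fin.rev ⟨chevE6.simple i.val, simple_lt6 i⟩) a
  have h4 : chevE6.neg (chevE6.simple i.val) = (Fin.rev ⟨chevE6.simple i.val, simple_lt6 i⟩ : Fin 72).val :=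
    TwE6Basic.neg_eq ⟨chevE6.simple i.val, simple_lt6 i⟩
  have h5 : chevE6.neg (chevE6.simple (sg6 i).val) =
      (TwE6Basic.rho (Fin.rev ⟨chevE6.simple i.val, simple_lt6 i⟩)).val := by
    rw [TwE6Basic.rho_rev, ← TwE6Basic.neg_eq, rho_simple]
  rw [h4, h5, h3]

/-- a bijection criterion -/
theorem mem_iff_of_le {G : Type*} [Group G] [Finite G] (β : MulAut G) {H H' : Subgroup G}
    (h1 : ∀ x ∈ H, β x ∈ H') (h2 : Nat.card ↥H' ≤ Nat.card ↥H) (x : G) : β x ∈ H' ↔ x ∈ H := by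
  refine ⟨fun hx => ?_, h1 x⟩
  have h3 : H.map β.toMonoidHom ≤ H' := by
    rintro _ ⟨y, hy, rfl⟩
    exact h1 y hy
  have h4 : H.map β.toMonoidHom = H' := by
    refine Subgroup.eq_of_le_of_card_ge h3 ?_
    rw [Subgroup.card_map_of_injective β.injective]
    exact h2
  rw [← h4] at hx
  obtain ⟨y, hy, e⟩ := hx
  rwa [← β.injective e]

theorem tau_bet [Finite L] (τ : L ≃+* L) :
    Tau (TT chevE6 L) (XX chevE6 6 L) (ch (K := L) type_E6) (cartanOf chevE6 6) (bet (τ : L →+* L)) sg6 τ := by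
  have : Fact (Nat.Prime 2) := ⟨Nat.prime_two⟩
  have C := coords (K := L) type_E6 CoxeterMatrix.E₆.toCoxeterSystem 2
  have hr := fun i : Fin 6 => isRoot_sr CoxeterMatrix.E₆.toCoxeterSystem type_E6.isCartan i
  have hT : ∀ t ∈ TT chevE6 L, bet (τ : L →+* L) t ∈ TT chevE6 L := fun t ht => sg_diagonal (τ : L →+* L) ht
  refine ⟨⟨fun t => mem_iff_of_le _ hT le_rfl t, fun i y => ?_, fun i y => ?_⟩, cartan_sg6, fun i t ht => ?_⟩
  · refine mem_iff_of_le _ (fun x hx => ?_) ?_ y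
    · obtain ⟨a, rfl⟩ := ((C.coord _ (hr i)).mem x).1 hx
      rw [bet_xc]
      exact ((C.coord _ (hr (sg6 i))).mem _).2 ⟨_, rfl⟩
    · rw [Frob.card_X C (hr i), Frob.card_X C (hr (sg6 i))]
  · refine mem_iff_of_le _ (fun x hx => ?_) ?_ y
    · obtain ⟨a, rfl⟩ := ((C.coord _ (hr i).neg).mem x).1 hx
      rw [bet_xc_neg]
      exact ((C.coord _ (hr (sg6 i)).neg).mem _).2 ⟨_, rfl⟩
    · rw [Frob.card_X C (hr i).neg, Frob.card_X C (hr (sg6 i)).neg]
  · have h1 := (C.coord _ (hr i)).act t ht 1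
    have h2 := congrArg (bet (τ : L →+* L)) h1
    rw [map_mul, map_mul, map_inv, bet_xc, bet_xc, (C.coord _ (hr (sg6 i))).act _ (hT t ht), mul_one] at h2
    have h3 := (C.coord _ (hr (sg6 i))).inj h2
    have h4 : (τ : L →+* L) 1 = 1 := map_one _
    rw [h4, mul_one] at h3
    exact h3

end Aut

/-! ### the twisted group -/

section Tw

variable {K : Type v} {L : Type u} [Field K] [Field L]

theorem sg_glMap {f : K →+* L} {φ : K →+* K} {τ : L →+* L} (h : ∀ a, τ (f a) = f (φ a)) (g : GL chevE6.Idx K) :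
    TwE6Basic.sg τ (glMap chevE6 f g) = glMap chevE6 f (TwE6Basic.sg φ g) := by
  have hP : glMap chevE6 f (symmE6.P K) = symmE6.P L := by
    apply Units.ext
    rw [coe_glMap, Symm.coe_P, Symm.coe_P]
    ext a b
    rw [Matrix.map_apply, Symm.mat_apply, Symm.mat_apply]
    split_ifs
    · exact map_intCast f _
    · exact map_zero f
  have h1 : Matrix.GeneralLinearGroup.map τ (glMap chevE6 f g) =
      glMap chevE6 f (Matrix.GeneralLinearGroup.map φ g) := by
    apply Units.ext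
    ext a b
    exact h _
  show symmE6.P L * Matrix.GeneralLinearGroup.map τ (glMap chevE6 f g) * (symmE6.P L)⁻¹ =
    glMap chevE6 f (symmE6.P K * Matrix.GeneralLinearGroup.map φ g * (symmE6.P K)⁻¹)
  rw [map_mul, map_mul, map_inv, hP, h1]

theorem twisted_le_group (q : ℕ) : twistedE6 K q ≤ chevE6.group K := by
  rw [TwE6Basic.twisted_le_iff]
  exact ⟨fun t _ r _ => xG_mem_group type_E6.inList r t,
    fun t rs _ => mul_mem (xG_mem_group type_E6.inList _ _) (xG_mem_group type_E6.inList _ _)⟩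

end Tw

section Main

variable (K : Type v) [Field K] [Finite K] [CharP K 2] {q : ℕ} (hK : Nat.card K = q ^ 2) {p : ℕ} [Fact p.Prime]
  (h2 : p ≠ 2)

include hK

theorem exists_pow : ∃ k : ℕ, 0 < k ∧ q = 2 ^ k := by
  obtain ⟨m, hm, e⟩ := card_char_two K
  rw [hK] at e
  have hq0 : q ∣ 2 ^ m := by rw [← e]; exact dvd_pow_self q two_ne_zero
  obtain ⟨k, -, hk⟩ := (Nat.dvd_prime_pow Nat.prime_two).1 hq0
  refine ⟨k, Nat.pos_of_ne_zero fun h0 => ?_, hk⟩
  rw [hk, h0, pow_zero, one_pow] at e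
  have := Nat.one_lt_pow hm.ne' (by norm_num : 1 < 2)
  omega

include h2

/-- **`²E₆(q)`** -/
theorem not_rank_twE6 (hd : ¬ p ∣ q ^ 2 - 1) : ¬ PRankAtLeast p 4 ↥(twistedE6 K q) := by
  intro h
  have hp : p.Prime := Fact.out
  have : Fact (Nat.Prime 2) := ⟨Nat.prime_two⟩
  obtain ⟨k, hk0, hqk⟩ := exists_pow K hK
  have h5 : 5 ≤ p := by
    have h3 : p ≠ 3 := by
      rintro rfl
      apply hd
      rw [hqk]
      exact three_dvd k
    have := hp.two_le
    by_contra hlt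
    have h4 : p = 4 := by omega
    subst h4
    exact absurd hp (by norm_num)
  have hq : ((q : ℕ) : ZMod p) ≠ 0 := by
    rw [Ne, ZMod.natCast_eq_zero_iff, hqk]
    intro h
    exact h2 ((Nat.prime_dvd_prime_iff_eq hp Nat.prime_two).1 (hp.dvd_of_dvd_pow h))
  have hq2 : ((q : ℕ) : ZMod p) ^ 2 ≠ 1 := by
    intro h
    apply hd
    have hpos : 1 ≤ q := by rw [hqk]; exact Nat.one_le_pow _ _ (by norm_num)
    rw [← ZMod.natCast_eq_zero_iff, Nat.cast_sub (Nat.one_le_pow _ _ hpos), Nat.cast_pow, h, Nat.cast_one, sub_self]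
  obtain ⟨L, _, _, _, f, -, -, -, hQ⟩ := exists_ext K (p := p) h2
  have hex : ExpChar L 2 := ExpChar.prime Nat.prime_two
  have hexK : ExpChar K 2 := ExpChar.prime Nat.prime_two
  have hperf : PerfectRing L 2 := inferInstance
  set τ : L ≃+* L := iterateFrobeniusEquiv L 2 k with hτdef
  have hτ : ∀ a, τ a = a ^ q := by
    intro a
    rw [hτdef, iterateFrobeniusEquiv_def, hqk]
  set φ : K →+* K := iterateFrobenius K 2 k with hφdef
  have hφ : ∀ a, φ a = a ^ q := by
    intro a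
    rw [hφdef, iterateFrobenius_def, hqk]
  have hφφ : ∀ a : K, (a ^ q) ^ q = a := by
    intro a
    have := Fintype.ofFinite K
    rw [← pow_mul, ← sq, ← hK, Nat.card_eq_fintype_card, FiniteField.pow_card]
  have hfφ : ∀ a, (τ : L →+* L) (f a) = f (φ a) := by
    intro a
    show τ (f a) = f (φ a)
    rw [hτ, hφ, map_pow]
  obtain ⟨E, hab, hexp, hcard⟩ := exists_card_four h
  let cs := CoxeterMatrix.E₆.toCoxeterSystem
  have hWf := finite_W type_E6 cs
  -- the embedding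
  let ι : ↥(twistedE6 K q) →* ↥(chevE6.group L) :=
    (emb type_E6.inList f).comp (Subgroup.inclusion (twisted_le_group (K := K) q))
  have hι : Function.Injective ι := (emb_injective type_E6.inList f).comp (Subgroup.inclusion_injective _)
  have hGG : GG cs type_E6.isCartan (TT chevE6 L) (XX chevE6 6 L) = ⊤ := by
    rw [eq_top_iff, ← G1_eq_top type_E6 cs]
    exact le_sup_right
  have hP : ∀ y, y ∈ PJ cs type_E6.isCartan (TT chevE6 L) (XX chevE6 6 L) Set.univ := by
    intro y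
    apply LJ_le_PJ
    rw [LJ_univ, hGG]
    trivial
  refine Frob.not_four (r := 2) (T := TT chevE6 L) (X := XX chevE6 6 L) (rgd (K := L) type_E6 cs 2) (p := p) h2 hQ
    (coords type_E6 cs 2) (T_comm type_E6 cs 2) (faithful type_E6 cs 2) (ch_prod type_E6 cs 2) (tau_bet τ) (q := q) hτ
    (J := Set.univ) (fun y _ => hP _) ?_ ?_ ?_ (E := E.map ι) (fun y _ => hP y) ?_ ?_ ?_ ?_
  · rw [WJ_univ]
    have : Nat.card ↥(⊤ : Subgroup CoxeterMatrix.E₆.Group) = Nat.card CoxeterMatrix.E₆.Group :=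
      Nat.card_congr Subgroup.topEquiv.toEquiv
    rw [this]
    exact CardW.sq_not_dvd_W_E6 cs hp h5
  · intro w _ S hS
    exact Weyl.card_le' (cs := cs) (h := type_E6.isCartan) (CardW.formData_E6 h5) (σ := sg6) cartan_sg6
      (by decide) hq hq2 S hS
  · intro w _ S hS h3 v _ hv hfix
    exact Weyl.eq_one_of_fix' (cs := cs) (h := type_E6.isCartan) (CardW.formData_E6 h5) (σ := sg6) cartan_sg6
      (by decide) hq hq2 S hS (by rw [Fintype.card_fin]; norm_num) h5 h3 hv hfix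
  · rintro _ ⟨a, ha, rfl⟩ _ ⟨b, hb, rfl⟩
    rw [← map_mul, hab a ha b hb, map_mul]
  · rintro _ ⟨a, ha, rfl⟩
    rw [← map_pow, hexp a ha, map_one]
  · rw [Subgroup.card_map_of_injective hι, hcard]
  · rintro _ ⟨a, ha, rfl⟩
    apply Subtype.ext
    show TwE6Basic.sg (τ : L →+* L) (glMap chevE6 f (a : GL chevE6.Idx K)) = glMap chevE6 f (a : GL chevE6.Idx K)
    rw [sg_glMap hfφ]
    congr 1
    exact TwE6Basic.twisted_le_fix φ hφ hφφ a.2

omit h2

theorem sigma_dvd_twE6 {G : Type*} [Group G] (e : G ≃* ↥(twistedE6 K q)) {r : ℕ} (hr : r ∈ sigmaSet G) :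
    r ∣ q ^ 2 - 1 := by
  obtain ⟨hr, hr2, S, M, -, hM⟩ := hr
  by_contra hcon
  have : Fact r.Prime := ⟨hr⟩
  exact not_rank_twE6 K hK hr2 hcon (rank_congr e (rank_mono hM))

end Main

end Cfsg.Agent.PRankPar.TwE6

end

-- merged: Cfsg.Agent.GpExc.RowTw
section

/-!
# The row `twE6` of `NotCTRows` (helper75)
-/

set_option autoImplicit false

namespace Cfsg.Agent.GpExc.Row

open Cfsg Cfsg.Lie Cfsg.Agent.SigTab Cfsg.Agent.OrdCrit Cfsg.Agent.GpExc.Num

universe u

theorem twE6 (S : SporOrders.{u}) : NotCT.{u} (fun X _ => TwESixEven (fun q => 2 < q) X) := by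
  rintro G _ _ ⟨K, _, _, q, he, hK, hq2, ⟨e⟩⟩ p hp
  obtain ⟨h2, k, hk, hqk⟩ := field_even (F := K) (by rw [hK]; exact Even.pow_of_ne_zero he two_ne_zero)
  obtain ⟨j, hj, hqj⟩ : ∃ j, j ≤ k ∧ q = 2 ^ j :=
    (Nat.dvd_prime_pow Nat.prime_two).1 (by rw [← hqk, hK]; exact dvd_pow_self q two_ne_zero)
  have hj2 : 2 ≤ j := by
    by_contra hcon
    have h5 : q ≤ 2 := by
      rw [hqj]
      calc 2 ^ j ≤ 2 ^ 1 := Nat.pow_le_pow_right (by norm_num) (by omega)
        _ = 2 := by norm_num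
    omega
  have hqp : IsPrimePow q := by
    rw [hqj]
    exact Nat.prime_two.isPrimePow.pow (by omega)
  have : CharP K 2 := CharTwo.of_one_ne_zero_of_two_eq_zero one_ne_zero h2
  have hpq := PRankPar.TwE6.sigma_dvd_twE6 K (by rw [Nat.card_eq_fintype_card]; exact hK) e hp
  obtain ⟨φ, hφ, hqq⟩ := Cfsg.Agent.ChevalleyStructure.TwE6Basic.exists_frob hqp hK
  let cs : CoxeterSystem CoxeterMatrix.F₄ CoxeterMatrix.F₄.Group := CoxeterMatrix.F₄.toCoxeterSystem
  have : Finite CoxeterMatrix.F₄.Group :=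
    Cfsg.Agent.Nodes.RGDChev.finite_W Cfsg.Agent.GpExc.Chev.isTy_F4 cs
  have hout : Out ↥(twistedE6 K q) p q 15 21 :=
    TwOut.out hφ hqq cs hq2 hK h2 hp.1 hp.2.1 hpq (TwCard.exists_levi hφ hqq (by omega) hK cs)
      (TwCard.exists_pos hφ hqq (by omega) hK cs)
  refine not_lpoAll S e hp.1 hp.2.1 hout fun n n1 n2 n3 n4 => ?_
  exact num_TwE6 hp.1 hp.2.1 hqj hpq hj2 (S1066.result hqp hK) n1 n2 n3 n4

end Cfsg.Agent.GpExc.Row

end

-- merged: Cfsg.Agent.SigTab.Table
section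

/-!
# The table for S1805, S1806 (helper4: assembly)

`sigTable` : `SigTable`, from the list theorem (S0000) as hypothesis.
-/

set_option autoImplicit false

namespace Cfsg.Agent.SigTab.Table

open Cfsg Cfsg.Agent.SevenCases

universe u

/-- `FiveSig` -/
theorem fiveSig : FiveSig.{u} := TabFive.fiveSig SigB.Row.sigThree LThreeM.SigRow.sigThree

/-- `NotCTRows` -/
theorem notCT : NotCTRows.{u} :=
  TabNot.notCTRows (GpExc.Row.f4 OrdCrit.sporOrders) (GpExc.Row.e6 OrdCrit.sporOrders)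
    (GpExc.Row.e7 OrdCrit.sporOrders) (GpExc.Row.e8 OrdCrit.sporOrders) (GpExc.Row.twE6 OrdCrit.sporOrders)

/-- `NotResMore` -/
theorem notRes : NotResMore.{u} := NotResT.All.notResMore_of (GTwoRows.Rows.on_b GTwoRows.h1170)

/-- **`SigTable`**, from the list theorem as hypothesis. -/
theorem sigTable (hkn : ∀ (X : Type u) [Group X] [Finite X] [IsSimpleGroup X], IsKnownSimple' X) :
    SigTable.{u} where
  sig0Lie := TabSig.sig0Lie
  sig0Spor := TabSig.sig0Spor
  fiveSig := fiveSig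
  notCT := notCT
  gen := OddTab.Rows.genRows hkn
  b := OddTab.Rows.bRows
  bNotC := NotResT.Inst.bNotC
  notRes := notRes

end Cfsg.Agent.SigTab.Table

end

private theorem dce_fa860a49906d : _root_.True := by
  try have : _root_.True := by simp only [_root_.Cfsg.Agent.GpLn.Torus.tor.eq_1]
  try have : _root_.True := by simp only [_root_.Cfsg.Agent.GpOm.Two.rot.congr_simp]
  try have : _root_.True := by simp only [_root_.Cfsg.Agent.GpExc.TwCard.Pl.eq_1]
  try have : _root_.True := by simp only [_root_.Cfsg.Agent.GpOm.Two.rotV.eq_1]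
  try have : _root_.True := by simp only [_root_.Cfsg.Agent.SigZero.avg.eq_1]
  try have : _root_.True := by simp only [_root_.Cfsg.Agent.GpExc.TwCard.Pp.eq_1]
  exact _root_.True.intro
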